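import Groth.Agent.FormalB.HHLes

/-!
# Finiteness along the long exact cohomology sequence
-/

set_option autoImplicit false
universe u
open CategoryTheory CategoryTheory.Limits AlgebraicGeometry TopologicalSpace

namespace K685.FinLes

open Groth.Agent

theorem finite_mid {k A B C : Type*} [Ring k] [IsNoetherianRing k] [AddCommGroup A] [AddCommGroup B] [AddCommGroup C]
    [Module k A] [Module k B] [Module k C] {f : A →ₗ[k] B} {g : B →ₗ[k] C} (h : Function.Exact f g)
    (hA : Module.Finite k A) (hC : Module.Finite k C) : Module.Finite k B := by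
  have : Module.Finite k (LinearMap.range g) := inferInstance
  have h' : Function.Exact f g.rangeRestrict := fun x => by
    rw [← h x]
    exact ⟨fun hx => congrArg Subtype.val hx, fun hx => Subtype.ext hx⟩
  exact Module.Finite.of_exact h' g.surjective_rangeRestrict

variable {X : Scheme.{u}} (k : Type u) [CommRing k] [IsNoetherianRing k] [X.Over (Spec (CommRingCat.of k))]

theorem finite₃ {T : ShortComplex X.Modules} (hT : T.ShortExact) (n : ℕ)
    (h2 : Module.Finite k (Coh.HH X T.X₂ n)) (h1 : Module.Finite k (Coh.HH X T.X₁ (n + 1))) :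
    Module.Finite k (Coh.HH X T.X₃ n) :=
  finite_mid (FormalB.HHLes.exact_map_δ k hT n) h2 h1

theorem finite₂ {T : ShortComplex X.Modules} (hT : T.ShortExact) (n : ℕ)
    (h1 : Module.Finite k (Coh.HH X T.X₁ n)) (h3 : Module.Finite k (Coh.HH X T.X₃ n)) :
    Module.Finite k (Coh.HH X T.X₂ n) :=
  finite_mid (FormalB.HHLes.exact_map_map k hT n) h1 h3

theorem finite₁ {T : ShortComplex X.Modules} (hT : T.ShortExact) (n : ℕ)
    (h3 : Module.Finite k (Coh.HH X T.X₃ n)) (h2 : Module.Finite k (Coh.HH X T.X₂ (n + 1))) :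
    Module.Finite k (Coh.HH X T.X₁ (n + 1)) :=
  finite_mid (FormalB.HHLes.exact_δ_map k hT n) h3 h2

end K685.FinLes
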