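import Groth.Agent.CohDim.K685.DualSes
import Groth.Agent.CohDim.K685.FinLes
import Groth.Agent.Dcoh.DualFLF
import Groth.Agent.Dcoh.FlatSES
import Groth.Agent.Dcoh.Spread
import Groth.Agent.Sga67.CohLoc
import Groth.Agent.PerfA.CohSerre
import Groth.Agent.CohqB.HLin
import Groth.Prelude.Def_PerfAux

/-!
# Locally free modules on an open subscheme embed into restricted locally free modules
-/

set_option autoImplicit false
universe u
open CategoryTheory CategoryTheory.Limits MonoidalCategory AlgebraicGeometry TopologicalSpace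

namespace K685.DualEmb

open Groth.Agent
open scoped Groth.Agent.Dcoh.MonCat

section Flat

variable {X : Scheme.{u}} {S : ShortComplex X.Modules} (hS : S.ShortExact) (h3 : FlatMod.IsFinLocFree S.X₃)

include hS

theorem epi_whiskerLeft (N : X.Modules) : Epi (N ◁ S.g) := by
  have := hS.epi_g
  have : PreservesColimits (tensorLeft N) := inferInstanceAs (PreservesColimits (DCoh.tensorBi.obj N))
  exact inferInstanceAs (Epi ((tensorLeft N).map S.g))

include h3

theorem mono_whiskerRight (N : X.Modules) : Mono (S.f ▷ N) :=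
  (Dcoh.FlatSES.shortExact_tensor hS (Dcoh.Spread.isFlat_of_isFinLocFree h3) N).mono_f

theorem exact_whiskerLeft (N : X.Modules) (t : N ⊗ S.X₂ ⟶ 𝟙_ X.Modules) (ht : N ◁ S.f ≫ t = 0) :
    ∃ t', N ◁ S.g ≫ t' = t := by
  have h1 := Dcoh.FlatSES.shortExact_tensor' hS (Dcoh.Spread.isFlat_of_isFinLocFree h3) N
  have := h1.epi_g
  exact ⟨h1.exact.desc t ht, h1.exact.g_desc t ht⟩

end Flat


section Emb

variable {X : Scheme.{u}} [IsNoetherian X] (hR : PerfAux.HasResolutionProperty X) {U : Scheme.{u}} (j : U ⟶ X)
  [IsOpenImmersion j]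

include hR

/-- A finite locally free module on an open subscheme embeds into the restriction of a finite locally free module,
with finite locally free cokernel. -/
theorem exists_embed (F : U.Modules) (hF : FlatMod.IsFinLocFree F) :
    ∃ (L : X.Modules) (C : U.Modules) (f : F ⟶ L.restrict j) (g : L.restrict j ⟶ C) (w : f ≫ g = 0),
      FlatMod.IsFinLocFree L ∧ FlatMod.IsFinLocFree C ∧ (ShortComplex.mk f g w).ShortExact := by
  obtain ⟨F', ⟨hFF'⟩⟩ := Dcoh.DualFLF.exists_exactPairing hF
  have hF' : FlatMod.IsFinLocFree F' := Dcoh.DualFLF.isFinLocFree_dual hF F'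
  obtain ⟨G, hG, ⟨e⟩⟩ := Sga67.CohLoc.exists_extension j F' (PerfA.CohSerre.isCoh_of_isFinLocFree hF')
  obtain ⟨E, π, hE, hπ⟩ := hR G hG.1 hG.2
  obtain ⟨E', ⟨hEE'⟩⟩ := Dcoh.DualFLF.exists_exactPairing hE
  have hE' : FlatMod.IsFinLocFree E' := Dcoh.DualFLF.isFinLocFree_dual hE E'
  let p : E.restrict j ⟶ F' := (Scheme.Modules.restrictFunctor j).map π ≫ e.hom
  have hp : Epi p := by
    have : Epi ((Scheme.Modules.restrictFunctor j).map π) := inferInstance
    exact epi_comp _ _
  have hEj : FlatMod.IsFinLocFree (E.restrict j) := Dcoh.FinLocFree.isFinLocFree_restrict hE j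
  have hK : FlatMod.IsFinLocFree (kernel p) := Dcoh.Spread.isFinLocFree_kernel p hEj hF'
  obtain ⟨K', ⟨hKK'⟩⟩ := Dcoh.DualFLF.exists_exactPairing hK
  have hK' : FlatMod.IsFinLocFree K' := Dcoh.DualFLF.isFinLocFree_dual hK K'
  let S : ShortComplex U.Modules := ShortComplex.mk (kernel.ι p) p (kernel.condition p)
  have hS : S.ShortExact := { exact := ShortComplex.exact_kernel p, mono_f := by dsimp [S]; infer_instance, epi_g := hp }
  let h1 : HasRightDual S.X₁ := { rightDual := K', exact := hKK' }
  let h2 : HasRightDual S.X₂ := { rightDual := E'.restrict j, exact := Dcoh.DualFLF.restrictPairing j E E' }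
  let h3 : HasRightDual S.X₃ := { rightDual := F, exact := BraidedCategory.exactPairing_swap F F' }
  have key := DualSes.shortExact_mate S (epi_whiskerLeft hS) (exact_whiskerLeft hS hF') (mono_whiskerRight hS hF')
  exact ⟨E', K', _, _, _, hE', hK', key⟩


/-- Finiteness of the cohomology of finite locally free modules on an open subscheme follows from that of restricted
ones. -/
theorem finite_of_restrict {k : Type u} [CommRing k] [IsNoetherianRing k] [U.Over (Spec (CommRingCat.of k))] (c : ℕ)
    (hE : ∀ L : X.Modules, FlatMod.IsFinLocFree L → ∀ i < c, Module.Finite k (Coh.HH U (L.restrict j) i))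
    (i : ℕ) : ∀ F : U.Modules, FlatMod.IsFinLocFree F → i < c → Module.Finite k (Coh.HH U F i) := by
  induction i with
  | zero =>
    intro F hF hc
    obtain ⟨L, C, f, g, w, hL, hC, hS⟩ := exists_embed hR j F hF
    have h1 := hE L hL 0 hc
    exact Module.Finite.of_injective (CohqB.HLin.HHmapA k f 0) (CohqB.HLin.HHmap_injective_zero hS)
  | succ i ih =>
    intro F hF hc
    obtain ⟨L, C, f, g, w, hL, hC, hS⟩ := exists_embed hR j F hF
    exact FinLes.finite₁ k hS i (ih C hC (by lia)) (hE L hL (i + 1) hc)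

end Emb

end K685.DualEmb
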