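import Groth.Agent.CohDim.K685.Resol
import Groth.Agent.VarietyA.AmpleNegPow
import Groth.Agent.Ega2.TensLift
import Groth.Agent.CycB.CohProp
import Groth.Prelude.Def_ClSub2

/-!
# Coherent modules as quotients of sums of negative powers of an ample module
-/

set_option autoImplicit false
universe u
open CategoryTheory CategoryTheory.Limits AlgebraicGeometry TopologicalSpace

namespace K685.ResolAmple

open Groth.Agent

variable {X : Scheme.{u}}

/-- `E` is a finite direct sum of copies of `M ^ N` for some `N ≥ n₀`. -/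
def NegSum (M : X.Modules) (n₀ : ℕ) (E : X.Modules) : Prop :=
  ∃ (N : ℕ) (_ : n₀ ≤ N) (κ : Type u) (_ : Finite κ), Nonempty (E ≅ (∐ fun _ : κ => CohB1.tensorPow M N))

theorem exists_negSum {L M : X.Modules} (hL : CohB1.IsAmple L) (hM : ClSub.IsInverseOf M L) (n₀ : ℕ)
    {F : X.Modules} (hF : Coh.IsCoh F) :
    ∃ (E : X.Modules) (π : E ⟶ F), NegSum M n₀ E ∧ Epi π := by
  obtain ⟨e⟩ := hM
  obtain ⟨N, hN, κ, hκ, φ, hφ⟩ := VarietyA.AmpleNegPow.exists_epi hL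
    (Ega2.Tens.swap L M ≪≫ e) n₀ hF.1 hF.2
  exact ⟨_, Sigma.desc φ, ⟨N, hN, κ, hκ, ⟨Iso.refl _⟩⟩, hφ⟩

theorem isInvertible_of_iso {L L' : X.Modules} (e : L ≅ L') (h : PicF.IsInvertible L) :
    PicF.IsInvertible L' := fun x => by
  obtain ⟨U, hx, ⟨e'⟩⟩ := h x
  exact ⟨U, hx, ⟨(Scheme.Modules.restrictFunctor U.ι).mapIso e.symm ≪≫ e'⟩⟩

theorem isInvertible_of_isInverseOf {L M : X.Modules} (hL : PicF.IsInvertible L)
    (hM : ClSub.IsInverseOf M L) : PicF.IsInvertible M := by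
  obtain ⟨e⟩ := hM
  obtain ⟨L', hL', ⟨e'⟩⟩ := Grpsch.PicGrp.exists_inverse hL
  let θ := (PerfB.TensInv.tensorInvIso e').app M
  let i : M ≅ L' := θ.symm ≪≫ (DCoh.tensorRightMod L').mapIso e ≪≫ Ega2.Tens.lunit L'
  exact isInvertible_of_iso i.symm hL'

theorem isFinLocFree_of_isInvertible {L : X.Modules} (hL : PicF.IsInvertible L) : FlatMod.IsFinLocFree L :=
  Ega2.QCohLocal.isFinLocFree_of_rank (Ega2.QCohLocal.isFinLocFreeOfRank_one_iff.mpr hL)

theorem isCoh_of_isInvertible {L : X.Modules} (hL : PicF.IsInvertible L) : Coh.IsCoh L :=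
  PerfA.CohSerre.isCoh_of_isFinLocFree (isFinLocFree_of_isInvertible hL)

theorem NegSum.isCoh [IsLocallyNoetherian X] {M : X.Modules} (hM : PicF.IsInvertible M) {n₀ : ℕ} {E : X.Modules}
    (h : NegSum M n₀ E) : Coh.IsCoh E := by
  obtain ⟨N, _, κ, _, ⟨e⟩⟩ := h
  exact PerfA.CohSerre.isCoh_of_iso e.symm (CycB.CohProp.isCoh_finite_coproduct _ fun _ =>
    isCoh_of_isInvertible (Fdesc.LocGen.isInvertible_tensorPow hM N))

theorem NegSum.subsingleton {M : X.Modules} {n₀ : ℕ} {E : X.Modules}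
    (h : NegSum M n₀ E) (i : ℕ) (hv : ∀ m : ℕ, n₀ ≤ m → Subsingleton (Coh.HH X (CohB1.tensorPow M m) i)) :
    Subsingleton (Coh.HH X E i) := by
  obtain ⟨N, hN, κ, _, ⟨e⟩⟩ := h
  obtain ⟨n, ⟨f⟩⟩ := Finite.exists_equiv_fin κ
  let e' : (∐ fun _ : κ => CohB1.tensorPow M N) ≅ (∐ fun _ : Fin n => CohB1.tensorPow M N) :=
    Sigma.whiskerEquiv (g := fun _ : Fin n => CohB1.tensorPow M N) f (fun _ => Iso.refl _)
  exact Fga.HShift.subsingleton_of_iso (e ≪≫ e').symm i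
    (Fga.HShift.subsingleton_coproduct _ i fun _ => hv N hN)

end K685.ResolAmple
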