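import Groth.Agent.CohDim.K685.HasseOp
import Groth.Agent.CohqA.HOpen

/-!
# Descending the vanishing of an additive functor of `O(-n-1-q)` in `q`
-/

set_option autoImplicit false

universe u w

open CategoryTheory CategoryTheory.Limits AlgebraicGeometry TopologicalSpace Opposite TopCat

noncomputable section

namespace K685.HasseCoh

open Groth.Agent K685.HasseOp

variable {k : Type u} [CommRing k] {n : ℕ}
variable (Φ : Sheaf (Opens.grothendieckTopology (CohB1.ProjSpace n k)) AddCommGrpCat.{u} ⥤ AddCommGrpCat.{w})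
  [Φ.Additive]

theorem socle (a : ℤ) (hV : Subsingleton (Φ.obj (Coh.toAb (Twist.twistProjSpace n k (a + 1)))))
    (v : Φ.obj (Coh.toAb (Twist.twistProjSpace n k a))) (m : ℕ) :
    ∀ (c : Fin (n + 1) →₀ ℕ) (_ : c.degree = m) (b : ℤ) (h : a = b + c.degree),
      (Φ.map (mOp c b a h)).hom ((Φ.map (dOp c a b h)).hom v) = (-1 : ℤ) ^ m • v := by
  induction m with
  | zero =>
    intro c hc b h
    rw [Finsupp.degree_eq_zero_iff] at hc
    subst hc
    have hb : a = b := by rw [h]; simp
    subst hb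
    have e1 : dOp (n := n) (k := k) 0 a a h = 𝟙 _ := by
      refine K685.TwistOp.IsOp.hom_ext (K685.TwistOp.isOp_opMap _) K685.TwistOp.IsOp.id fun x j s _ f _ hx => ?_
      exact K685.Taylor.D_zero (Mx x) _
    have e2 : mOp (n := n) (k := k) 0 a a h = 𝟙 _ := by
      refine K685.TwistOp.IsOp.hom_ext (K685.TwistOp.isOp_opMap _) K685.TwistOp.IsOp.id fun x j s _ f _ hx => ?_
      have key : ∀ u : Localization (Mx x), algebraMap (MvPolynomial (Fin (n + 1)) k) (Localization (Mx x))
          (MvPolynomial.monomial 0 1) * u = u := by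
        intro u
        rw [show (MvPolynomial.monomial (0 : Fin (n + 1) →₀ ℕ) (1 : k)) = 1 from rfl, map_one, one_mul]
      exact key (Localization.mk f ⟨s, hx⟩)
    rw [e1, e2, Φ.map_id, pow_zero, one_smul]
    rfl
  | succ m ih =>
    intro c hc b h
    obtain ⟨j, hj⟩ : ∃ j, c j ≠ 0 := by
      by_contra hcon
      push Not at hcon
      have : c = 0 := Finsupp.ext hcon
      rw [this] at hc
      simp at hc
    obtain ⟨c', rfl⟩ : ∃ c' : Fin (n + 1) →₀ ℕ, c = c' + Finsupp.single j 1 :=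
      ⟨c - Finsupp.single j 1, (tsub_add_cancel_of_le (Finsupp.single_le_iff.2 (Nat.one_le_iff_ne_zero.2 hj))).symm⟩
    have hc' : c'.degree = m := by
      rw [map_add, Finsupp.degree_single] at hc
      omega
    obtain ⟨b', rfl⟩ : ∃ b' : ℤ, b = b' - 1 := ⟨b + 1, by ring⟩
    have hd : (c' + Finsupp.single j 1).degree = c'.degree + 1 := by rw [map_add, Finsupp.degree_single]
    have hs : (Finsupp.single j 1 : Fin (n + 1) →₀ ℕ).degree = 1 := Finsupp.degree_single _ _
    have hb' : a = b' + c'.degree := by rw [h, hd]; push_cast; ring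
    have h2 : b' = (b' - 1) + (Finsupp.single j 1 : Fin (n + 1) →₀ ℕ).degree := by rw [hs]; push_cast; ring
    have h3 : a + 1 = a + (Finsupp.single j 1 : Fin (n + 1) →₀ ℕ).degree := by rw [hs]; push_cast; ring
    have h4 : a + 1 = b' + (c' + Finsupp.single j 1).degree := by rw [h, hd]; push_cast; ring
    have e1 : mOp (k := k) (c' + Finsupp.single j 1) (b' - 1) a h =
        mOp (Finsupp.single j 1) (b' - 1) b' h2 ≫ mOp c' b' a hb' := by
      have h'' : a = b' - 1 + (Finsupp.single j 1 + c').degree := by rw [add_comm (Finsupp.single j 1)]; exact h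
      rw [mOp_mOp _ _ _ _ _ _ _ h'']
      congr 1
      exact add_comm _ _
    have e2 := dOp_mOp (k := k) c' j a b' hb' h h2 h3 h4
    have e3 : (Φ.map (mOp (Finsupp.single j 1) (b' - 1) b' h2)).hom
        ((Φ.map (dOp (c' + Finsupp.single j 1) a (b' - 1) h)).hom v) = -(Φ.map (dOp c' a b' hb')).hom v := by
      have h5 := congrArg (fun ψ => (Φ.map ψ).hom v) e2
      simp only [Functor.map_add, Functor.map_comp] at h5
      have h6 : (Φ.map (mOp (k := k) (Finsupp.single j 1) a (a + 1) h3)).hom v = 0 := Subsingleton.elim _ _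
      have h7 : (Φ.map (mOp (k := k) (Finsupp.single j 1) (b' - 1) b' h2)).hom
        ((Φ.map (dOp (c' + Finsupp.single j 1) a (b' - 1) h)).hom v) + (Φ.map (dOp c' a b' hb')).hom v =
          (Φ.map (dOp (c' + Finsupp.single j 1) (a + 1) b' h4)).hom
            ((Φ.map (mOp (k := k) (Finsupp.single j 1) a (a + 1) h3)).hom v) := h5
      rw [h6, map_zero] at h7
      exact eq_neg_of_add_eq_zero_left h7
    rw [e1, Functor.map_comp]
    change (Φ.map (mOp c' b' a hb')).hom ((Φ.map (mOp (Finsupp.single j 1) (b' - 1) b' h2)).hom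
        ((Φ.map (dOp (c' + Finsupp.single j 1) a (b' - 1) h)).hom v)) = _
    rw [e3, map_neg, ih c' hc' b' hb', pow_succ, mul_neg_one, neg_smul]

/-- Evaluation of `Φ.map` at an element. -/
def ev {F G : Sheaf (Opens.grothendieckTopology (CohB1.ProjSpace n k)) AddCommGrpCat.{u}} (v : Φ.obj F) :
    (F ⟶ G) →+ Φ.obj G where
  toFun ψ := (Φ.map ψ).hom v
  map_zero' := by rw [Functor.map_zero]; rfl
  map_add' ψ ψ' := by rw [Functor.map_add]; rfl

theorem ev_comp {F G H : Sheaf (Opens.grothendieckTopology (CohB1.ProjSpace n k)) AddCommGrpCat.{u}} (v : Φ.obj F)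
    (ψ : F ⟶ G) (ψ' : G ⟶ H) : ev Φ v (ψ ≫ ψ') = (Φ.map ψ').hom ((Φ.map ψ).hom v) := by
  change (Φ.map (ψ ≫ ψ')).hom v = _
  rw [Functor.map_comp]
  rfl

theorem step (q : ℕ) (hq : q ≠ 0)
    (hV : Subsingleton (Φ.obj (Coh.toAb (Twist.twistProjSpace n k (-((n + 1 + q : ℕ) : ℤ) + 1))))) :
    Subsingleton (Φ.obj (Coh.toAb (Twist.twistProjSpace n k (-((n + 1 + q : ℕ) : ℤ))))) := by
  refine subsingleton_of_forall_eq 0 fun v => ?_
  have h := congrArg (ev Φ v) (euler (k := k) (n := n) (n + 1 + q) q hq)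
  rw [map_sum, map_zero] at h
  have h1 : (∑ p ∈ Finset.antidiagonal q, ((n + 1 + q).choose p.1 : ℤ) *
      ((-1) ^ p.2 * (Finset.card (Finset.finsuppAntidiag (Finset.univ : Finset (Fin (n + 1))) p.2) : ℤ))) • v = 0 := by
    rw [Finset.sum_smul]
    refine (Finset.sum_congr rfl fun p _ => ?_).trans h
    rw [map_nsmul, map_sum, mul_smul, natCast_zsmul]
    congr 1
    rw [mul_comm, mul_smul, natCast_zsmul, ← Finset.sum_const]
    refine Finset.sum_congr rfl fun c hc => ?_
    rw [Finset.mem_finsuppAntidiag] at hc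
    rw [ev_comp]
    refine (socle Φ _ hV v p.2 c ?_ _ _).symm
    rw [Finsupp.degree_eq_sum]
    exact hc.1
  rw [K685.Taylor.sum_choose_card, one_smul] at h1
  exact h1

theorem all (h0 : Subsingleton (Φ.obj (Coh.toAb (Twist.twistProjSpace n k (-((n + 1 : ℕ) : ℤ)))))) (q : ℕ) :
    Subsingleton (Φ.obj (Coh.toAb (Twist.twistProjSpace n k (-((n + 1 + q : ℕ) : ℤ))))) := by
  induction q with
  | zero => exact h0
  | succ q ih =>
    refine step Φ (q + 1) (by omega) ?_
    rwa [show -((n + 1 + (q + 1) : ℕ) : ℤ) + 1 = -((n + 1 + q : ℕ) : ℤ) by push_cast; ring]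

theorem obj_eq {X : Scheme.{u}} (U : X.Opens) (M : X.Modules) (i : ℕ) :
    (((CohqA.HOpen.resFunctor U.ι.isOpenEmbedding ⋙ Sheaf.functorH (Opens.grothendieckTopology U) i).obj
      (Coh.toAb M) : AddCommGrpCat.{u}) : Type u) = Coh.HH (U : Scheme.{u}) (M.restrict U.ι) i := by
  change Sheaf.H ((CohqA.HOpen.resFunctor U.ι.isOpenEmbedding).obj (Coh.toAb M)) i = _
  rw [← CohqA.HOpen.toAb_restrict]

/-- The version for the cohomology of the restriction to an open subscheme. -/
theorem hh_restrict (U : (CohB1.ProjSpace n k).Opens) (i : ℕ)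
    (h0 : Subsingleton (Coh.HH (U : Scheme.{u}) ((Twist.twistProjSpace n k (-((n + 1 : ℕ) : ℤ))).restrict U.ι) i))
    (q : ℕ) :
    Subsingleton (Coh.HH (U : Scheme.{u}) ((Twist.twistProjSpace n k (-((n + 1 + q : ℕ) : ℤ))).restrict U.ι) i) := by
  rw [← obj_eq] at h0 ⊢
  exact all (CohqA.HOpen.resFunctor U.ι.isOpenEmbedding ⋙ Sheaf.functorH _ i) h0 q

end K685.HasseCoh
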