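import Groth.Agent.CurvesA.TopDeg
import Groth.Agent.CohtopA.MVElem
import Groth.Agent.CohDim.K685.FinLes

/-!
# The Mayer-Vietoris sequence is linear over the base ring
-/

set_option autoImplicit false
universe u
open CategoryTheory CategoryTheory.Limits AlgebraicGeometry TopologicalSpace Opposite Abelian

noncomputable section

namespace K685.MVLin

open Groth.Agent Groth.Agent.CohqA.HOpen Groth.Agent.CurvesA.TopDeg

variable {X : Scheme.{u}}

/-- Multiplication by a global function on `H^n(V, M)`. -/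
abbrev act (M : X.Modules) (r : Coh.Γtop X) (n : ℕ) (V : X.Opens) :
    CohTop.HU (X := X.toTopCat) (Coh.toAb M) n V →+ CohTop.HU (X := X.toTopCat) (Coh.toAb M) n V :=
  CohTop.HUmap (X := X.toTopCat) (Coh.smulAb M r) n V

theorem res_act (M : X.Modules) (r : Coh.Γtop X) (n : ℕ) {U V : X.Opens} (h : V ≤ U)
    (x : CohTop.HU (X := X.toTopCat) (Coh.toAb M) n U) :
    CohTop.res (X := X.toTopCat) (Coh.toAb M) n h (act M r n U x) =
      act M r n V (CohTop.res (X := X.toTopCat) (Coh.toAb M) n h x) :=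
  (ConcreteCategory.congr_hom (((Sheaf.cohomologyPresheafFunctor
      (Opens.grothendieckTopology X) n).map (Coh.smulAb M r)).naturality (homOfLE h).op) x).symm

theorem HHonEquiv_act (M : X.Modules) (r : Coh.Γtop X) (n : ℕ) (V : X.Opens)
    (x : CohTop.HU (X := X.toTopCat) (Coh.toAb M) n V) :
    HHonEquiv M V n (act M r n V x) = gl V.ι r • HHonEquiv M V n x := by
  have key : ∀ (U : X.Opens) (hU : V = U)
      (x : CohTop.HU (X := X.toTopCat) (Coh.toAb M) n V),
      HUCongr (X := X.toTopCat) (Coh.toAb M) n hU (act M r n V x) =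
        act M r n U (HUCongr (X := X.toTopCat) (Coh.toAb M) n hU x) := by
    rintro _ rfl x
    rfl
  have h1 := restrict_smulAb V.ι M r
  change (HHTopEquiv (M.restrict V.ι) n).symm (HUEquiv V.ι M ⊤ n (HUCongr (X := X.toTopCat) (Coh.toAb M) n _
    (act M r n V x))) = Sheaf.H.map (Coh.smulAb (M.restrict V.ι) (gl V.ι r)) n
      ((HHTopEquiv (M.restrict V.ι) n).symm (HUEquiv V.ι M ⊤ n (HUCongr (X := X.toTopCat) (Coh.toAb M) n _ x)))
  rw [key, ← h1]
  refine Eq.trans ?_ (HTopEquiv_symm_map (X := (V : Scheme.{u}).toTopCat)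
    ((resFunctor V.ι.isOpenEmbedding).map (Coh.smulAb M r)) n _)
  refine congrArg _ ?_
  exact compareOpen_map (X := (V : Scheme.{u}).toTopCat) (Y := X.toTopCat) V.ι.isOpenEmbedding ⊤
    (Coh.smulAb M r) n _


theorem δ_act (M : X.Modules) (r : Coh.Γtop X) (n : ℕ) (A B : X.Opens)
    (x : CohTop.HU (X := X.toTopCat) (Coh.toAb M) n (A ⊓ B)) :
    CohtopA.MVElem.δ (X := X.toTopCat) (Coh.toAb M) A B n (act M r n (A ⊓ B) x) =
      act M r (n + 1) (A ⊔ B) (CohtopA.MVElem.δ (X := X.toTopCat) (Coh.toAb M) A B n x) := by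
  have := Ext.comp_assoc (Opens.mayerVietorisSquare (T := X.toTopCat) A B).shortComplex_shortExact.extClass x
    (Ext.mk₀ (Coh.smulAb M r)) (add_comm 1 n) (add_zero n) (by lia : 1 + n + 0 = n + 1)
  exact this.symm

section Abstract

variable {C : Type*} [Category C] [Abelian C] [HasExt.{u} C]

theorem exists_sub_ext {A₁ A₂ A₃ A₄ : C} (f₁₂ : A₁ ⟶ A₂) (f₁₃ : A₁ ⟶ A₃) (f₂₄ : A₂ ⟶ A₄)
    (f₃₄ : A₃ ⟶ A₄) (w : biprod.lift f₁₂ (-f₁₃) ≫ biprod.desc f₂₄ f₃₄ = 0)
    (hS : (ShortComplex.mk (biprod.lift f₁₂ (-f₁₃)) (biprod.desc f₂₄ f₃₄) w).ShortExact)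
    (F : C) (n : ℕ) (x : Ext A₁ F n) (hx : hS.extClass.comp x (add_comm 1 n) = 0) :
    ∃ (a : Ext A₂ F n) (b : Ext A₃ F n),
      x = (Ext.mk₀ f₁₂).comp a (zero_add n) + (Ext.mk₀ f₁₃).comp b (zero_add n) := by
  obtain ⟨y, hy⟩ := Ext.contravariant_sequence_exact₁ hS F x (add_comm 1 n) hx
  refine ⟨(Ext.mk₀ biprod.inl).comp y (zero_add n), -(Ext.mk₀ biprod.inr).comp y (zero_add n), ?_⟩
  have h1 : biprod.lift f₁₂ (-f₁₃) = f₁₂ ≫ (biprod.inl : A₂ ⟶ A₂ ⊞ A₃) + (-f₁₃) ≫ biprod.inr := by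
    apply biprod.hom_ext <;> simp
  rw [← hy]
  dsimp only
  rw [h1, Ext.mk₀_add, Ext.add_comp, Ext.comp_neg, Ext.mk₀_comp_mk₀_assoc, Ext.mk₀_comp_mk₀_assoc,
    Preadditive.neg_comp, Ext.mk₀_neg, Ext.neg_comp]

end Abstract

section Ab

variable {Y : TopCat.{u}} (F : CohTop.Ab Y)

/-- Exactness of the Mayer-Vietoris sequence at the cohomology of the intersection. -/
theorem exists_sub {A B : Opens Y} (n : ℕ) (x : CohTop.HU F n (A ⊓ B))
    (hx : CohtopA.MVElem.δ F A B n x = 0) :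
    ∃ (a : CohTop.HU F n A) (b : CohTop.HU F n B),
      x = CohTop.res F n inf_le_left a + CohTop.res F n inf_le_right b :=
  exists_sub_ext _ _ _ _ (Opens.mayerVietorisSquare A B).shortComplex.zero
    (Opens.mayerVietorisSquare A B).shortComplex_shortExact F n x hx

end Ab

section Lin

variable (k : Type u) [CommRing k] [X.Over (Spec (CommRingCat.of k))] (M : X.Modules)

theorem HHonEquiv_act_toGlobal (c : k) (n : ℕ) (V : X.Opens)
    (x : CohTop.HU (X := X.toTopCat) (Coh.toAb M) n V) :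
    HHonEquiv M V n (act M (Coh.toGlobal (X ↘ Spec (CommRingCat.of k)) c) n V x) =
      c • HHonEquiv M V n x := by
  rw [HHonEquiv_act, gl_toGlobal V.ι (X ↘ Spec (CommRingCat.of k)) ((V : Scheme.{u}) ↘ Spec (CommRingCat.of k)) rfl]
  rfl

theorem HHonEquiv_symm_smul (c : k) (n : ℕ) (V : X.Opens) (y : Coh.HHon X M V n) :
    (HHonEquiv M V n).symm (c • y) =
      act M (Coh.toGlobal (X ↘ Spec (CommRingCat.of k)) c) n V ((HHonEquiv M V n).symm y) := by
  apply (HHonEquiv M V n).injective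
  rw [HHonEquiv_act_toGlobal, AddEquiv.apply_symm_apply, AddEquiv.apply_symm_apply]

/-- Restriction, linear over the base. -/
def resL (n : ℕ) {U V : X.Opens} (h : V ≤ U) : Coh.HHon X M U n →ₗ[k] Coh.HHon X M V n where
  toFun y := HHonEquiv M V n (CohTop.res (X := X.toTopCat) (Coh.toAb M) n h ((HHonEquiv M U n).symm y))
  map_add' y z := by rw [map_add, map_add, map_add]
  map_smul' c y := by
    rw [HHonEquiv_symm_smul, res_act, HHonEquiv_act_toGlobal]
    rfl

/-- The Mayer-Vietoris connecting map, linear over the base. -/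
def δL (n : ℕ) (A B : X.Opens) : Coh.HHon X M (A ⊓ B) n →ₗ[k] Coh.HHon X M (A ⊔ B) (n + 1) where
  toFun y := HHonEquiv M (A ⊔ B) (n + 1)
    (CohtopA.MVElem.δ (X := X.toTopCat) (Coh.toAb M) A B n ((HHonEquiv M (A ⊓ B) n).symm y))
  map_add' y z := by rw [map_add, map_add, map_add]
  map_smul' c y := by
    rw [HHonEquiv_symm_smul, δ_act, HHonEquiv_act_toGlobal]
    rfl

theorem exact_inf (n : ℕ) (A B : X.Opens) :
    LinearMap.ker (δL k M n A B) ≤
      LinearMap.range ((resL k M n (inf_le_left : A ⊓ B ≤ A)).coprod (resL k M n (inf_le_right : A ⊓ B ≤ B))) := by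
  intro y hy
  have h1 : CohtopA.MVElem.δ (X := X.toTopCat) (Coh.toAb M) A B n ((HHonEquiv M (A ⊓ B) n).symm y) = 0 :=
    (HHonEquiv M (A ⊔ B) (n + 1)).injective (hy.trans (map_zero _).symm)
  obtain ⟨a, b, hab⟩ := exists_sub (Y := X.toTopCat) (Coh.toAb M) n _ h1
  refine ⟨(HHonEquiv M A n a, HHonEquiv M B n b), ?_⟩
  apply (HHonEquiv M (A ⊓ B) n).symm.injective
  rw [hab, LinearMap.coprod_apply, map_add]
  change (HHonEquiv M (A ⊓ B) n).symm (HHonEquiv M (A ⊓ B) n (CohTop.res (X := X.toTopCat) (Coh.toAb M) n _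
    ((HHonEquiv M A n).symm (HHonEquiv M A n a)))) + (HHonEquiv M (A ⊓ B) n).symm
      (HHonEquiv M (A ⊓ B) n (CohTop.res (X := X.toTopCat) (Coh.toAb M) n _
    ((HHonEquiv M B n).symm (HHonEquiv M B n b)))) = _
  rw [AddEquiv.symm_apply_apply, AddEquiv.symm_apply_apply, AddEquiv.symm_apply_apply,
    AddEquiv.symm_apply_apply]

/-- Finiteness of the cohomology of the intersection. -/
theorem finite_inf [IsNoetherianRing k] (n : ℕ) (A B : X.Opens)
    (hA : Module.Finite k (Coh.HHon X M A n)) (hB : Module.Finite k (Coh.HHon X M B n))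
    (hAB : Module.Finite k (Coh.HHon X M (A ⊔ B) (n + 1))) :
    Module.Finite k (Coh.HHon X M (A ⊓ B) n) := by
  have h1 : Module.Finite k (LinearMap.ker (δL k M n A B)) :=
    Module.Finite.of_injective (Submodule.inclusion (exact_inf k M n A B))
      (Submodule.inclusion_injective _)
  exact FinLes.finite_mid (f := (LinearMap.ker (δL k M n A B)).subtype) (g := δL k M n A B)
    (LinearMap.exact_subtype_ker_map _) h1 hAB

/-- Exactness at the cohomology of the union. -/
theorem exact_sup (n : ℕ) (A B : X.Opens) (y : Coh.HHon X M (A ⊔ B) (n + 1))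
    (hA : resL k M (n + 1) (le_sup_left : A ≤ A ⊔ B) y = 0)
    (hB : resL k M (n + 1) (le_sup_right : B ≤ A ⊔ B) y = 0) :
    y ∈ LinearMap.range (δL k M n A B) := by
  obtain ⟨η, hη⟩ := CohtopA.MVElem.exists_δ (X := X.toTopCat) (Coh.toAb M) n
    ((HHonEquiv M (A ⊔ B) (n + 1)).symm y)
    ((HHonEquiv M A (n + 1)).injective (hA.trans (map_zero _).symm))
    ((HHonEquiv M B (n + 1)).injective (hB.trans (map_zero _).symm))
  refine ⟨HHonEquiv M (A ⊓ B) n η, ?_⟩
  apply (HHonEquiv M (A ⊔ B) (n + 1)).symm.injective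
  rw [← hη]
  change (HHonEquiv M (A ⊔ B) (n + 1)).symm (HHonEquiv M (A ⊔ B) (n + 1)
    (CohtopA.MVElem.δ (X := X.toTopCat) (Coh.toAb M) A B n
      ((HHonEquiv M (A ⊓ B) n).symm (HHonEquiv M (A ⊓ B) n η)))) = _
  rw [AddEquiv.symm_apply_apply, AddEquiv.symm_apply_apply]

/-- Finiteness of the cohomology of the union. -/
theorem finite_sup [IsNoetherianRing k] (n : ℕ) (A B : X.Opens)
    (hA : Module.Finite k (Coh.HHon X M A (n + 1))) (hB : Module.Finite k (Coh.HHon X M B (n + 1)))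
    (hAB : Module.Finite k (Coh.HHon X M (A ⊓ B) n)) :
    Module.Finite k (Coh.HHon X M (A ⊔ B) (n + 1)) := by
  let ρ := (resL k M (n + 1) (le_sup_left : A ≤ A ⊔ B)).prod (resL k M (n + 1) (le_sup_right : B ≤ A ⊔ B))
  have h1 : LinearMap.ker ρ ≤ LinearMap.range (δL k M n A B) := fun y hy =>
    exact_sup k M n A B y (congrArg Prod.fst hy) (congrArg Prod.snd hy)
  have h2 : Module.Finite k (LinearMap.ker ρ) :=
    Module.Finite.of_injective (Submodule.inclusion h1) (Submodule.inclusion_injective _)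
  exact FinLes.finite_mid (f := (LinearMap.ker ρ).subtype) (g := ρ)
    (LinearMap.exact_subtype_ker_map _) h2 inferInstance

end Lin

end K685.MVLin
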