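import Groth.Agent.CohDim.K685.Divis
import Groth.Agent.CohDim.K685.MVLin
import Groth.Agent.S0007
import Groth.Agent.S0002

/-!
# Infinite-dimensional cohomology of the complement of a closed set with an isolated point
-/

set_option autoImplicit false
universe u
open CategoryTheory CategoryTheory.Limits AlgebraicGeometry TopologicalSpace

namespace K685.Punct

open Groth.Agent Groth.Agent.CurvesA.TopDeg

section Aff

variable {W : Scheme.{u}}

theorem affine_van (V : W.Opens) (hV : IsAffineOpen V) (F : W.Modules) (hF : Coh.IsQCoh F) (n : ℕ) (hn : 0 < n) :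
    Subsingleton (Coh.HHon W F V n) := by
  have : IsAffine (V : Scheme.{u}) := hV
  have : Coh.IsQCoh (F.restrict V.ι) := PerfA.QCohSerre.isQCoh_restrict V.ι hF
  exact S0007.result V (F.restrict V.ι) n hn

/-- An affine integral scheme whose ring of functions is a field is one point. -/
theorem subsingleton_of_isField (V : Scheme.{u}) [IsAffine V] (h : IsField Γ(V, ⊤)) : Subsingleton V := by
  letI := h.toField
  have h3 : Subsingleton (PrimeSpectrum Γ(V, ⊤)) := inferInstance
  have h4 : Subsingleton (Spec Γ(V, ⊤)) := h3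
  exact (V.isoSpec.hom.homeomorph.toEquiv).subsingleton

theorem subsingleton_of_finite_sections (V : Scheme.{u}) [IsAffine V] [IsIntegral V] (k : Type u) [Field k]
    [Algebra k Γ(V, ⊤)] [Module.Finite k Γ(V, ⊤)] : Subsingleton V := by
  have h1 : IsArtinianRing Γ(V, ⊤) := isArtinian_of_tower k inferInstance
  exact subsingleton_of_isField V (IsArtinianRing.isField_of_isDomain _)

/-- A dense one-point open subset consisting of a closed point is everything. -/
theorem dim_le_zero_of_subsingleton [IrreducibleSpace W] (V : W.Opens) (P : W) (hP : IsClosed ({P} : Set W))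
    (hPV : P ∈ V) (h : Subsingleton V) : topologicalKrullDim W ≤ 0 := by
  have h5 : (V : Set W) = {P} := by
    refine Set.eq_singleton_iff_unique_mem.mpr ⟨hPV, fun x hx => ?_⟩
    exact congrArg Subtype.val (h.elim (⟨x, hx⟩ : V) ⟨P, hPV⟩)
  have h6 : IsClopen ({P} : Set W) := ⟨hP, h5 ▸ V.2⟩
  have h7 : ({P} : Set W) = Set.univ := (isClopen_iff.mp h6).resolve_left (Set.singleton_ne_empty P)
  have h8 : Subsingleton W := ⟨fun x y => by
    have hx : x ∈ ({P} : Set W) := h7 ▸ Set.mem_univ x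
    have hy : y ∈ ({P} : Set W) := h7 ▸ Set.mem_univ y
    rw [Set.mem_singleton_iff.mp hx, Set.mem_singleton_iff.mp hy]⟩
  exact topologicalKrullDim_zero_of_discreteTopology W

end Aff

section Main

variable {k : Type u} [Field k]

theorem exists_not_finite (W : Scheme.{u}) [W.Over (Spec (CommRingCat.of k))]
    [IsProper (W ↘ Spec (CommRingCat.of k))] [IsIntegral W] (e : ℕ) (he : 0 < e)
    (hW : topologicalKrullDim W = ((e + 1 : ℕ) : WithBot ℕ∞)) (V B : W.Opens) (hV : IsAffineOpen V)
    (P : W) (hP : IsClosed ({P} : Set W)) (hPV : P ∈ V) (hPB : P ∉ B) (hVB : ∀ x ∈ V, x ∉ B → x = P) :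
    ∃ F : W.Modules, Coh.IsCoh F ∧ ¬ Module.Finite k (Coh.HHon W F B e) := by
  have hN : IsNoetherian W := Localalg.LichtAsm.isNoetherian (W ↘ Spec (CommRingCat.of k))
  obtain ⟨F, hF, hnt⟩ := Licht.exists_nontrivial_top (W ↘ Spec (CommRingCat.of k)) (e + 1) hW
  refine ⟨F, hF, fun hfin => ?_⟩
  have h1 : Subsingleton (Coh.HHon W F V e) := affine_van V hV F hF.1 e he
  have h2 : Subsingleton (Coh.HHon W F V (e + 1)) := affine_van V hV F hF.1 (e + 1) (by lia)
  have hVne : Nonempty V := ⟨⟨P, hPV⟩⟩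
  have hVaff : IsAffine (V : Scheme.{u}) := hV
  have hVint : IsIntegral (V : Scheme.{u}) := inferInstance
  have hsub : ¬ Subsingleton V := fun h => by
    have h3 := dim_le_zero_of_subsingleton V P hP hPV h
    rw [hW] at h3
    have : e + 1 ≤ 0 := by exact_mod_cast h3
    lia
  have hQne : Nonempty ((V ⊓ B : W.Opens) : Scheme.{u}) := by
    by_contra hne
    apply hsub
    have h3 : ∀ x : V, x.1 = P := fun x => hVB x.1 x.2 fun hx => hne ⟨⟨x.1, x.2, hx⟩⟩
    exact ⟨fun x y => Subtype.ext ((h3 x).trans (h3 y).symm)⟩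
  have hcomp : ∀ U : W.Opens, CompactSpace U := fun U =>
    isCompact_iff_compactSpace.mp (TopologicalSpace.NoetherianSpace.isCompact (U : Set W))
  have h3 : Module.Finite k (Coh.HHon W F (V ⊔ B) (e + 1)) := by
    have h4 := S0002.result k W F hF (e + 1)
    have h5 : CompactSpace ((V ⊔ B : W.Opens) : Scheme.{u}) := hcomp _
    exact finite_of_openImmersion (V ⊔ B).ι k rfl F (e + 1) hW.le h4
  have h4 : Module.Finite k (Coh.HHon W F (V ⊓ B) e) :=
    MVLin.finite_inf k F e V B inferInstance hfin h3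
  have hcQ : CompactSpace ((V ⊓ B : W.Opens) : Scheme.{u}) := hcomp _
  let j : ((V ⊓ B : W.Opens) : Scheme.{u}) ⟶ V := W.homOfLE inf_le_left
  have hj : j ≫ ((V : Scheme.{u}) ↘ Spec (CommRingCat.of k)) =
      (((V ⊓ B : W.Opens) : Scheme.{u}) ↘ Spec (CommRingCat.of k)) := by
    change W.homOfLE _ ≫ V.ι ≫ (W ↘ Spec (CommRingCat.of k)) = (V ⊓ B).ι ≫ (W ↘ Spec (CommRingCat.of k))
    rw [← Category.assoc, Scheme.homOfLE_ι]
  have hNV : IsNoetherian (V : Scheme.{u}) := {}
  have hjd : IsDominant j := ⟨by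
    have hne : (Set.range j).Nonempty := Set.range_nonempty _
    exact (j.isOpenEmbedding.isOpen_range).dense hne⟩
  have hjd' : IsSchemeTheoreticallyDominant j := IsSchemeTheoreticallyDominant.of_isDominant j
  have hinj : Function.Injective (gl j) := j.app_injective ⊤
  have hQft : LocallyOfFiniteType (((V ⊓ B : W.Opens) : Scheme.{u}) ↘ Spec (CommRingCat.of k)) := by
    change LocallyOfFiniteType ((V ⊓ B).ι ≫ (W ↘ Spec (CommRingCat.of k)))
    infer_instance
  have hQsep : IsSeparated (((V ⊓ B : W.Opens) : Scheme.{u}) ↘ Spec (CommRingCat.of k)) := by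
    change IsSeparated ((V ⊓ B).ι ≫ (W ↘ Spec (CommRingCat.of k)))
    infer_instance
  have hQqc : QuasiCompact (((V ⊓ B : W.Opens) : Scheme.{u}) ↘ Spec (CommRingCat.of k)) := by
    change QuasiCompact ((V ⊓ B).ι ≫ (W ↘ Spec (CommRingCat.of k)))
    infer_instance
  letI : Algebra k Γ((V : Scheme.{u}), ⊤) :=
    (Coh.toGlobal ((V : Scheme.{u}) ↘ Spec (CommRingCat.of k))).toAlgebra
  have hA : ¬ Module.Finite k Γ((V : Scheme.{u}), ⊤) := fun h =>
    hsub (subsingleton_of_finite_sections (V : Scheme.{u}) k)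
  have h5 : Subsingleton (Coh.HHon W F (V ⊓ B) e) :=
    Divis.subsingleton_of_finite e ((Licht.dim_opens_le _).trans hW.le)
      (Divis.noProper_of_affine _ j _ hj e he) (Divis.noProper_of_affine _ j _ hj (e + 1) (by lia))
      (F.restrict (V ⊓ B).ι) (PerfA.CohSerre.isCoh_restrict _ hF) Γ((V : Scheme.{u}), ⊤) hA
      (gl j) hinj (fun c => gl_toGlobal j _ _ hj c) h4
  let C : W.Opens := ⟨({P} : Set W)ᶜ, hP.isOpen_compl⟩
  have hVC : V ⊓ C = V ⊓ B := by
    refine Opens.ext (Set.ext fun x => ⟨fun hx => ⟨hx.1, ?_⟩, fun hx => ⟨hx.1, fun h => ?_⟩⟩)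
    · by_contra hxB
      exact hx.2 (hVB x hx.1 hxB)
    · rw [Set.mem_singleton_iff] at h
      exact hPB (h ▸ hx.2)
  have hVC' : V ⊔ C = ⊤ := by
    refine Opens.ext (Set.eq_univ_of_forall fun x => ?_)
    by_cases hx : x = P
    · exact Or.inl (hx ▸ hPV)
    · exact Or.inr hx
  have hC : C ≠ ⊤ := fun h => by
    have : P ∈ C := h ▸ (trivial : P ∈ (⊤ : W.Opens))
    exact this rfl
  have hCne : (C : Set W).Nonempty := by
    obtain ⟨x⟩ := hQne
    exact ⟨x.1, fun h => hPB (Set.mem_singleton_iff.mp h ▸ x.2.2)⟩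
  have h6 : Subsingleton (Coh.HHon W F C (e + 1)) :=
    Licht.subsingleton_of_ne_top (W ↘ Spec (CommRingCat.of k)) (e + 1) hW.le C hC hCne _
      (PerfA.CohSerre.isCoh_restrict _ hF)
  have h7 : Subsingleton (Coh.HH W F (e + 1)) :=
    Licht.subsingleton_mv F V C hVC' e (by rw [hVC]; exact h5) h2 h6
  exact not_subsingleton_iff_nontrivial.mpr hnt h7

end Main

end K685.Punct
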