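import Groth.Agent.CohDim.K685.SopCut
import Groth.Agent.CohDim.K685.Punct
import Groth.Agent.VarietyB.HHPush
import Groth.Agent.CohqA.AffPush
import Groth.Agent.Fga.IntegralSub

/-!
# Closed subvarieties meeting a closed subset in an isolated point
-/

set_option autoImplicit false
universe u
open CategoryTheory CategoryTheory.Limits AlgebraicGeometry TopologicalSpace

namespace K685.Isol

open Groth.Agent

section Top

variable {T : Type*} [TopologicalSpace T] [NoetherianSpace T] [QuasiSober T]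

/-- A closed point of a closed subset without proper generizations in it is isolated in it. -/
theorem exists_open_isolated (Y : Set T) (hY : IsClosed Y) (P : T) (hP : IsClosed ({P} : Set T))
    (h : ∀ t ∈ Y, t ⤳ P → t = P) : ∃ V : Opens T, P ∈ V ∧ ∀ x ∈ V, x ∈ Y → x = P := by
  obtain ⟨S, hSf, hSc, hSi, hS⟩ := NoetherianSpace.exists_finite_set_isClosed_irreducible hY
  let S' : Set (Set T) := {F ∈ S | P ∉ F}
  have hS' : S'.Finite := hSf.subset (Set.sep_subset _ _)
  have hc : IsClosed (⋃₀ S') := by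
    rw [Set.sUnion_eq_biUnion]
    exact hS'.isClosed_biUnion fun F hF => hSc F hF.1
  refine ⟨⟨(⋃₀ S')ᶜ, hc.isOpen_compl⟩, fun ⟨F, hF, hPF⟩ => hF.2 hPF, fun x hx hxY => ?_⟩
  rw [hS] at hxY
  obtain ⟨F, hF, hxF⟩ := hxY
  have hPF : P ∈ F := by
    by_contra hPF
    exact hx ⟨F, ⟨hF, hPF⟩, hxF⟩
  obtain ⟨t, ht⟩ := QuasiSober.sober (hSi F hF) (hSc F hF)
  have htY : t ∈ Y := hS ▸ ⟨F, hF, ht.mem⟩
  have htP : t = P := h t htY (ht.specializes hPF)
  have h1 : F = {P} := by
    rw [← ht.def, htP]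
    exact hP.closure_eq
  rw [h1] at hxF
  exact hxF

end Top

variable {k : Type u} [Field k]

/-- The dimension of the quotient of a local ring by an ideal whose zero locus maps to `D`. -/
theorem ringKrullDim_quot_le {X : Scheme.{u}} (P : X) (D : Set X) (I : Ideal (X.presheaf.stalk P))
    (h : ∀ p : PrimeSpectrum (X.presheaf.stalk P), I ≤ p.asIdeal → X.fromSpecStalk P p ∈ D) :
    ringKrullDim (X.presheaf.stalk P ⧸ I) ≤ topologicalKrullDim D := by
  rw [← PrimeSpectrum.topologicalKrullDim_eq_ringKrullDim]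
  let g : PrimeSpectrum (X.presheaf.stalk P ⧸ I) → D := fun p =>
    ⟨X.fromSpecStalk P (PrimeSpectrum.comap (Ideal.Quotient.mk I) p), h _ (fun x hx => by
      change Ideal.Quotient.mk I x ∈ p.asIdeal
      rw [Ideal.Quotient.eq_zero_iff_mem.mpr hx]
      exact zero_mem _)⟩
  have h1 : Topology.IsInducing (fun p : PrimeSpectrum (X.presheaf.stalk P ⧸ I) =>
      X.fromSpecStalk P (PrimeSpectrum.comap (Ideal.Quotient.mk I) p)) :=
    (X.fromSpecStalk P).isEmbedding.isInducing.comp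
      (PrimeSpectrum.isClosedEmbedding_comap_of_surjective _ _ Ideal.Quotient.mk_surjective).isEmbedding.isInducing
  have h2 : Topology.IsInducing g := by
    refine Topology.IsInducing.of_comp ?_ continuous_subtype_val h1
    exact Continuous.subtype_mk h1.continuous _
  exact h2.topologicalKrullDim_le


theorem exists_nat_dim {T : Type*} [TopologicalSpace T] (n d : ℕ) (h1 : (d : WithBot ℕ∞) ≤ topologicalKrullDim T)
    (h2 : topologicalKrullDim T ≤ n) : ∃ e : ℕ, topologicalKrullDim T = e ∧ d ≤ e := by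
  generalize topologicalKrullDim T = a at h1 h2
  induction a using WithBot.recBotCoe with
  | bot => exact absurd h1 (by simp)
  | coe a =>
    have h3 : a ≤ (n : ℕ∞) := WithBot.coe_le_coe.mp h2
    have h4 : (d : ℕ∞) ≤ a := WithBot.coe_le_coe.mp h1
    obtain ⟨e, he⟩ := ENat.ne_top_iff_exists.mp (ne_top_of_le_ne_top (ENat.coe_ne_top n) h3)
    subst he
    exact ⟨e, rfl, by exact_mod_cast h4⟩

/-- Hartshorne's criterion: the complement of a closed subset with an irreducible component of dimension at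
most `z` in a proper variety of dimension `n ≥ z + 2` has infinite-dimensional coherent cohomology in some degree at
least `n - z - 1`. -/
theorem exists_not_finite_compl (X : Scheme.{u}) [X.Over (Spec (CommRingCat.of k))]
    [IsProper (X ↘ (Spec (CommRingCat.of k)))] [IsIntegral X]
    (n : ℕ) (hdim : topologicalKrullDim X = n) (U : X.Opens)
    (Z : Set ((U : Set X)ᶜ : Set X)) (hZ : Z ∈ irreducibleComponents ((U : Set X)ᶜ : Set X))
    (z : ℕ) (hz : topologicalKrullDim Z ≤ z) (hzn : z + 2 ≤ n) :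
    ∃ e : ℕ, n ≤ z + e + 1 ∧ ∃ F : (U : Scheme.{u}).Modules, Coh.IsCoh F ∧
      ¬ Module.Finite k (Coh.HH (U : Scheme.{u}) F e) := by
  have hN : IsNoetherian X := Localalg.LichtAsm.isNoetherian (X ↘ Spec (CommRingCat.of k))
  have hJ : JacobsonSpace X := LocallyOfFiniteType.jacobsonSpace (X ↘ Spec (CommRingCat.of k))
  have hYc : IsClosed ((U : Set X)ᶜ) := U.2.isClosed_compl
  have hNY : NoetherianSpace ((U : Set X)ᶜ : Set X) := inferInstance
  obtain ⟨o, ho, hone, hoZ⟩ := NoetherianSpace.exists_isOpen_nonempty_subset_irreducibleComponent Z hZ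
  have hlc : IsLocallyClosed (((↑) : ((U : Set X)ᶜ : Set X) → X) '' o) := by
    obtain ⟨o', ho', rfl⟩ := isOpen_induced_iff.mp ho
    rw [Subtype.image_preimage_coe]
    exact hYc.isLocallyClosed.inter ho'.isLocallyClosed
  obtain ⟨P, ⟨⟨P', hP'o, rfl⟩, hP⟩⟩ := nonempty_inter_closedPoints
    (hone.image _) hlc
  have hPc : IsClosed ({P'.1} : Set X) := hP
  -- generizations of `P` in `Y` lie in `Z`
  have hgen : ∀ (t : X) (ht : t ∈ (U : Set X)ᶜ), t ⤳ P'.1 → (⟨t, ht⟩ : ((U : Set X)ᶜ : Set X)) ∈ Z := by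
    intro t ht htP
    apply hoZ
    have h1 : (⟨t, ht⟩ : ((U : Set X)ᶜ : Set X)) ⤳ P' := Topology.IsInducing.subtypeVal.specializes_iff.mp htP
    exact h1.mem_open ho hP'o
  let g := X.fromSpecStalk P'.1
  have hgr : ∀ p, g p ⤳ P'.1 := fun p => by
    have h1 : g p ∈ Set.range g := ⟨p, rfl⟩
    rw [Scheme.range_fromSpecStalk] at h1
    exact h1
  let D : Set X := ((↑) : ((U : Set X)ᶜ : Set X) → X) '' Z
  have hDc : IsClosed D := hYc.isClosedEmbedding_subtypeVal.isClosedMap _
    (isClosed_of_mem_irreducibleComponents Z hZ)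
  have hDdim : topologicalKrullDim D ≤ z := by
    refine le_trans (le_of_eq ?_) hz
    exact (IsHomeomorph.topologicalKrullDim_eq _
      (Topology.IsEmbedding.subtypeVal.homeomorphImage Z).isHomeomorph).symm
  let I : Ideal (X.presheaf.stalk P'.1) := PrimeSpectrum.vanishingIdeal (g ⁻¹' D)
  have hI : ∀ p : PrimeSpectrum (X.presheaf.stalk P'.1), I ≤ p.asIdeal ↔ g p ∈ D := by
    intro p
    have h1 : PrimeSpectrum.zeroLocus (I : Set (X.presheaf.stalk P'.1)) = g ⁻¹' D := by
      rw [PrimeSpectrum.zeroLocus_vanishingIdeal_eq_closure]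
      exact (hDc.preimage g.continuous).closure_eq
    exact (Set.ext_iff.mp h1) p
  have hcl : g (IsLocalRing.closedPoint _) = P'.1 := Scheme.fromSpecStalk_closedPoint
  have hItop : I ≠ ⊤ := by
    have h1 : I ≤ (IsLocalRing.closedPoint (X.presheaf.stalk P'.1)).asIdeal := by
      rw [hI, hcl]
      exact ⟨P', hoZ hP'o, rfl⟩
    exact fun h => (IsLocalRing.closedPoint (X.presheaf.stalk P'.1)).2.ne_top (top_unique (h ▸ h1))
  have hId : ringKrullDim (X.presheaf.stalk P'.1 ⧸ I) ≤ z :=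
    (ringKrullDim_quot_le P'.1 D I fun p hp => (hI p).mp hp).trans hDdim
  obtain ⟨q, hq, hqd, hqI⟩ := SopCut.exists_cut (X.presheaf.stalk P'.1) I hItop z n hId
    (by rw [Fga.DimCut.ringKrullDim_stalk_eq k X P'.1 hPc, hdim])
  let w : X := g ⟨q, hq⟩
  obtain ⟨W, i, hi, hWint, hiw, hir⟩ := Fga.IntegralSub.exists_integral_closed w
  let _ : W.Over (Spec (CommRingCat.of k)) := ⟨i ≫ (X ↘ Spec (CommRingCat.of k))⟩
  have hWp : IsProper (W ↘ Spec (CommRingCat.of k)) := by
    change IsProper (i ≫ (X ↘ Spec (CommRingCat.of k)))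
    infer_instance
  have hWr : topologicalKrullDim W = topologicalKrullDim (closure {w} : Set X) := by
    rw [← hir]
    exact IsHomeomorph.topologicalKrullDim_eq _ i.isClosedEmbedding.isEmbedding.toHomeomorph.isHomeomorph
  have hWd1 : ((n - z : ℕ) : WithBot ℕ∞) ≤ topologicalKrullDim W := by
    rw [hWr]
    refine hqd.trans (ringKrullDim_quot_le P'.1 _ q fun p hp => ?_)
    have h1 : (⟨q, hq⟩ : PrimeSpectrum (X.presheaf.stalk P'.1)) ⤳ p :=
      (PrimeSpectrum.le_iff_specializes _ _).mp hp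
    exact (h1.map g.continuous).mem_closed isClosed_closure (subset_closure rfl)
  have hWd2 : topologicalKrullDim W ≤ n := by
    rw [← hdim]
    exact i.isClosedEmbedding.isEmbedding.isInducing.topologicalKrullDim_le
  obtain ⟨d, hd, hnd⟩ := exists_nat_dim n (n - z) hWd1 hWd2
  obtain ⟨e, rfl⟩ : ∃ e, d = e + 1 := ⟨d - 1, by lia⟩
  -- the point of `W` over `P`
  have hPW : P'.1 ∈ Set.range i := by
    rw [hir]
    exact specializes_iff_mem_closure.mp (hgr _)
  obtain ⟨Q, hQ⟩ := hPW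
  have hQc : IsClosed ({Q} : Set W) := by
    have h1 : ({Q} : Set W) = i ⁻¹' {P'.1} := by
      ext x
      simp only [Set.mem_singleton_iff, Set.mem_preimage]
      rw [← hQ]
      exact i.isClosedEmbedding.injective.eq_iff.symm
    rw [h1]
    exact hPc.preimage i.continuous
  have hNW : IsNoetherian W := Localalg.LichtAsm.isNoetherian (W ↘ Spec (CommRingCat.of k))
  have hiso : ∀ t ∈ (((i ⁻¹ᵁ U : W.Opens) : Set W)ᶜ), t ⤳ Q → t = Q := by
    intro t ht htQ
    have h1 : i t ⤳ P'.1 := hQ ▸ htQ.map i.continuous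
    have h2 : i t ∈ Set.range g := by
      rw [Scheme.range_fromSpecStalk]
      exact h1
    obtain ⟨p, hp⟩ := h2
    have h3 : I ≤ p.asIdeal := by
      refine (hI p).mpr ?_
      rw [hp]
      exact ⟨⟨i t, ht⟩, hgen (i t) ht h1, rfl⟩
    have h4 : q ≤ p.asIdeal := by
      have h5 : w ⤳ g p := by
        rw [hp, specializes_iff_mem_closure, ← hir]
        exact ⟨t, rfl⟩
      have h6 : (⟨q, hq⟩ : PrimeSpectrum (X.presheaf.stalk P'.1)) ⤳ p :=
        g.isEmbedding.isInducing.specializes_iff.mp h5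
      exact (PrimeSpectrum.le_iff_specializes _ _).mpr h6
    have h5 : p = IsLocalRing.closedPoint (X.presheaf.stalk P'.1) :=
      PrimeSpectrum.ext (hqI p.asIdeal p.2 h4 h3)
    apply i.isClosedEmbedding.injective
    rw [← hp, h5, hcl, hQ]
  obtain ⟨O, hQO, hO⟩ := exists_open_isolated (((i ⁻¹ᵁ U : W.Opens) : Set W)ᶜ)
    (i ⁻¹ᵁ U).2.isClosed_compl Q hQc hiso
  obtain ⟨V, hV, hQV, hVO⟩ := exists_isAffineOpen_mem_and_subset (X := W) (x := Q) (U := O) hQO
  obtain ⟨F, hF, hnf⟩ := Punct.exists_not_finite (k := k) W e (by lia) hd V (i ⁻¹ᵁ U) hV Q hQc hQV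
    (fun h => P'.2 (hQ ▸ h)) (fun x hxV hxU => hO x (hVO hxV) hxU)
  refine ⟨e, by lia, (Coh.push (i ∣_ U)).obj (F.restrict (i ⁻¹ᵁ U).ι), ?_, fun hfin => hnf ?_⟩
  · have hF' : Coh.IsCoh (F.restrict (i ⁻¹ᵁ U).ι) := PerfA.CohSerre.isCoh_restrict _ hF
    exact ⟨CohqA.AffPush.isQCoh_push _ _ hF'.1, CohqA.AffPush.isFT_push _ _ hF'.1 hF'.2⟩
  · have hF' : Coh.IsCoh (F.restrict (i ⁻¹ᵁ U).ι) := PerfA.CohSerre.isCoh_restrict _ hF
    obtain ⟨E⟩ := VarietyB.HHPush.exists_linearEquiv (i ∣_ U) k (by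
      change (i ∣_ U) ≫ U.ι ≫ (X ↘ Spec (CommRingCat.of k)) = (i ⁻¹ᵁ U).ι ≫ i ≫ (X ↘ Spec (CommRingCat.of k))
      rw [← Category.assoc, morphismRestrict_ι, Category.assoc]) (F.restrict (i ⁻¹ᵁ U).ι) hF'.1 e
    exact Module.Finite.equiv E

end K685.Isol
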