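import Groth.Agent.S0357
import Groth.Agent.S1753
import Groth.Agent.CohtopA.MVElem
import Groth.Agent.CohqA.HOpen
import Groth.Agent.PerfA.CohSerre
import Mathlib.AlgebraicGeometry.Morphisms.Proper

/-!
# Lichtenbaum's theorem on open subschemes of a proper variety
-/

set_option autoImplicit false
universe u
open CategoryTheory CategoryTheory.Limits AlgebraicGeometry TopologicalSpace

namespace K685.Licht

open Groth.Agent

variable {k : Type u} [Field k] {X : Scheme.{u}} (f : X ⟶ Spec (CommRingCat.of k))

/-- The topological dimension of an open subscheme is at most that of the scheme. -/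
theorem dim_opens_le (V : X.Opens) : topologicalKrullDim (V : Scheme.{u}) ≤ topologicalKrullDim X :=
  Topology.IsInducing.topologicalKrullDim_le V.ι.isOpenEmbedding.isInducing

/-- An open subscheme of a connected separated scheme over `k` that is proper over `k` and nonempty is
everything. -/
theorem eq_top_of_isProper [IsSeparated f] [PreconnectedSpace X] (V : X.Opens) (hV : (V : Set X).Nonempty)
    (h : IsProper (V.ι ≫ f)) : V = ⊤ := by
  have h1 : IsProper V.ι := IsProper.of_comp V.ι f
  have h2 : IsClosed (V : Set X) := by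
    have := V.ι.isClosedMap.isClosed_range
    simpa using this
  have h3 : IsClopen (V : Set X) := ⟨h2, V.2⟩
  exact Opens.ext ((isClopen_iff.mp h3).resolve_left hV.ne_empty)

/-- Top-degree vanishing on a nonempty open subset, different from everything, of a proper variety. -/
theorem subsingleton_of_ne_top [IsProper f] [IsIntegral X] (n : ℕ) (hn : topologicalKrullDim X ≤ n)
    (V : X.Opens) (hV : V ≠ ⊤) (hne : (V : Set X).Nonempty) (F : (V : Scheme.{u}).Modules)
    (hF : Coh.IsCoh F) : Subsingleton (Coh.HH V F n) := by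
  have hX : IsLocallyNoetherian X := LocallyOfFiniteType.isLocallyNoetherian f
  have : Nonempty V := hne.to_subtype
  have : QuasiCompact V.ι := inferInstance
  by_contra h
  rw [not_subsingleton_iff_nontrivial] at h
  obtain ⟨h1, h2⟩ := S1753.result k (V : Scheme.{u}) (V.ι ≫ f) F hF n h
  exact hV (eq_top_of_isProper f V hne (h2 (le_antisymm ((dim_opens_le V).trans hn) h1)))

/-- On a proper variety of dimension `n` some coherent module has nonzero `H^n`. -/
theorem exists_nontrivial_top [IsProper f] [IsIntegral X] (n : ℕ) (hn : topologicalKrullDim X = n) :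
    ∃ F : X.Modules, Coh.IsCoh F ∧ Nontrivial (Coh.HH X F n) := by
  by_contra! h
  exact (S0357.result k X f n hn).mp h X (𝟙 X) hn (by rw [Category.id_comp]; infer_instance)

/-- Mayer-Vietoris: vanishing of `H^{n+1}` of the union. -/
theorem subsingleton_mv (M : X.Modules) (A B : X.Opens) (hAB : A ⊔ B = ⊤) (n : ℕ)
    (h1 : Subsingleton (Coh.HHon X M (A ⊓ B) n)) (h2 : Subsingleton (Coh.HHon X M A (n + 1)))
    (h3 : Subsingleton (Coh.HHon X M B (n + 1))) : Subsingleton (Coh.HH X M (n + 1)) := by
  have e1 := (CohqA.HOpen.HHonEquiv M (A ⊓ B) n).toEquiv.subsingleton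
  have e2 := (CohqA.HOpen.HHonEquiv M A (n + 1)).toEquiv.subsingleton
  have e3 := (CohqA.HOpen.HHonEquiv M B (n + 1)).toEquiv.subsingleton
  suffices h : Subsingleton (CohTop.HU (X := X.toTopCat) (Coh.toAb M) (n + 1) (A ⊔ B)) by
    rw [hAB] at h
    exact (CohqA.HOpen.HHTopEquiv M (n + 1)).toEquiv.subsingleton
  refine subsingleton_of_forall_eq 0 fun ξ => ?_
  obtain ⟨η, rfl⟩ := CohtopA.MVElem.exists_δ (X := X.toTopCat) (Coh.toAb M) n ξ
    (e2.elim _ _) (e3.elim _ _)
  rw [e1.elim η 0, map_zero]

end K685.Licht
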