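import Groth.Agent.CohDim.K685.Isol
import Groth.Agent.Lefpen.H716.CIGeom
import Groth.Agent.CohqA.ProjDim
import Groth.Agent.Sga5.ProjSmooth
import Groth.Agent.Ega3B.ProjProper
import Groth.Agent.CurvesB.HZero
import Groth.Agent.CurvesB.UnitCoh
import Groth.Agent.S0010

/-!
# Complements of set-theoretic complete intersections
-/

set_option autoImplicit false
universe u
open CategoryTheory CategoryTheory.Limits AlgebraicGeometry TopologicalSpace

namespace K685.SetCI

open Groth.Agent

section Proj

variable (k : Type u) [Field k] (n : ℕ)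

theorem dim_projSpace : topologicalKrullDim (CohB1.ProjSpace n k) = n := by
  refine le_antisymm (CohqA.ProjDim.topologicalKrullDim_le k n) ?_
  have h1 : topologicalKrullDim (Spec (CommRingCat.of (MvPolynomial (Fin n) k))) = n := by
    have h2 := PrimeSpectrum.topologicalKrullDim_eq_ringKrullDim (R := MvPolynomial (Fin n) k)
    refine h2.trans ?_
    simp [MvPolynomial.ringKrullDim_of_isNoetherianRing]
  rw [← h1]
  exact (Sga5.ProjSmooth.chart n k 0).isOpenEmbedding.isInducing.topologicalKrullDim_le

end Proj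

theorem isSeparated_of {X S : Scheme.{u}} (f : X ⟶ S) [IsSeparated f] [IsAffine S] : X.IsSeparated := by
  refine ⟨?_⟩
  rw [← terminal.comp_from f]
  infer_instance

theorem isAffineOpen_inf (X : Scheme.{u}) [X.IsSeparated] (V W : X.Opens) (hV : IsAffineOpen V)
    (hW : IsAffineOpen W) : IsAffineOpen (V ⊓ W) := hV.inf hW

/-- Vanishing above the number of affine opens in a cover of an open subscheme. -/
theorem van_of_cover (X : Scheme.{u}) [X.IsSeparated] (U : X.Opens) (t : ℕ) (D : Fin t → X.Opens)
    (hD : ∀ j, IsAffineOpen (D j)) (hU : (U : Set X) = ⋃ j, (D j : Set X)) (F : (U : Scheme.{u}).Modules)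
    (hF : Coh.IsQCoh F) (i : ℕ) (hi : t ≤ i) : Subsingleton (Coh.HH (U : Scheme.{u}) F i) := by
  have hle : ∀ j, D j ≤ U := fun j x hx => by
    change x ∈ (U : Set X)
    rw [hU]
    exact Set.mem_iUnion.mpr ⟨j, hx⟩
  have hsep : (U : Scheme.{u}).IsSeparated := by
    refine ⟨?_⟩
    have : IsSeparated (terminal.from X) := Scheme.IsSeparated.isSeparated_terminal_from
    rw [← terminal.comp_from U.ι]
    infer_instance
  refine S0010.result (U : Scheme.{u}) t (fun j => U.ι ⁻¹ᵁ D j) (fun j => ?_) ?_ (isAffineOpen_inf _) F i hi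
  · exact (hD j).preimage_of_isOpenImmersion U.ι (by rw [Scheme.Opens.opensRange_ι]; exact hle j)
  · refine Opens.ext (Set.eq_univ_of_forall fun x => ?_)
    have h1 : x.1 ∈ ⋃ j, (D j : Set X) := hU ▸ x.2
    obtain ⟨j, hj⟩ := Set.mem_iUnion.mp h1
    exact Opens.mem_iSup.mpr ⟨j, hj⟩


section Main

variable {k : Type u} [Field k]

theorem dim_nonneg_of_mem {T : Type*} [TopologicalSpace T] [Nonempty T] : (0 : WithBot ℕ∞) ≤ topologicalKrullDim T := by
  have h : Nonempty (IrreducibleCloseds T) := by
    obtain ⟨x⟩ := (inferInstance : Nonempty T)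
    exact ⟨⟨closure {x}, isIrreducible_singleton.closure, isClosed_closure⟩⟩
  exact Order.krullDim_nonneg

/-- On a nonempty affine open subscheme of a positive-dimensional variety, `H^0(U, O)` is infinite-dimensional. -/
theorem not_finite_H0 (X : Scheme.{u}) [X.Over (Spec (CommRingCat.of k))]
    [LocallyOfFiniteType (X ↘ (Spec (CommRingCat.of k)))] [IsIntegral X] (h0 : 0 < topologicalKrullDim X)
    (U : X.Opens) (hU : IsAffineOpen U) (hne : (U : Set X).Nonempty) :
    ¬ Module.Finite k (Coh.HH (U : Scheme.{u}) (Coh.structureModule (U : Scheme.{u})) 0) := by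
  intro hfin
  have hJ : JacobsonSpace X := LocallyOfFiniteType.jacobsonSpace (X ↘ Spec (CommRingCat.of k))
  obtain ⟨P, hPU, hP⟩ := nonempty_inter_closedPoints hne U.2.isLocallyClosed
  have haff : IsAffine (U : Scheme.{u}) := hU
  have : Nonempty U := ⟨⟨P, hPU⟩⟩
  let _ : Algebra k Γ((U : Scheme.{u}), ⊤) :=
    (Coh.toGlobal ((U : Scheme.{u}) ↘ Spec (CommRingCat.of k))).toAlgebra
  have h1 : Module.Finite k Γ((U : Scheme.{u}), ⊤) := by
    refine Module.Finite.of_surjective
      ({ toFun := CurvesB.HZero.equivO (U : Scheme.{u})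
         map_add' := map_add _
         map_smul' := fun c x => ?_ } : Coh.HH (U : Scheme.{u}) (Coh.structureModule (U : Scheme.{u})) 0 →ₗ[k]
          Γ((U : Scheme.{u}), ⊤)) (CurvesB.HZero.equivO (U : Scheme.{u})).surjective
    exact CurvesB.HZero.equivO_smul k c x
  have h2 := Punct.subsingleton_of_finite_sections (U : Scheme.{u}) k
  have h3 := Punct.dim_le_zero_of_subsingleton U P hP hPU h2
  exact absurd h0 (not_lt.mpr h3)

end Main

end K685.SetCI
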