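import Groth.Agent.CohDim.K685.DelTop
import Groth.Agent.CohDim.K685.HasseCoh
import Groth.Agent.CohDim.K685.Licht
import Groth.Agent.CohDim.K685.SetCI
import Groth.Agent.CohDim.K685.Isol
import Groth.Agent.S11377
import Groth.Agent.S11378
import Groth.Agent.Fga.DimLt
import Groth.Agent.Fga.DimCut
import Groth.Agent.Fga.HShift
import Groth.Agent.Fga.EulerLEAdd
import Groth.Agent.CohqB.DevSupport
import Groth.Agent.CalgB.ProjImm2
import Groth.Agent.VarietyA.AmpleField
import Groth.Agent.Sga5.ProjReg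
import Groth.Agent.Ega3B.TensRestrict
import Groth.Agent.Ega1.ReducedSub

/-!
# Cohomological dimension of the complement of a connected subset of `P^n`
-/

set_option autoImplicit false

universe u

open CategoryTheory CategoryTheory.Limits AlgebraicGeometry TopologicalSpace

noncomputable section

namespace K685.CdProj

open Groth.Agent K685.ThickConst

section Twist

variable (k : Type u) [Field k] (n : ℕ)

theorem tensor_iso (a b c : ℤ) (h : a + b = c) :
    Nonempty (CohB1.tensorMod (Twist.twistProjSpace n k a) (Twist.twistProjSpace n k b) ≅ Twist.twistProjSpace n k c) := by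
  have h1 := Ega2.TwistInv.isIso_mulHom (Ega3B.ProjTwist.coveredByOne n k) h
  exact ⟨@asIso _ _ _ _ _ h1⟩

theorem isInverseOf (U : (CohB1.ProjSpace n k).Opens) :
    ClSub.IsInverseOf ((Twist.twistProjSpace n k (-1)).restrict U.ι) ((Twist.twistProjSpace n k 1).restrict U.ι) := by
  obtain ⟨e⟩ := tensor_iso k n (-1) 1 0 (by norm_num)
  obtain ⟨e0⟩ := Ega2.TwistInv.nonempty_unit_iso (CohB1.polyGrading n k)
  exact ⟨(Ega3B.TensRestrict.restrictIso _ _ _).symm ≪≫ (Scheme.Modules.restrictFunctor U.ι).mapIso (e ≪≫ e0.symm) ≪≫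
    Scheme.Modules.restrictUnitIso U.ι⟩

theorem pow_iso (U : (CohB1.ProjSpace n k).Opens) (m : ℕ) :
    Nonempty (CohB1.tensorPow ((Twist.twistProjSpace n k (-1)).restrict U.ι) m ≅
      (Twist.twistProjSpace n k (-(m : ℤ))).restrict U.ι) := by
  obtain ⟨e⟩ := Ega2.TwistInv.nonempty_tensorPow_iso (Ega3B.ProjTwist.coveredByOne n k) (-1) m
  obtain ⟨e1⟩ := Ega3B.TensRestrict.restrictPowIso U.ι (Twist.twistProjSpace n k (-1)) m
  have h1 : (m : ℤ) * (-1) = -(m : ℤ) := by ring
  rw [h1] at e
  exact ⟨e1.symm ≪≫ (Scheme.Modules.restrictFunctor U.ι).mapIso e⟩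

end Twist

section Meet

variable (k : Type u) [Field k] (n : ℕ)

/-- A closed subset of positive dimension meets the coordinate hyperplanes. -/
theorem meet (I : (CohB1.ProjSpace n k).IdealSheafData)
    (hdim : (1 : WithBot ℕ∞) ≤ topologicalKrullDim (I.support : Set (CohB1.ProjSpace n k))) (j : Fin (n + 1)) :
    ∃ y ∈ I.support, y ∉ DD k n j := by
  by_contra! hcon
  have hp : IsProper (CohB1.ProjSpace n k ↘ Spec (CommRingCat.of k)) := Ega3B.ProjProper.isProper_toSpec n k
  have hr : Set.range I.subschemeι ⊆ Set.range (DD k n j).ι := by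
    rw [I.range_subschemeι, Scheme.Opens.range_ι]
    exact hcon
  let g := IsOpenImmersion.lift (DD k n j).ι I.subschemeι hr
  have hg : g ≫ (DD k n j).ι = I.subschemeι := IsOpenImmersion.lift_fac _ _ _
  have h1 : IsClosedImmersion (g ≫ (DD k n j).ι) := by
    rw [hg]
    infer_instance
  have h2 : IsClosedImmersion g := IsClosedImmersion.of_comp g (DD k n j).ι
  have h3 : IsAffine (DD k n j : Scheme.{u}) := hD k n j
  have h4 : IsAffine I.subscheme := isAffine_of_isAffineHom g
  have h5 := Fga.DimCut.dim_le_zero_of_proper_affine I.subscheme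
    (I.subschemeι ≫ (CohB1.ProjSpace n k ↘ Spec (CommRingCat.of k)))
  have h6 : topologicalKrullDim (I.support : Set (CohB1.ProjSpace n k)) = topologicalKrullDim I.subscheme := by
    have h7 := I.subschemeι.isClosedEmbedding.isEmbedding.toHomeomorph
    have h8 := IsHomeomorph.topologicalKrullDim_eq h7 h7.isHomeomorph
    rw [h8, I.range_subschemeι]
  rw [h6] at hdim
  exact absurd (hdim.trans h5) (by norm_num)

end Meet

theorem hh_isEmpty (Q : Scheme.{u}) [IsEmpty Q] (F : Q.Modules) (i : ℕ) : Subsingleton (Coh.HH Q F i) :=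
  Fga.HShift.subsingleton_of_isZero (CohqB.DevSupport.isZero_of_support_eq_empty (Set.eq_empty_of_isEmpty _)) i

section Main

variable (k : Type u) [Field k] [IsAlgClosed k] (n : ℕ)

/-- The case of a proper subset, `2 ≤ n`, in degree `n - 1`. -/
theorem vanish_twist (hn : 1 ≤ n) (I : (CohB1.ProjSpace n k).IdealSheafData) (U : (CohB1.ProjSpace n k).Opens)
    (hU : (U : Set (CohB1.ProjSpace n k)) = (I.support : Set (CohB1.ProjSpace n k))ᶜ)
    (hconn : _root_.IsConnected (I.support : Set (CohB1.ProjSpace n k)))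
    (hdim : (1 : WithBot ℕ∞) ≤ topologicalKrullDim (I.support : Set (CohB1.ProjSpace n k))) (m : ℕ) (hm : n + 1 ≤ m) :
    Subsingleton (Coh.HH (U : Scheme.{u}) ((Twist.twistProjSpace n k (-(m : ℤ))).restrict U.ι) (n - 1)) := by
  have h0 : Subsingleton (Coh.HH (U : Scheme.{u}) ((Twist.twistProjSpace n k (-((n : ℤ) + 1))).restrict U.ι) (n - 1)) := by
    have h1 : IsReduced I.radical.subscheme := Ega1.ReducedSub.isReduced_subscheme_radical I
    exact DelTop.subsingleton_top k n hn I.radical hconn (meet k n I.radical hdim) U hU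
  have h2 := HasseCoh.hh_restrict (n := n) (k := k) U (n - 1) (by
    have h3 : (-((n + 1 : ℕ) : ℤ)) = -((n : ℤ) + 1) := by push_cast; rfl
    rw [h3]
    exact h0) (m - (n + 1))
  have h4 : n + 1 + (m - (n + 1)) = m := by omega
  rwa [h4] at h2

theorem forward (hn : 1 ≤ n) (I : (CohB1.ProjSpace n k).IdealSheafData) (U : (CohB1.ProjSpace n k).Opens)
    (hU : (U : Set (CohB1.ProjSpace n k)) = (I.support : Set (CohB1.ProjSpace n k))ᶜ)
    (hconn : _root_.IsConnected (I.support : Set (CohB1.ProjSpace n k)))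
    (hdim : (1 : WithBot ℕ∞) ≤ topologicalKrullDim (I.support : Set (CohB1.ProjSpace n k)))
    (F : (U : Scheme.{u}).Modules) (hF : Coh.IsCoh F) (i : ℕ) (hi : n ≤ i + 1) :
    Subsingleton (Coh.HH (U : Scheme.{u}) F i) := by
  have hp : IsProper (CohB1.ProjSpace n k ↘ Spec (CommRingCat.of k)) := Ega3B.ProjProper.isProper_toSpec n k
  have hN : IsNoetherian (CohB1.ProjSpace n k) := Localalg.LichtAsm.isNoetherian (CohB1.ProjSpace n k ↘ Spec (CommRingCat.of k))
  have hNU : IsNoetherian (U : Scheme.{u}) := by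
    have h1 : IsLocallyNoetherian (U : Scheme.{u}) := inferInstance
    have h2 : CompactSpace (U : Scheme.{u}) :=
      isCompact_iff_compactSpace.1 (NoetherianSpace.isCompact (U : Set (CohB1.ProjSpace n k)))
    exact ⟨⟩
  rcases isEmpty_or_nonempty (U : Scheme.{u}) with he | he
  · exact hh_isEmpty _ F i
  have hne : (U : Set (CohB1.ProjSpace n k)).Nonempty := Set.nonempty_coe_sort.mp he
  have hdP := SetCI.dim_projSpace k n
  have htop : U ≠ ⊤ := by
    rintro rfl
    obtain ⟨y, hy⟩ := hconn.nonempty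
    have h1 : y ∈ ((⊤ : (CohB1.ProjSpace n k).Opens) : Set (CohB1.ProjSpace n k)) := Set.mem_univ y
    rw [hU] at h1
    exact h1 hy
  have hn2 : 2 ≤ n := by
    by_contra h
    obtain rfl : n = 1 := by omega
    have hcl : IsClosed (I.support : Set (CohB1.ProjSpace 1 k)) := I.support.isClosed
    have hnu : (I.support : Set (CohB1.ProjSpace 1 k)) ≠ Set.univ := by
      intro h1
      rw [h1, Set.compl_univ] at hU
      rw [hU] at hne
      exact Set.not_nonempty_empty hne
    have h2 := Fga.DimLt.exists_ltSeries_succ hcl hnu (n := 1) (by exact_mod_cast hdim)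
    rw [hdP] at h2
    exact absurd h2 (by norm_num)
  -- degrees `≥ n`
  have hdU : topologicalKrullDim (U : Scheme.{u}) ≤ n := (Licht.dim_opens_le U).trans hdP.le
  have hge : ∀ (G : (U : Scheme.{u}).Modules), Coh.IsCoh G → ∀ j : ℕ, n ≤ j → Subsingleton (Coh.HH (U : Scheme.{u}) G j) := by
    intro G hG j hj
    rcases hj.eq_or_lt with rfl | hj
    · exact Licht.subsingleton_of_ne_top (CohB1.ProjSpace n k ↘ Spec (CommRingCat.of k)) n hdP.le U htop hne G hG
    · exact Fga.EulerLEAdd.subsingleton_HH _ n hdU G j hj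
  rcases (show i = n - 1 ∨ n ≤ i by omega) with hi' | hi'
  swap
  · exact hge F hF i hi'
  have hint : IsIntegral (U : Scheme.{u}) := inferInstance
  have hreg : ∀ x : (U : Scheme.{u}), IsRegularLocalRing ((U : Scheme.{u}).presheaf.stalk x) := by
    intro x
    have h1 := Sga5.ProjReg.isRegularLocalRing_stalk n k (U.ι x)
    exact IsRegularLocalRing.of_ringEquiv (asIso (U.ι.stalkMap x)).commRingCatIsoToRingEquiv
  have hample : CohB1.IsAmple ((Twist.twistProjSpace n k 1).restrict U.ι) :=
    CalgB.ProjImm.isAmple_restrict_of_isCompact (VarietyA.AmpleField.isAmple_twistProjSpace n k) U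
      (NoetherianSpace.isCompact (U : Set (CohB1.ProjSpace n k)))
  let _ : (U : Scheme.{u}).Over (Spec (CommRingCat.of k)) := ⟨U.ι ≫ (CohB1.ProjSpace n k ↘ Spec (CommRingCat.of k))⟩
  have h1 : IsSeparated ((U : Scheme.{u}) ↘ Spec (CommRingCat.of k)) :=
    inferInstanceAs (IsSeparated (U.ι ≫ (CohB1.ProjSpace n k ↘ Spec (CommRingCat.of k))))
  have h2 : LocallyOfFiniteType ((U : Scheme.{u}) ↘ Spec (CommRingCat.of k)) :=
    inferInstanceAs (LocallyOfFiniteType (U.ι ≫ (CohB1.ProjSpace n k ↘ Spec (CommRingCat.of k))))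
  have h3 : QuasiCompact ((U : Scheme.{u}) ↘ Spec (CommRingCat.of k)) :=
    inferInstanceAs (QuasiCompact (U.ι ≫ (CohB1.ProjSpace n k ↘ Spec (CommRingCat.of k))))
  refine Groth.Agent.S11377.result k (U : Scheme.{u}) hreg _ _ hample (isInverseOf k n U) (n - 2) ⟨n + 1, fun m hm j hj => ?_⟩ F hF i
    (by omega)
  obtain ⟨e⟩ := pow_iso k n U m
  refine Fga.HShift.subsingleton_of_iso e.symm j ?_
  rcases (show j = n - 1 ∨ n ≤ j by omega) with rfl | hj'
  · exact vanish_twist k n hn I U hU hconn hdim m hm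
  · exact hge _ (PerfA.CohSerre.isCoh_restrict U.ι (LoccohB.AdPn704.isCoh_twistProjSpace n k _)) j hj'

omit [IsAlgClosed k] in
theorem le_zero_of_not_one_le {a : WithBot ℕ∞} (h : ¬ (1 : WithBot ℕ∞) ≤ a) : a ≤ ((0 : ℕ) : WithBot ℕ∞) := by
  induction a using WithBot.recBotCoe with
  | bot => exact bot_le
  | coe a =>
    have h1 : a < 1 := by
      by_contra h2
      exact h (WithBot.coe_le_coe.mpr (not_lt.mp h2))
    rw [Order.lt_one_iff.mp h1]
    rfl

theorem backward (hn : 1 ≤ n) (I : (CohB1.ProjSpace n k).IdealSheafData) (U : (CohB1.ProjSpace n k).Opens)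
    (hU : (U : Set (CohB1.ProjSpace n k)) = (I.support : Set (CohB1.ProjSpace n k))ᶜ)
    (h : ∀ F : (U : Scheme.{u}).Modules, Coh.IsCoh F → ∀ i : ℕ, n ≤ i + 1 → Subsingleton (Coh.HH (U : Scheme.{u}) F i)) :
    _root_.IsConnected (I.support : Set (CohB1.ProjSpace n k)) ∧
      (1 : WithBot ℕ∞) ≤ topologicalKrullDim (I.support : Set (CohB1.ProjSpace n k)) := by
  have hp : IsProper (CohB1.ProjSpace n k ↘ Spec (CommRingCat.of k)) := Ega3B.ProjProper.isProper_toSpec n k
  have hN : IsNoetherian (CohB1.ProjSpace n k) := Localalg.LichtAsm.isNoetherian (CohB1.ProjSpace n k ↘ Spec (CommRingCat.of k))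
  have hdP := SetCI.dim_projSpace k n
  have hY : (I.support : Set (CohB1.ProjSpace n k)) = (U : Set (CohB1.ProjSpace n k))ᶜ := by rw [hU, compl_compl]
  rcases isEmpty_or_nonempty (U : Scheme.{u}) with he | he
  · have h1 : (U : Set (CohB1.ProjSpace n k)) = ∅ := Set.isEmpty_coe_sort.mp he
    rw [hY, h1, Set.compl_empty]
    refine ⟨isConnected_univ, ?_⟩
    have h2 : topologicalKrullDim (Set.univ : Set (CohB1.ProjSpace n k)) = n := by
      rw [← hdP]
      exact IsHomeomorph.topologicalKrullDim_eq _ (Homeomorph.Set.univ _).isHomeomorph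
    rw [h2]
    exact_mod_cast hn
  have hne : (U : Set (CohB1.ProjSpace n k)).Nonempty := Set.nonempty_coe_sort.mp he
  have hn2 : 2 ≤ n := by
    by_contra hcon
    have h1 := h (Coh.structureModule (U : Scheme.{u})) (CurvesB.UnitCoh.isCoh_structureModule _) 0 (by omega)
    have h2 : Subsingleton Γ((U : Scheme.{u}), ⊤) :=
      (Sheaf.H.equiv₀ (Coh.toAb (Coh.structureModule (U : Scheme.{u}))) isTerminalTop).symm.subsingleton
    have h3 : Nontrivial Γ((U : Scheme.{u}), ⊤) := inferInstance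
    exact not_subsingleton _ h2
  have htop : U ≠ ⊤ := by
    rintro rfl
    obtain ⟨F, hF, hnt⟩ := Licht.exists_nontrivial_top (CohB1.ProjSpace n k ↘ Spec (CommRingCat.of k)) n hdP
    have h1 := h (F.restrict (⊤ : (CohB1.ProjSpace n k).Opens).ι) (PerfA.CohSerre.isCoh_restrict _ hF) n (by omega)
    have h2 : Subsingleton (Coh.HHon (CohB1.ProjSpace n k) F ⊤ n) := h1
    have h3 := (CohqA.HOpen.HHonEquiv F ⊤ n).toEquiv.subsingleton
    have h4 := (CohqA.HOpen.HHTopEquiv F n).toEquiv.subsingleton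
    exact not_subsingleton _ h4
  have hconn : _root_.IsConnected ((U : Set (CohB1.ProjSpace n k))ᶜ) :=
    Groth.Agent.S11378.result k (CohB1.ProjSpace n k) (Sga5.ProjReg.isRegularLocalRing_stalk n k) n hn2 hdP U htop
      fun F hF i hi => h F hF i (by omega)
  refine ⟨hY ▸ hconn, ?_⟩
  by_contra hlt
  obtain ⟨x, hx⟩ := hconn.nonempty
  let x' : ((U : Set (CohB1.ProjSpace n k))ᶜ : Set (CohB1.ProjSpace n k)) := ⟨x, hx⟩
  have hZ := irreducibleComponent_mem_irreducibleComponents x'
  have hdZ : topologicalKrullDim (irreducibleComponent x') ≤ ((0 : ℕ) : WithBot ℕ∞) := by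
    refine (topologicalKrullDim_subspace_le _ _).trans ?_
    rw [hY] at hlt
    exact le_zero_of_not_one_le hlt
  obtain ⟨e, he', F, hF, hfin⟩ := Isol.exists_not_finite_compl (k := k) (CohB1.ProjSpace n k) n hdP U _ hZ 0 hdZ (by omega)
  have := h F hF e (by omega)
  exact hfin inferInstance

end Main

end K685.CdProj
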