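import Mathlib.RingTheory.MvPowerSeries.Substitution
import Mathlib.RingTheory.MvPowerSeries.Inverse
import Mathlib.RingTheory.MvPolynomial.Homogeneous
import Mathlib.RingTheory.Localization.Basic
import Mathlib.RingTheory.PowerSeries.Binomial
import Mathlib.Algebra.Order.Antidiag.FinsuppEquiv
import Mathlib.RingTheory.PowerSeries.Substitution
import Mathlib.RingTheory.PowerSeries.Inverse

/-!
# Hasse derivatives on localizations of a polynomial ring

`K685.Taylor.tay M : Localization M →+* MvPowerSeries σ (Localization M)` is the Taylor expansion `x ↦ x + h`, and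
`K685.Taylor.D M β : Localization M →+ Localization M` is its coefficient at `h^β` (the Hasse derivative).
-/

set_option autoImplicit false

universe u v

open MvPolynomial

noncomputable section

namespace K685.Taylor

variable {k : Type u} [CommRing k] {σ : Type v} (M : Submonoid (MvPolynomial σ k))

/-- The Taylor map on polynomials, with coefficients in the localization. -/
def tay0 : MvPolynomial σ k →+* MvPowerSeries σ (Localization M) :=
  MvPolynomial.eval₂Hom ((MvPowerSeries.C (σ := σ)).comp
    ((algebraMap (MvPolynomial σ k) (Localization M)).comp (C : k →+* MvPolynomial σ k)))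
    (fun j => MvPowerSeries.C (algebraMap (MvPolynomial σ k) (Localization M) (X j)) + MvPowerSeries.X j)

theorem tay0_X (j : σ) : tay0 M (X j) =
    MvPowerSeries.C (algebraMap (MvPolynomial σ k) (Localization M) (X j)) + MvPowerSeries.X j :=
  MvPolynomial.eval₂Hom_X' _ _ _

theorem tay0_C (r : k) : tay0 M (C r) =
    MvPowerSeries.C (algebraMap (MvPolynomial σ k) (Localization M) (C r)) :=
  MvPolynomial.eval₂Hom_C _ _ _

theorem constantCoeff_tay0 (a : MvPolynomial σ k) :
    MvPowerSeries.constantCoeff (tay0 M a) = algebraMap (MvPolynomial σ k) (Localization M) a := by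
  have h : (MvPowerSeries.constantCoeff (σ := σ) (R := Localization M)).comp (tay0 M) =
      algebraMap (MvPolynomial σ k) (Localization M) := by
    refine MvPolynomial.ringHom_ext (fun r => ?_) (fun j => ?_)
    · rw [RingHom.comp_apply, tay0_C, MvPowerSeries.constantCoeff_C]
    · rw [RingHom.comp_apply, tay0_X, map_add, MvPowerSeries.constantCoeff_C, MvPowerSeries.constantCoeff_X, add_zero]
  exact RingHom.congr_fun h a

theorem isUnit_tay0 (s : M) : IsUnit (tay0 M s) := by
  rw [MvPowerSeries.isUnit_iff_constantCoeff, constantCoeff_tay0]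
  exact IsLocalization.map_units (Localization M) s

/-- The Taylor expansion. -/
def tay : Localization M →+* MvPowerSeries σ (Localization M) :=
  IsLocalization.lift (M := M) (isUnit_tay0 M)

theorem tay_algebraMap (a : MvPolynomial σ k) :
    tay M (algebraMap (MvPolynomial σ k) (Localization M) a) = tay0 M a :=
  IsLocalization.lift_eq _ a

theorem constantCoeff_tay (a : Localization M) : MvPowerSeries.constantCoeff (tay M a) = a := by
  have h : (MvPowerSeries.constantCoeff (σ := σ) (R := Localization M)).comp (tay M) = RingHom.id _ := by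
    refine IsLocalization.ringHom_ext M ?_
    refine RingHom.ext fun a => ?_
    rw [RingHom.comp_apply, RingHom.comp_apply, tay_algebraMap, constantCoeff_tay0]
    rfl
  exact RingHom.congr_fun h a

/-- The Hasse derivative. -/
def D (β : σ →₀ ℕ) : Localization M →+ Localization M :=
  ((MvPowerSeries.coeff (R := Localization M) β).toAddMonoidHom).comp (tay M).toAddMonoidHom

theorem D_apply (β : σ →₀ ℕ) (a : Localization M) : D M β a = MvPowerSeries.coeff β (tay M a) := rfl

theorem D_zero (a : Localization M) : D M 0 a = a := by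
  rw [D_apply, MvPowerSeries.coeff_zero_eq_constantCoeff, constantCoeff_tay]

theorem D_mul [DecidableEq σ] (β : σ →₀ ℕ) (a b : Localization M) :
    D M β (a * b) = ∑ p ∈ Finset.antidiagonal β, D M p.1 a * D M p.2 b := by
  rw [D_apply, map_mul, MvPowerSeries.coeff_mul]
  rfl

theorem D_X_mul (j : σ) (β : σ →₀ ℕ) (a : Localization M) :
    D M (β + Finsupp.single j 1) (algebraMap (MvPolynomial σ k) (Localization M) (X j) * a) =
      algebraMap (MvPolynomial σ k) (Localization M) (X j) * D M (β + Finsupp.single j 1) a + D M β a := by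
  classical
  rw [D_apply, map_mul, tay_algebraMap, tay0_X, add_mul, map_add, MvPowerSeries.coeff_C_mul]
  congr 1
  rw [mul_comm, MvPowerSeries.X_def, MvPowerSeries.coeff_add_mul_monomial, mul_one]
  rfl

/-! ### Integer degrees -/

/-- Homogeneous of integer degree `d` (so zero when `d < 0`). -/
def HZ (a : MvPolynomial σ k) (d : ℤ) : Prop := ∀ c : σ →₀ ℕ, MvPolynomial.coeff c a ≠ 0 → (c.degree : ℤ) = d

theorem HZ.zero (d : ℤ) : HZ (0 : MvPolynomial σ k) d := fun c h => absurd (MvPolynomial.coeff_zero c) h

theorem HZ.add {a b : MvPolynomial σ k} {d : ℤ} (ha : HZ a d) (hb : HZ b d) : HZ (a + b) d := fun c h => by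
  by_cases h1 : MvPolynomial.coeff c a = 0
  · exact hb c fun h2 => h (by rw [MvPolynomial.coeff_add, h1, h2, add_zero])
  · exact ha c h1

theorem HZ.neg {a : MvPolynomial σ k} {d : ℤ} (ha : HZ a d) : HZ (-a) d := fun c h => ha c fun h1 => h (by
  rw [MvPolynomial.coeff_neg, h1, neg_zero])

theorem HZ.sub {a b : MvPolynomial σ k} {d : ℤ} (ha : HZ a d) (hb : HZ b d) : HZ (a - b) d := by
  rw [sub_eq_add_neg]
  exact ha.add hb.neg

theorem HZ.mul {a b : MvPolynomial σ k} {d e : ℤ} (ha : HZ a d) (hb : HZ b e) : HZ (a * b) (d + e) := fun c h => by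
  classical
  rw [MvPolynomial.coeff_mul] at h
  obtain ⟨p, hp, hpq⟩ := Finset.exists_ne_zero_of_sum_ne_zero h
  have h1 := ha p.1 (left_ne_zero_of_mul hpq)
  have h2 := hb p.2 (right_ne_zero_of_mul hpq)
  rw [Finset.mem_antidiagonal] at hp
  rw [← hp, map_add]
  push_cast
  rw [h1, h2]

theorem HZ.sum {ι : Type*} (s : Finset ι) (f : ι → MvPolynomial σ k) {d : ℤ} (h : ∀ i ∈ s, HZ (f i) d) :
    HZ (∑ i ∈ s, f i) d := by
  classical
  induction s using Finset.induction_on with
  | empty => exact HZ.zero d
  | insert a s ha ih =>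
    rw [Finset.sum_insert ha]
    exact (h a (Finset.mem_insert_self _ _)).add (ih fun i hi => h i (Finset.mem_insert_of_mem hi))

theorem HZ.C (r : k) : HZ (MvPolynomial.C r : MvPolynomial σ k) 0 := fun c h => by
  classical
  rw [MvPolynomial.coeff_C] at h
  split_ifs at h with h1
  · rw [← h1]; simp
  · exact absurd rfl h

theorem HZ.one : HZ (1 : MvPolynomial σ k) 0 := HZ.C 1

theorem HZ.X (j : σ) : HZ (MvPolynomial.X j : MvPolynomial σ k) 1 := fun c h => by
  classical
  rw [MvPolynomial.coeff_X] at h
  split_ifs at h with h1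
  · rw [← h1, Finsupp.degree_single]; rfl
  · exact absurd rfl h

theorem HZ.pow {a : MvPolynomial σ k} {d : ℤ} (ha : HZ a d) (n : ℕ) : HZ (a ^ n) (n * d) := by
  induction n with
  | zero => rw [pow_zero, Nat.cast_zero, zero_mul]; exact HZ.one
  | succ n ih =>
    rw [pow_succ]
    have := ih.mul ha
    rwa [show (n : ℤ) * d + d = ((n + 1 : ℕ) : ℤ) * d by push_cast; ring] at this

theorem HZ.eq_zero {a : MvPolynomial σ k} {d : ℤ} (ha : HZ a d) (hd : d < 0) : a = 0 := by
  ext c
  rw [MvPolynomial.coeff_zero]
  by_contra h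
  have := ha c h
  omega

theorem hz_iff {a : MvPolynomial σ k} {d : ℕ} : HZ a d ↔ a ∈ MvPolynomial.homogeneousSubmodule σ k d := by
  rw [MvPolynomial.mem_homogeneousSubmodule]
  constructor
  · intro h c hc
    have := h c hc
    rw [Finsupp.degree_eq_weight_one] at this
    exact_mod_cast this
  · intro h c hc
    have := h hc
    rw [Finsupp.degree_eq_weight_one]
    exact_mod_cast this

/-! ### The Hasse derivatives of polynomials -/

/-- The polynomial Taylor expansion `x ↦ x + h`. -/
def ptay : MvPolynomial σ k →+* MvPolynomial σ (MvPolynomial σ k) :=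
  MvPolynomial.eval₂Hom (MvPolynomial.C.comp (MvPolynomial.C : k →+* MvPolynomial σ k))
    (fun j => MvPolynomial.C (MvPolynomial.X j) + MvPolynomial.X j)

theorem ptay_X (j : σ) : ptay (MvPolynomial.X j : MvPolynomial σ k) =
    MvPolynomial.C (MvPolynomial.X j) + MvPolynomial.X j := MvPolynomial.eval₂Hom_X' _ _ _

theorem ptay_C (r : k) : ptay (MvPolynomial.C r : MvPolynomial σ k) = MvPolynomial.C (MvPolynomial.C r) :=
  MvPolynomial.eval₂Hom_C _ _ _

theorem tay0_eq (a : MvPolynomial σ k) : tay0 M a =
    ((MvPolynomial.map (algebraMap (MvPolynomial σ k) (Localization M)) (ptay a) :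
      MvPolynomial σ (Localization M)) : MvPowerSeries σ (Localization M)) := by
  have h : tay0 M = (MvPolynomial.coeToMvPowerSeries.ringHom (R := Localization M) (σ := σ)).comp
      ((MvPolynomial.map (algebraMap (MvPolynomial σ k) (Localization M))).comp ptay) := by
    refine MvPolynomial.ringHom_ext (fun r => ?_) (fun j => ?_)
    · rw [tay0_C]
      simp [ptay_C]
    · rw [tay0_X]
      simp [ptay_X]
  exact RingHom.congr_fun h a

/-- The Hasse derivative of a polynomial. -/
def dp (β : σ →₀ ℕ) (a : MvPolynomial σ k) : MvPolynomial σ k := MvPolynomial.coeff β (ptay a)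

theorem D_algebraMap (β : σ →₀ ℕ) (a : MvPolynomial σ k) :
    D M β (algebraMap (MvPolynomial σ k) (Localization M) a) = algebraMap (MvPolynomial σ k) (Localization M) (dp β a) := by
  rw [D_apply, tay_algebraMap, tay0_eq, MvPolynomial.coeff_coe, MvPolynomial.coeff_map]
  rfl

/-- Homogeneous of total degree `d`. -/
def QZ (F : MvPolynomial σ (MvPolynomial σ k)) (d : ℤ) : Prop :=
  ∀ β : σ →₀ ℕ, HZ (MvPolynomial.coeff β F) (d - β.degree)

theorem QZ.zero (d : ℤ) : QZ (0 : MvPolynomial σ (MvPolynomial σ k)) d := fun β => by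
  rw [MvPolynomial.coeff_zero]; exact HZ.zero _

theorem QZ.add {F G : MvPolynomial σ (MvPolynomial σ k)} {d : ℤ} (hF : QZ F d) (hG : QZ G d) : QZ (F + G) d :=
  fun β => by rw [MvPolynomial.coeff_add]; exact (hF β).add (hG β)

theorem QZ.mul {F G : MvPolynomial σ (MvPolynomial σ k)} {d e : ℤ} (hF : QZ F d) (hG : QZ G e) :
    QZ (F * G) (d + e) := fun β => by
  classical
  rw [MvPolynomial.coeff_mul]
  refine HZ.sum _ _ fun p hp => ?_
  rw [Finset.mem_antidiagonal] at hp
  have := (hF p.1).mul (hG p.2)
  rwa [show d - (p.1.degree : ℤ) + (e - p.2.degree) = d + e - β.degree by rw [← hp, map_add]; push_cast; ring] at this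

theorem QZ.C {a : MvPolynomial σ k} {d : ℤ} (ha : HZ a d) : QZ (MvPolynomial.C a) d := fun β => by
  classical
  rw [MvPolynomial.coeff_C]
  split_ifs with h
  · rw [← h]; simpa using ha
  · exact HZ.zero _

theorem QZ.X (j : σ) : QZ (MvPolynomial.X j : MvPolynomial σ (MvPolynomial σ k)) 1 := fun β => by
  classical
  rw [MvPolynomial.coeff_X]
  split_ifs with h
  · rw [← h, Finsupp.degree_single]; simpa using HZ.one
  · exact HZ.zero _

theorem qz_ptay {a : MvPolynomial σ k} {d : ℤ} (ha : HZ a d) : QZ (ptay a) d := by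
  classical
  have key : ∀ (c : σ →₀ ℕ) (r : k), QZ (ptay (MvPolynomial.monomial c r)) c.degree := by
    intro c
    induction c using Finsupp.induction_linear with
    | zero =>
      intro r
      rw [← MvPolynomial.C_apply, ptay_C]
      simpa using QZ.C (HZ.C r)
    | add c c' hc hc' =>
      intro r
      rw [← mul_one r, ← MvPolynomial.monomial_mul, map_mul, map_add, Nat.cast_add]
      exact (hc r).mul (hc' 1)
    | single j m =>
      intro r
      rw [Finsupp.degree_single]
      induction m with
      | zero =>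
        rw [Finsupp.single_zero, ← MvPolynomial.C_apply, ptay_C]
        simpa using QZ.C (HZ.C r)
      | succ m ih =>
        rw [Finsupp.single_add, ← mul_one r, ← MvPolynomial.monomial_mul, map_mul, Nat.cast_succ]
        refine ih.mul ?_
        have : (MvPolynomial.monomial (Finsupp.single j 1) (1 : k)) = MvPolynomial.X j := rfl
        rw [this, ptay_X]
        exact (QZ.C (HZ.X j)).add (QZ.X j)
  rw [a.as_sum, map_sum]
  have hs : ∀ (s : Finset (σ →₀ ℕ)), s ⊆ a.support →
      QZ (∑ c ∈ s, ptay (MvPolynomial.monomial c (MvPolynomial.coeff c a))) d := by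
    intro s
    induction s using Finset.induction_on with
    | empty => intro _; rw [Finset.sum_empty]; exact QZ.zero d
    | insert c s hc ih =>
      intro h
      rw [Finset.sum_insert hc]
      refine QZ.add ?_ (ih fun i hi => h (Finset.mem_insert_of_mem hi))
      have h1 := ha c (MvPolynomial.mem_support_iff.1 (h (Finset.mem_insert_self _ _)))
      rw [← h1]
      exact key c _
  exact hs _ subset_rfl

theorem hz_dp {a : MvPolynomial σ k} {d : ℤ} (ha : HZ a d) (β : σ →₀ ℕ) : HZ (dp β a) (d - β.degree) :=
  qz_ptay ha β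

theorem dp_zero (a : MvPolynomial σ k) : dp 0 a = a := by
  have h : (MvPolynomial.constantCoeff (σ := σ) (R := MvPolynomial σ k)).comp ptay = RingHom.id _ := by
    refine MvPolynomial.ringHom_ext (fun r => ?_) (fun j => ?_)
    · rw [RingHom.comp_apply, ptay_C]; simp
    · rw [RingHom.comp_apply, ptay_X]; simp
  exact RingHom.congr_fun h a

/-! ### Fractions -/

/-- The derivative of a homogeneous fraction is a homogeneous fraction, uniformly in the localization. -/
theorem exists_num {a s : MvPolynomial σ k} {i j : ℤ} (ha : HZ a i) (hs : HZ s j) (m : ℕ) :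
    ∀ β : σ →₀ ℕ, β.degree = m → ∃ a' : MvPolynomial σ k, HZ a' (i + j * m - m) ∧
      ∀ (M : Submonoid (MvPolynomial σ k)) (hsM : s ∈ M),
        algebraMap (MvPolynomial σ k) (Localization M) (s ^ (m + 1)) * D M β (Localization.mk a ⟨s, hsM⟩) =
          algebraMap (MvPolynomial σ k) (Localization M) a' := by
  classical
  induction m using Nat.strong_induction_on with
  | _ m ih =>
    intro β hβ
    -- the terms with `p.1 ≠ 0`
    have hterm : ∀ p ∈ (Finset.antidiagonal β).filter (fun p => p.1 ≠ 0), ∃ b : MvPolynomial σ k,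
        HZ b (i + j * m - m) ∧ ∀ (M : Submonoid (MvPolynomial σ k)) (hsM : s ∈ M),
          algebraMap (MvPolynomial σ k) (Localization M) (s ^ m) *
            (D M p.1 (algebraMap _ _ s) * D M p.2 (Localization.mk a ⟨s, hsM⟩)) =
          algebraMap (MvPolynomial σ k) (Localization M) b := by
      intro p hp
      rw [Finset.mem_filter, Finset.mem_antidiagonal] at hp
      have hdeg : p.1.degree + p.2.degree = m := by rw [← hβ, ← hp.1, map_add]
      have h1 : p.1.degree ≠ 0 := fun h => hp.2 ((Finsupp.degree_eq_zero_iff _).1 h)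
      obtain ⟨b, hb, hb'⟩ := ih p.2.degree (by omega) p.2 rfl
      refine ⟨s ^ (p.1.degree - 1) * dp p.1 s * b, ?_, fun M hsM => ?_⟩
      · have := ((hs.pow (p.1.degree - 1)).mul (hz_dp hs p.1)).mul hb
        have e : ((p.1.degree - 1 : ℕ) : ℤ) = (p.1.degree : ℤ) - 1 := by
          have : 1 ≤ p.1.degree := by omega
          push_cast [Nat.cast_sub this]; ring
        rw [e] at this
        have e2 : (m : ℤ) = p.1.degree + p.2.degree := by rw [← hdeg]; push_cast; ring
        rw [e2]
        convert this using 1
        ring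
      · rw [D_algebraMap, map_mul, ← hb' M hsM, map_mul]
        have e : s ^ m = s ^ (p.1.degree - 1) * s ^ (p.2.degree + 1) := by
          rw [← pow_add]; congr 1; omega
        rw [e, map_mul]
        ring
    choose! b hb hb' using hterm
    refine ⟨s ^ m * dp β a - ∑ p ∈ (Finset.antidiagonal β).filter (fun p => p.1 ≠ 0), b p, ?_, fun M hsM => ?_⟩
    · refine HZ.sub ?_ (HZ.sum _ _ hb)
      have := (hs.pow m).mul (hz_dp ha β)
      rw [hβ] at this
      convert this using 1
      ring
    · have h1 : D M β (algebraMap _ _ s * Localization.mk a ⟨s, hsM⟩) =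
          algebraMap (MvPolynomial σ k) (Localization M) (dp β a) := by
        rw [← D_algebraMap]
        congr 1
        rw [← Localization.mk_one_eq_algebraMap, ← Localization.mk_one_eq_algebraMap, Localization.mk_mul, one_mul]
        rw [Localization.mk_eq_mk_iff, Localization.r_iff_exists]
        exact ⟨1, by simp⟩
      rw [D_mul, ← Finset.sum_filter_add_sum_filter_not _ (fun p => p.1 ≠ 0)] at h1
      have h2 : (Finset.antidiagonal β).filter (fun p => ¬ p.1 ≠ 0) = {(0, β)} := by
        ext p
        rw [Finset.mem_filter, Finset.mem_antidiagonal, Finset.mem_singleton]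
        constructor
        · rintro ⟨h, h'⟩
          rw [not_not] at h'
          exact Prod.ext h' (by rw [← h, h', zero_add])
        · rintro rfl
          simp
      rw [h2, Finset.sum_singleton, D_zero] at h1
      rw [map_sub, map_mul, map_sum, ← h1, ← Finset.sum_congr rfl fun p hp => hb' p hp M hsM, ← Finset.mul_sum,
        mul_add, add_sub_cancel_left, pow_succ, map_mul, mul_assoc]

/-! ### The Euler operators -/

section Euler

variable [Fintype σ]

/-- `x^c` in the localization. -/
def xc (c : σ →₀ ℕ) : Localization M :=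
  algebraMap (MvPolynomial σ k) (Localization M) (MvPolynomial.monomial c 1)

theorem hasSubst_euler : MvPowerSeries.HasSubst
    (fun j : σ => (PowerSeries.C (algebraMap (MvPolynomial σ k) (Localization M) (MvPolynomial.X j)) *
      PowerSeries.X : PowerSeries (Localization M))) := by
  refine MvPowerSeries.hasSubst_of_constantCoeff_zero fun j => ?_
  change PowerSeries.constantCoeff _ = 0
  rw [map_mul, PowerSeries.constantCoeff_X, mul_zero]

/-- The substitution `h_j ↦ x_j μ` as a ring homomorphism. -/
def sub : MvPowerSeries σ (Localization M) →+* PowerSeries (Localization M) :=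
  (MvPowerSeries.substAlgHom (R := Localization M) (hasSubst_euler M)).toRingHom

theorem sub_C (r : Localization M) : sub M (MvPowerSeries.C r) = PowerSeries.C r := by
  have := (MvPowerSeries.substAlgHom (R := Localization M) (hasSubst_euler M)).commutes r
  exact this

theorem sub_X (j : σ) : sub M (MvPowerSeries.X j) =
    PowerSeries.C (algebraMap (MvPolynomial σ k) (Localization M) (MvPolynomial.X j)) * PowerSeries.X := by
  change MvPowerSeries.substAlgHom (R := Localization M) (hasSubst_euler M) _ = _
  rw [MvPowerSeries.coe_substAlgHom, MvPowerSeries.subst_X (hasSubst_euler M)]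

theorem coeff_sub [DecidableEq σ] (e : ℕ) (F : MvPowerSeries σ (Localization M)) :
    PowerSeries.coeff e (sub M F) = ∑ c ∈ Finset.univ.finsuppAntidiag e, xc M c * MvPowerSeries.coeff c F := by
  change MvPowerSeries.coeff _ (MvPowerSeries.substAlgHom (R := Localization M) (hasSubst_euler M) F) = _
  rw [MvPowerSeries.coe_substAlgHom, MvPowerSeries.coeff_subst (hasSubst_euler M)]
  have h : ∀ d : σ →₀ ℕ, MvPowerSeries.coeff (Finsupp.single () e) (d.prod fun s m =>
      ((PowerSeries.C (algebraMap (MvPolynomial σ k) (Localization M) (MvPolynomial.X s)) *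
      PowerSeries.X : PowerSeries (Localization M)) ^ m)) = if d.degree = e then xc M d else 0 := by
    intro d
    have h1 : (d.prod fun s m =>
      ((PowerSeries.C (algebraMap (MvPolynomial σ k) (Localization M) (MvPolynomial.X s)) *
      PowerSeries.X : PowerSeries (Localization M)) ^ m)) = PowerSeries.C (xc M d) * PowerSeries.X ^ d.degree := by
      simp only [mul_pow]
      rw [Finsupp.prod_mul]
      congr 1
      · rw [xc, ← MvPolynomial.prod_X_pow_eq_monomial, map_prod, map_prod]
        exact Finset.prod_congr rfl fun s _ => by rw [map_pow, map_pow]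
      · rw [Finsupp.prod, Finset.prod_pow_eq_pow_sum]
        rfl
    rw [h1]
    change PowerSeries.coeff e _ = _
    rw [PowerSeries.coeff_C_mul, PowerSeries.coeff_X_pow]
    by_cases h2 : d.degree = e
    · rw [if_pos h2, if_pos h2.symm, mul_one]
    · rw [if_neg h2, if_neg fun h => h2 h.symm, mul_zero]
  rw [finsum_eq_sum_of_support_subset (s := Finset.univ.finsuppAntidiag e)]
  · refine Finset.sum_congr rfl fun c hc => ?_
    rw [h, if_pos, smul_eq_mul, mul_comm]
    rw [Finset.mem_finsuppAntidiag] at hc
    rw [Finsupp.degree_eq_sum]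
    exact hc.1
  · intro c hc
    rw [Function.mem_support, h] at hc
    by_contra h3
    refine hc ?_
    rw [if_neg, smul_zero]
    intro h4
    refine h3 ?_
    rw [Finset.mem_coe, Finset.mem_finsuppAntidiag]
    exact ⟨by rw [← h4, Finsupp.degree_eq_sum], Finset.subset_univ _⟩

/-- The Euler ring homomorphism `x ↦ (1 + μ) x`. -/
def eul : Localization M →+* PowerSeries (Localization M) := (sub M).comp (tay M)

theorem coeff_eul [DecidableEq σ] (e : ℕ) (u : Localization M) : PowerSeries.coeff e (eul M u) =
    ∑ c ∈ Finset.univ.finsuppAntidiag e, xc M c * D M c u := coeff_sub M e _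

theorem eul_algebraMap {a : MvPolynomial σ k} {i : ℕ} (ha : HZ a i) :
    eul M (algebraMap _ _ a) = (1 + PowerSeries.X) ^ i *
      PowerSeries.C (algebraMap (MvPolynomial σ k) (Localization M) a) := by
  have hC : ∀ r : k, eul M (algebraMap (MvPolynomial σ k) _ (MvPolynomial.C r)) =
      PowerSeries.C (algebraMap (MvPolynomial σ k) (Localization M) (MvPolynomial.C r)) := fun r => by
    rw [eul, RingHom.comp_apply, tay_algebraMap, tay0_C, sub_C]
  have hX : ∀ j : σ, eul M (algebraMap (MvPolynomial σ k) _ (MvPolynomial.X j)) =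
      (1 + PowerSeries.X) * PowerSeries.C (algebraMap (MvPolynomial σ k) (Localization M) (MvPolynomial.X j)) := fun j => by
    rw [eul, RingHom.comp_apply, tay_algebraMap, tay0_X, map_add, sub_C, sub_X]
    ring
  have key : ∀ (c : σ →₀ ℕ) (r : k), eul M (algebraMap (MvPolynomial σ k) _ (MvPolynomial.monomial c r)) =
      (1 + PowerSeries.X) ^ c.degree *
        PowerSeries.C (algebraMap (MvPolynomial σ k) (Localization M) (MvPolynomial.monomial c r)) := by
    intro c r
    rw [MvPolynomial.monomial_eq, map_mul, map_mul, hC, Finsupp.prod, map_prod, map_prod, map_mul, map_prod,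
      Finsupp.degree, mul_left_comm]
    congr 1
    change _ = (1 + PowerSeries.X) ^ (∑ i ∈ c.support, c i) * _
    rw [← Finset.prod_pow_eq_pow_sum, ← Finset.prod_mul_distrib]
    refine Finset.prod_congr rfl fun j _ => ?_
    rw [map_pow, map_pow, hX, mul_pow, map_pow]
  rw [a.as_sum, map_sum, map_sum, map_sum, Finset.mul_sum]
  refine Finset.sum_congr rfl fun c hc => ?_
  have := ha c (MvPolynomial.mem_support_iff.1 hc)
  rw [key, show c.degree = i by exact_mod_cast this]

/-- **Euler's formula** for a fraction of degree `-N`. -/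
theorem eul_mk {a s : MvPolynomial σ k} {i j N : ℕ} (ha : HZ a i) (hs : HZ s j) (hsM : s ∈ M) (h : j = i + N) :
    (1 + PowerSeries.X) ^ N * eul M (Localization.mk a ⟨s, hsM⟩) = PowerSeries.C (Localization.mk a ⟨s, hsM⟩) := by
  have h1 : algebraMap (MvPolynomial σ k) (Localization M) s * Localization.mk a ⟨s, hsM⟩ = algebraMap _ _ a := by
    rw [← Localization.mk_one_eq_algebraMap, ← Localization.mk_one_eq_algebraMap, Localization.mk_mul, one_mul]
    rw [Localization.mk_eq_mk_iff, Localization.r_iff_exists]
    exact ⟨1, by simp⟩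
  have h2 := congrArg (eul M) h1
  rw [map_mul, eul_algebraMap M ha, eul_algebraMap M hs, h, pow_add, ← h1, map_mul] at h2
  have hu1 : IsUnit ((1 + PowerSeries.X : PowerSeries (Localization M)) ^ i) := by
    refine IsUnit.pow _ ?_
    rw [PowerSeries.isUnit_iff_constantCoeff]
    simp
  have hu2 : IsUnit (PowerSeries.C (algebraMap (MvPolynomial σ k) (Localization M) s)) :=
    (IsLocalization.map_units (Localization M) ⟨s, hsM⟩).map _
  refine hu1.mul_left_cancel (hu2.mul_left_cancel ?_)
  calc _ = (1 + PowerSeries.X) ^ i * (1 + PowerSeries.X) ^ N *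
        (PowerSeries.C) (algebraMap (MvPolynomial σ k) (Localization M) s) * (eul M) (Localization.mk a ⟨s, hsM⟩) := by
          ring
    _ = _ := h2
    _ = _ := by ring

theorem coeff_one_add_pow {R : Type*} [CommRing R] (N p : ℕ) :
    PowerSeries.coeff p ((1 + PowerSeries.X : PowerSeries R) ^ N) = N.choose p := by
  have h : (1 + PowerSeries.X : PowerSeries R) ^ N = (((1 + Polynomial.X) ^ N : Polynomial R) : PowerSeries R) := by
    simp
  rw [h, Polynomial.coeff_coe, Polynomial.coeff_one_add_X_pow]

theorem eul_sum [DecidableEq σ] {a s : MvPolynomial σ k} {i j N : ℕ} (ha : HZ a i) (hs : HZ s j) (hsM : s ∈ M) (h : j = i + N)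
    (q : ℕ) (hq : q ≠ 0) :
    ∑ p ∈ Finset.antidiagonal q, (N.choose p.1 : Localization M) *
      ∑ c ∈ Finset.univ.finsuppAntidiag p.2, xc M c * D M c (Localization.mk a ⟨s, hsM⟩) = 0 := by
  have h1 := congrArg (PowerSeries.coeff q) (eul_mk M ha hs hsM h)
  rw [PowerSeries.coeff_C, if_neg hq, PowerSeries.coeff_mul] at h1
  rw [← h1]
  refine Finset.sum_congr rfl fun p _ => ?_
  rw [coeff_eul, coeff_one_add_pow]

end Euler

/-- `∑ C(n+1+q, a) (-1)^b #{c | |c| = b} = 1` over `a + b = q`. -/
theorem sum_choose_card (n q : ℕ) :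
    ∑ p ∈ Finset.antidiagonal q, ((n + 1 + q).choose p.1 : ℤ) *
      ((-1) ^ p.2 * (Finset.card (Finset.finsuppAntidiag (Finset.univ : Finset (Fin (n + 1))) p.2) : ℤ)) = 1 := by
  have h1 := congrArg (PowerSeries.coeff q)
    (PowerSeries.binomialSeries_add (R := ℤ) (A := ℤ) ((n + 1 + q : ℕ) : ℤ) (-((n + 1 : ℕ) : ℤ)))
  rw [show ((n + 1 + q : ℕ) : ℤ) + (-((n + 1 : ℕ) : ℤ)) = (q : ℤ) by push_cast; ring,
    PowerSeries.binomialSeries_nat, coeff_one_add_pow, Nat.choose_self, ← PowerSeries.rescale_neg_one_invOneSubPow,
    PowerSeries.binomialSeries_nat, PowerSeries.coeff_mul] at h1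
  rw [Nat.cast_one] at h1
  refine Eq.trans (Finset.sum_congr rfl fun p _ => ?_) h1.symm
  rw [coeff_one_add_pow, PowerSeries.coeff_rescale, PowerSeries.invOneSubPow_val_succ_eq_mk_add_choose,
    PowerSeries.coeff_mk, Finset.card_finsuppAntidiag_nat_eq_choose, Finset.card_univ, Fintype.card_fin]
  congr 3
  rw [show n + 1 + p.2 - 1 = n + p.2 by omega, ← Nat.choose_symm_add]

end K685.Taylor
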