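import Groth.Agent.FormalB.TwistFrac

/-!
# Pointwise additive operators between the twisting sheaves

A family of additive maps `φ x` of the localizations `A_x` that sends homogeneous fractions of degree `a` to
homogeneous fractions of degree `b`, uniformly in `x`, gives a morphism of abelian sheaves `O(a) ⟶ O(b)`.
-/

set_option autoImplicit false

universe u

open CategoryTheory CategoryTheory.Limits AlgebraicGeometry TopologicalSpace Opposite TopCat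

noncomputable section

namespace K685.TwistOp

open Groth.Agent Groth.Agent.FormalB.TwistFrac Groth.Agent.FormalB.GrTildeSect Groth.Agent.FormalB.GlueHom

variable {R A : Type u} [CommRing R] [CommRing A] [Algebra R A] {𝒜 : ℕ → Submodule R A} [GradedAlgebra 𝒜]

/-- The family `φ` preserves homogeneous fractions, changing the degree from `a` to `b`. -/
def Pres (φ : ∀ x : ProjectiveSpectrum 𝒜, Twist.Loc 𝒜 x →+ Twist.Loc 𝒜 x) (a b : ℤ) : Prop :=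
  ∀ (j : ℕ) (s : A) (_ : s ∈ 𝒜 j) (c : A) (_ : c ∈ zdeg 𝒜 (j + a)), ∃ (j' : ℕ) (s' c' : A) (_ : s' ∈ 𝒜 j')
    (_ : c' ∈ zdeg 𝒜 (j' + b)), ∀ (x : ProjectiveSpectrum 𝒜) (hx : s ∉ x.asHomogeneousIdeal),
      ∃ hx' : s' ∉ x.asHomogeneousIdeal, φ x (Localization.mk c ⟨s, hx⟩) = Localization.mk c' ⟨s', hx'⟩

variable {φ : ∀ x : ProjectiveSpectrum 𝒜, Twist.Loc 𝒜 x →+ Twist.Loc 𝒜 x} {a b : ℤ}

/-- The operator on sections. -/
def opFun (h : Pres φ a b) (U : (Proj 𝒜).Opens) (t : Γ(Twist.twist 𝒜 a, U)) : Γ(Twist.twist 𝒜 b, U) :=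
  show Twist.sectN (𝒜 := 𝒜) b (op U) from
  ⟨fun x => ⟨φ x.1 (tval t x), by
    obtain ⟨V, hV, e, g, c, hg, hVg, hc, hxV, ht⟩ := exists_tfrac t x.1 x.2
    obtain ⟨j', s', c', hs', hc', H⟩ := h e g hg c hc
    obtain ⟨hx', H'⟩ := H x.1 (hVg x.1 hxV)
    have e1 : tval t x = Localization.mk c ⟨g, hVg x.1 hxV⟩ := by
      have := congrArg (fun z => tval z ⟨x.1, hxV⟩) ht
      exact this
    rw [e1, H']
    rcases mem_zdeg_iff.mp hc' with ⟨i, hi, hi'⟩ | rfl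
    · exact Submodule.subset_span ⟨i, j', ⟨c', hi'⟩, ⟨s', hs'⟩, hx', hi, rfl⟩
    · rw [Localization.mk_zero]; exact zero_mem _⟩, by
    intro x
    obtain ⟨V, hV, e, g, c, hg, hVg, hc, hxV, ht⟩ := exists_tfrac t x.1 x.2
    obtain ⟨j', s', c', hs', hc', H⟩ := h e g hg c hc
    have key : ∀ y : V, φ y.1 (tval t ⟨y.1, hV y.2⟩) = Localization.mk c' ⟨s', (H y.1 (hVg y.1 y.2)).1⟩ := fun y => by
      have e1 : tval t ⟨y.1, hV y.2⟩ = Localization.mk c ⟨g, hVg y.1 y.2⟩ := by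
        have := congrArg (fun z => tval z ⟨y.1, y.2⟩) ht
        exact this
      rw [e1]
      exact (H y.1 (hVg y.1 y.2)).2
    rcases mem_zdeg_iff.mp hc' with ⟨i, hi, hi'⟩ | h0
    · exact ⟨V, hxV, homOfLE hV, i, j', ⟨c', hi'⟩, ⟨s', hs'⟩, fun y => (H y.1 (hVg y.1 y.2)).1, Or.inl hi, key⟩
    · exact ⟨V, hxV, homOfLE hV, 0, j', ⟨c', by rw [h0]; exact zero_mem _⟩, ⟨s', hs'⟩,
        fun y => (H y.1 (hVg y.1 y.2)).1, Or.inr h0, key⟩⟩

theorem tval_opFun (h : Pres φ a b) {U : (Proj 𝒜).Opens} (t : Γ(Twist.twist 𝒜 a, U)) (x : U) :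
    tval (opFun h U t) x = φ x.1 (tval t x) := rfl

theorem opFun_zero (h : Pres φ a b) (U : (Proj 𝒜).Opens) : opFun h U 0 = 0 :=
  tval_ext fun x => map_zero (φ x.1)

theorem opFun_add (h : Pres φ a b) (U : (Proj 𝒜).Opens) (s t : Γ(Twist.twist 𝒜 a, U)) :
    opFun h U (s + t) = opFun h U s + opFun h U t :=
  tval_ext fun x => map_add (φ x.1) (tval s x) (tval t x)

/-- The morphism of abelian sheaves given by a family of operators. -/
def opMap (h : Pres φ a b) : Coh.toAb (Twist.twist 𝒜 a) ⟶ Coh.toAb (Twist.twist 𝒜 b) :=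
  ⟨{ app := fun U => AddCommGrpCat.ofHom
      { toFun := fun t => opFun h U.unop t
        map_zero' := opFun_zero h U.unop
        map_add' := opFun_add h U.unop }
     naturality := by
      intro U V i
      ext t
      rfl }⟩

theorem opMap_app (h : Pres φ a b) (U : (Proj 𝒜).Opens) (t : Γ(Twist.twist 𝒜 a, U)) :
    ((opMap h).hom.app (op U)).hom t = opFun h U t := rfl

/-- The morphism `ψ` is given pointwise by the family `φ`. -/
def IsOp {a b : ℤ} (ψ : Coh.toAb (Twist.twist 𝒜 a) ⟶ Coh.toAb (Twist.twist 𝒜 b))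
    (φ : ∀ x : ProjectiveSpectrum 𝒜, Twist.Loc 𝒜 x →+ Twist.Loc 𝒜 x) : Prop :=
  ∀ (U : (Proj 𝒜).Opens) (t : Γ(Twist.twist 𝒜 a, U)) (x : U),
    tval (show Γ(Twist.twist 𝒜 b, U) from (ψ.hom.app (op U)).hom t) x = φ x.1 (tval t x)

theorem isOp_opMap (h : Pres φ a b) : IsOp (opMap h) φ := fun _ _ _ => rfl

theorem IsOp.comp {a b c : ℤ} {ψ : Coh.toAb (Twist.twist 𝒜 a) ⟶ Coh.toAb (Twist.twist 𝒜 b)}
    {ψ' : Coh.toAb (Twist.twist 𝒜 b) ⟶ Coh.toAb (Twist.twist 𝒜 c)}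
    {φ φ' : ∀ x : ProjectiveSpectrum 𝒜, Twist.Loc 𝒜 x →+ Twist.Loc 𝒜 x} (h : IsOp ψ φ) (h' : IsOp ψ' φ') :
    IsOp (ψ ≫ ψ') (fun x => (φ' x).comp (φ x)) := fun U t x =>
  (h' U (show Γ(Twist.twist 𝒜 b, U) from (ψ.hom.app (op U)).hom t) x).trans (congrArg (φ' x.1) (h U t x))

theorem IsOp.add {a b : ℤ} {ψ ψ' : Coh.toAb (Twist.twist 𝒜 a) ⟶ Coh.toAb (Twist.twist 𝒜 b)}
    {φ φ' : ∀ x : ProjectiveSpectrum 𝒜, Twist.Loc 𝒜 x →+ Twist.Loc 𝒜 x} (h : IsOp ψ φ) (h' : IsOp ψ' φ') :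
    IsOp (ψ + ψ') (fun x => φ x + φ' x) := fun U t x =>
  Eq.trans (congrArg₂ (· + ·) (h U t x) (h' U t x)) rfl

theorem IsOp.zero {a b : ℤ} : IsOp (0 : Coh.toAb (Twist.twist 𝒜 a) ⟶ Coh.toAb (Twist.twist 𝒜 b))
    (fun _ => 0) := fun _ _ _ => rfl

theorem IsOp.id {a : ℤ} : IsOp (𝟙 (Coh.toAb (Twist.twist 𝒜 a))) (fun _ => AddMonoidHom.id _) := fun _ _ _ => rfl

theorem IsOp.sum {a b : ℤ} {ι : Type*} (s : Finset ι)
    (ψ : ι → (Coh.toAb (Twist.twist 𝒜 a) ⟶ Coh.toAb (Twist.twist 𝒜 b)))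
    (φ : ι → ∀ x : ProjectiveSpectrum 𝒜, Twist.Loc 𝒜 x →+ Twist.Loc 𝒜 x) (h : ∀ i, IsOp (ψ i) (φ i)) :
    IsOp (∑ i ∈ s, ψ i) (fun x => ∑ i ∈ s, φ i x) := by
  classical
  induction s using Finset.induction_on with
  | empty => simpa using IsOp.zero
  | insert i s hi ih =>
    simp only [Finset.sum_insert hi]
    exact (h i).add ih

theorem IsOp.nsmul {a b : ℤ} {ψ : Coh.toAb (Twist.twist 𝒜 a) ⟶ Coh.toAb (Twist.twist 𝒜 b)}
    {φ : ∀ x : ProjectiveSpectrum 𝒜, Twist.Loc 𝒜 x →+ Twist.Loc 𝒜 x} (n : ℕ) (h : IsOp ψ φ) :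
    IsOp (n • ψ) (fun x => n • φ x) := by
  induction n with
  | zero => simpa using IsOp.zero
  | succ n ih =>
    simp only [succ_nsmul]
    exact ih.add h

theorem IsOp.hom_ext {a b : ℤ} {ψ ψ' : Coh.toAb (Twist.twist 𝒜 a) ⟶ Coh.toAb (Twist.twist 𝒜 b)}
    {φ φ' : ∀ x : ProjectiveSpectrum 𝒜, Twist.Loc 𝒜 x →+ Twist.Loc 𝒜 x} (h : IsOp ψ φ) (h' : IsOp ψ' φ')
    (H : ∀ (x : ProjectiveSpectrum 𝒜) (j : ℕ) (s : A) (_ : s ∈ 𝒜 j) (c : A) (_ : c ∈ zdeg 𝒜 (j + a))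
      (hx : s ∉ x.asHomogeneousIdeal), φ x (Localization.mk c ⟨s, hx⟩) = φ' x (Localization.mk c ⟨s, hx⟩)) :
    ψ = ψ' := by
  have key : ∀ (U : (Proj 𝒜).Opens) (t : Γ(Twist.twist 𝒜 a, U)),
      (show Γ(Twist.twist 𝒜 b, U) from (ψ.hom.app (op U)).hom t) =
        (show Γ(Twist.twist 𝒜 b, U) from (ψ'.hom.app (op U)).hom t) := by
    intro U t
    refine tval_ext fun x => ?_
    obtain ⟨V, hV, e, g, c, hg, hVg, hc, hxV, ht⟩ := exists_tfrac t x.1 x.2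
    have e1 : tval t x = Localization.mk c ⟨g, hVg x.1 hxV⟩ := by
      have := congrArg (fun z => tval z ⟨x.1, hxV⟩) ht
      exact this
    refine (h U t x).trans (Eq.trans ?_ (h' U t x).symm)
    rw [e1]
    exact H x.1 e g hg c hc _
  ext U t
  exact key U.unop t

end K685.TwistOp
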