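import Groth.Agent.CohDim.K685.Taylor
import Groth.Agent.CohDim.K685.TwistOp
import Groth.Prelude.Def_CohB1
import Groth.Prelude.Def_Twist2

/-!
# Hasse derivatives as morphisms `O(a) ⟶ O(a - |β|)` of abelian sheaves on projective space
-/

set_option autoImplicit false

universe u

open CategoryTheory CategoryTheory.Limits AlgebraicGeometry TopologicalSpace Opposite TopCat

noncomputable section

namespace K685.HasseOp

open Groth.Agent Groth.Agent.FormalB.TwistFrac Groth.Agent.FormalB.GrTildeSect Groth.Agent.FormalB.GlueHom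
open K685.Taylor K685.TwistOp

variable {k : Type u} [CommRing k] {n : ℕ}

/-- The multiplicative set of a point of projective space. -/
abbrev Mx (x : ProjectiveSpectrum (CohB1.polyGrading n k)) : Submonoid (MvPolynomial (Fin (n + 1)) k) :=
  x.asHomogeneousIdeal.toIdeal.primeCompl

theorem hz_iff_zdeg {a : MvPolynomial (Fin (n + 1)) k} {d : ℤ} :
    HZ a d ↔ a ∈ zdeg (CohB1.polyGrading n k) d := by
  rw [mem_zdeg_iff]
  constructor
  · intro h
    rcases lt_or_ge d 0 with hd | hd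
    · exact Or.inr (h.eq_zero hd)
    · obtain ⟨m, rfl⟩ := Int.eq_ofNat_of_zero_le hd
      exact Or.inl ⟨m, rfl, hz_iff.1 h⟩
  · rintro (⟨m, rfl, h⟩ | rfl)
    · exact hz_iff.2 h
    · exact HZ.zero _

/-- The Hasse derivative at a point. -/
def dφ (β : Fin (n + 1) →₀ ℕ) (x : ProjectiveSpectrum (CohB1.polyGrading n k)) :
    Twist.Loc (CohB1.polyGrading n k) x →+ Twist.Loc (CohB1.polyGrading n k) x := D (Mx x) β

/-- Multiplication by a polynomial at a point. -/
def mφ (f : MvPolynomial (Fin (n + 1)) k) (x : ProjectiveSpectrum (CohB1.polyGrading n k)) :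
    Twist.Loc (CohB1.polyGrading n k) x →+ Twist.Loc (CohB1.polyGrading n k) x :=
  AddMonoidHom.mulLeft (algebraMap (MvPolynomial (Fin (n + 1)) k) (Localization (Mx x)) f)

theorem pres_dφ (β : Fin (n + 1) →₀ ℕ) {a b : ℤ} (h : a = b + β.degree) : Pres (dφ (k := k) β) a b := by
  intro j s hs c hc
  have hs' : HZ s (j : ℤ) := hz_iff.2 hs
  obtain ⟨c', hc', H⟩ := exists_num (hz_iff_zdeg.2 hc) hs' β.degree β rfl
  refine ⟨(β.degree + 1) * j, s ^ (β.degree + 1), c', ?_, ?_, fun x hx => ⟨?_, ?_⟩⟩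
  · rw [← hz_iff]
    have := hs'.pow (β.degree + 1)
    push_cast at this ⊢
    exact this
  · rw [← hz_iff_zdeg]
    convert hc' using 1
    rw [h]
    push_cast
    ring
  · exact fun h => hx (x.isPrime.mem_of_pow_mem _ h)
  · have H' := H (Mx x) hx
    have hu : IsUnit (algebraMap (MvPolynomial (Fin (n + 1)) k) (Localization (Mx x)) (s ^ (β.degree + 1))) :=
      IsLocalization.map_units (M := Mx x) _ ⟨s ^ (β.degree + 1), fun h => hx (x.isPrime.mem_of_pow_mem _ h)⟩
    refine hu.mul_left_cancel (H'.trans ?_)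
    rw [← Localization.mk_one_eq_algebraMap, ← Localization.mk_one_eq_algebraMap, Localization.mk_mul, one_mul]
    rw [Localization.mk_eq_mk_iff, Localization.r_iff_exists]
    exact ⟨1, by simp⟩

theorem pres_mφ {f : MvPolynomial (Fin (n + 1)) k} {d : ℕ} (hf : f ∈ CohB1.polyGrading n k d) {a b : ℤ}
    (h : b = a + d) : Pres (mφ (k := k) f) a b := by
  intro j s hs c hc
  refine ⟨j, s, f * c, hs, ?_, fun x hx => ⟨hx, ?_⟩⟩
  · rw [← hz_iff_zdeg]
    convert (hz_iff.2 hf).mul (hz_iff_zdeg.2 hc) using 1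
    rw [h]; ring
  · change algebraMap (MvPolynomial (Fin (n + 1)) k) (Localization (Mx x)) f * Localization.mk c ⟨s, hx⟩ = _
    rw [← Localization.mk_one_eq_algebraMap, Localization.mk_mul, one_mul]

/-- The Hasse derivative `O(a) ⟶ O(b)`, `a = b + |β|`. -/
def dOp (β : Fin (n + 1) →₀ ℕ) (a b : ℤ) (h : a = b + β.degree) :
    Coh.toAb (Twist.twistProjSpace n k a) ⟶ Coh.toAb (Twist.twistProjSpace n k b) := opMap (pres_dφ β h)

theorem monomial_mem (c : Fin (n + 1) →₀ ℕ) : MvPolynomial.monomial c (1 : k) ∈ CohB1.polyGrading n k c.degree :=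
  (MvPolynomial.mem_homogeneousSubmodule _ _).2 (MvPolynomial.isHomogeneous_monomial _ rfl)

/-- Multiplication by the monomial `x^c`, `O(a) ⟶ O(b)`, `b = a + |c|`. -/
def mOp (c : Fin (n + 1) →₀ ℕ) (a b : ℤ) (h : b = a + c.degree) :
    Coh.toAb (Twist.twistProjSpace n k a) ⟶ Coh.toAb (Twist.twistProjSpace n k b) :=
  opMap (pres_mφ (monomial_mem c) h)

theorem mOp_mOp (c c' : Fin (n + 1) →₀ ℕ) (a b d : ℤ) (h : b = a + c.degree) (h' : d = b + c'.degree)
    (h'' : d = a + (c + c').degree) : mOp (k := k) c a b h ≫ mOp c' b d h' = mOp (c + c') a d h'' := by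
  refine IsOp.hom_ext ((isOp_opMap _).comp (isOp_opMap _)) (isOp_opMap _) fun x j s _ f _ hx => ?_
  have key : ∀ u : Localization (Mx x),
      algebraMap (MvPolynomial (Fin (n + 1)) k) (Localization (Mx x)) (MvPolynomial.monomial c' 1) *
      (algebraMap (MvPolynomial (Fin (n + 1)) k) (Localization (Mx x)) (MvPolynomial.monomial c 1) * u) =
      algebraMap (MvPolynomial (Fin (n + 1)) k) (Localization (Mx x)) (MvPolynomial.monomial (c + c') 1) * u := by
    intro u
    rw [← mul_assoc, ← map_mul, MvPolynomial.monomial_mul, mul_one, add_comm c' c]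
  exact key (Localization.mk f ⟨s, hx⟩)

/-- `x_j D_{β + e_j} u + D_β u = D_{β + e_j} (x_j u)`. -/
theorem dOp_mOp (β : Fin (n + 1) →₀ ℕ) (j : Fin (n + 1)) (a b : ℤ)
    (h : a = b + β.degree) (h1 : a = (b - 1) + (β + Finsupp.single j 1).degree)
    (h2 : b = (b - 1) + (Finsupp.single j 1 : Fin (n + 1) →₀ ℕ).degree)
    (h3 : a + 1 = a + (Finsupp.single j 1 : Fin (n + 1) →₀ ℕ).degree)
    (h4 : a + 1 = b + (β + Finsupp.single j 1).degree) :
    dOp (k := k) (β + Finsupp.single j 1) a (b - 1) h1 ≫ mOp (Finsupp.single j 1) (b - 1) b h2 + dOp β a b h =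
      mOp (Finsupp.single j 1) a (a + 1) h3 ≫ dOp (β + Finsupp.single j 1) (a + 1) b h4 := by
  refine IsOp.hom_ext (((isOp_opMap _).comp (isOp_opMap _)).add (isOp_opMap _))
    ((isOp_opMap _).comp (isOp_opMap _)) fun x i s _ f _ hx => ?_
  exact (D_X_mul (Mx x) j β (Localization.mk f ⟨s, hx⟩)).symm

/-- Euler's identity on `O(-N)`. -/
theorem euler (N q : ℕ) (hq : q ≠ 0) :
    ∑ p ∈ Finset.antidiagonal q, N.choose p.1 • ∑ c ∈ (Finset.univ : Finset (Fin (n + 1))).finsuppAntidiag p.2,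
      (dOp (k := k) c (-(N : ℤ)) (-(N : ℤ) - c.degree) (by ring) ≫
        mOp c (-(N : ℤ) - c.degree) (-(N : ℤ)) (by ring)) = 0 := by
  refine IsOp.hom_ext (IsOp.sum _ _ _ fun p => IsOp.nsmul _ (IsOp.sum _ _ _ fun c =>
    (isOp_opMap _).comp (isOp_opMap _))) IsOp.zero fun x j s hs f hf hx => ?_
  rw [AddMonoidHom.zero_apply, AddMonoidHom.finsetSum_apply]
  simp only [AddMonoidHom.coe_smul, Pi.smul_apply, AddMonoidHom.finsetSum_apply]
  rcases mem_zdeg_iff.1 hf with ⟨i, hi, hi'⟩ | rfl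
  · refine Eq.trans (Finset.sum_congr rfl fun p _ => ?_)
      (eul_sum (Mx x) (hz_iff.2 hi') (hz_iff.2 hs) hx (N := N) (by omega) q hq)
    rw [nsmul_eq_mul]
    rfl
  · have h0 : (Localization.mk (0 : MvPolynomial (Fin (n + 1)) k) ⟨s, hx⟩ : Localization (Mx x)) = 0 :=
      Localization.mk_zero _
    refine Finset.sum_eq_zero fun p _ => ?_
    rw [Finset.sum_eq_zero, nsmul_zero]
    intro c _
    exact (congrArg _ h0).trans (map_zero _)

end K685.HasseOp
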