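import Groth.Agent.CohDim.K685.Thick
import Groth.Agent.Dual.H371.IdealMul
import Groth.Agent.Dual.H367.IdMul
import Groth.Agent.Ega3B.HLes
import Groth.Agent.CurvesB.UnitCoh
import Groth.Agent.FormalB.FormalLoc

/-!
# `H^1(I^T) ⟶ H^1(I^t)` is zero when sections of `O / I^T` become global functions in `O / I^t`
-/

set_option autoImplicit false

universe u

open CategoryTheory CategoryTheory.Limits AlgebraicGeometry TopologicalSpace Opposite

noncomputable section

namespace K685.DelH1

open Groth.Agent K685.Thick Groth.Agent.FormalB.TrKQuot Groth.Agent.Ega3B.HLes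
open Groth.Agent.Fdesc.LocGen (ores ores_ores res res_res res_ext app_res)

variable {X : Scheme.{u}}

/-- `0 ⟶ I F ⟶ F ⟶ F / I F ⟶ 0`. -/
def ses (I : X.IdealSheafData) (F : X.Modules) : ShortComplex X.Modules :=
  ShortComplex.mk (Dual3.idealMulι I F) (kπ I F) (Dual.H371.IdealMul.idealMulι_kπ I F)

theorem shortExact_ses (I : X.IdealSheafData) (F : X.Modules) : (ses I F).ShortExact := by
  have h1 : Mono (ses I F).f := Dual3.mono_idealMulι I F
  have h2 : Epi (ses I F).g := epi_kπ I F
  have h3 : (ses I F).Exact := ShortComplex.exact_of_f_is_kernel _ (kernelIsKernel (kπ I F))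
  exact ⟨h3⟩

theorem exists_q {I J : X.IdealSheafData} (h : I ≤ J) (F : X.Modules) :
    ∃ q : kq I F ⟶ kq J F, kπ I F ≫ q = kπ J F := by
  have h1 := shortExact_ses I F
  have h2 : Epi (ses I F).g := h1.epi_g
  have h3 : (ses I F).f ≫ kπ J F = 0 := Dual.H367.IdMul.idealMulι_comp_kπ_of_le h F
  exact ⟨h1.exact.desc (kπ J F) h3, h1.exact.g_desc (kπ J F) h3⟩

theorem smul_top_iff (I : X.IdealSheafData) (V : X.affineOpens) (a : Γ(X, V.1)) :
    (show Γ(Coh.structureModule X, V.1) from a) ∈
      I.ideal V • (⊤ : Submodule Γ(X, V.1) Γ(Coh.structureModule X, V.1)) ↔ a ∈ I.ideal V := by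
  constructor
  · intro h
    have h1 : I.ideal V • (⊤ : Submodule Γ(X, V.1) Γ(Coh.structureModule X, V.1)) ≤
        (show Submodule Γ(X, V.1) Γ(Coh.structureModule X, V.1) from I.ideal V) :=
      Submodule.smul_le.2 fun r hr m _ => (I.ideal V).mul_mem_right (show Γ(X, V.1) from m) hr
    exact h1 h
  · intro h
    have h1 : (show Γ(Coh.structureModule X, V.1) from a) = a • (show Γ(Coh.structureModule X, V.1) from (1 : Γ(X, V.1))) :=
      (mul_one a).symm
    rw [h1]
    exact Submodule.smul_mem_smul h Submodule.mem_top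

theorem kπ_app_iff (I : X.IdealSheafData) (V : X.Opens) (hV : IsAffineOpen V) (a : Γ(X, V)) :
    (kπ I (Coh.structureModule X)).app V (show Γ(Coh.structureModule X, V) from a) = 0 ↔ a ∈ I.ideal ⟨V, hV⟩ := by
  rw [← smul_top_iff]
  exact Dual.H371.IdealMul.kπ_app_eq_zero_iff I (CurvesB.UnitCoh.isCoh_structureModule X).1 ⟨V, hV⟩ _

theorem hmap_tr_eq_zero {ι : Type*} (D : ι → X.Opens) (hD : ∀ i, IsAffineOpen (D i))
    (hDD : ∀ i j, IsAffineOpen (D i ⊓ D j)) (hcov : ⨆ i, D i = ⊤)
    (h1 : Subsingleton (Coh.HH X (Coh.structureModule X) 1)) {I J : X.IdealSheafData} (hIJ : I ≤ J)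
    (hc : ∀ g : (∀ i, Γ(X, D i)), Compat D hDD I g → ∃ c : Γ(X, ⊤), ∀ i, g i - ores le_top c ∈ J.ideal ⟨D i, hD i⟩)
    (x : Coh.HH X ((Dual3.idealMul I).obj (Coh.structureModule X)) 1) :
    hmap (Dual.H367.IdMul.tr hIJ (Coh.structureModule X)) 1 x = 0 := by
  obtain ⟨q, hq⟩ := exists_q hIJ (Coh.structureModule X)
  have hI := shortExact_ses I (Coh.structureModule X)
  have hJ := shortExact_ses J (Coh.structureModule X)
  -- the section
  obtain ⟨f, hf⟩ := (ab_exact₁ (shortExact_abShort hI) 0 x).1 (Subsingleton.elim (α := Coh.HH X (Coh.structureModule X) 1) _ _)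
  let s : Γ(kq I (Coh.structureModule X), ⊤) := Sheaf.H.equiv₀ (Coh.toAb (kq I (Coh.structureModule X))) isTerminalTop f
  have hO := (CurvesB.UnitCoh.isCoh_structureModule X).1
  have hlift : ∀ i, ∃ g : Γ(X, D i), (kπ I (Coh.structureModule X)).app (D i)
      (show Γ(Coh.structureModule X, D i) from g) = res _ le_top s := by
    intro i
    have := epi_kπ I (Coh.structureModule X)
    exact FormalB.FormalLoc.app_surjective_of_epi (kπ I (Coh.structureModule X)) hO (isQCoh_kq I hO) (hD i) _
  choose g hg using hlift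
  have hcompat : Compat D hDD I g := by
    intro i j
    rw [← kπ_app_iff I _ (hDD i j)]
    have e1 : (kπ I (Coh.structureModule X)).app (D i ⊓ D j)
        (show Γ(Coh.structureModule X, D i ⊓ D j) from ores inf_le_left (g i)) = res _ le_top s := by
      refine (app_res (kπ I (Coh.structureModule X)) (inf_le_left : D i ⊓ D j ≤ D i) (g i)).trans ?_
      refine (congrArg _ (hg i)).trans ?_
      exact res_res _ _ _ _
    have e2 : (kπ I (Coh.structureModule X)).app (D i ⊓ D j)
        (show Γ(Coh.structureModule X, D i ⊓ D j) from ores inf_le_right (g j)) = res _ le_top s := by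
      refine (app_res (kπ I (Coh.structureModule X)) (inf_le_right : D i ⊓ D j ≤ D j) (g j)).trans ?_
      refine (congrArg _ (hg j)).trans ?_
      exact res_res _ _ _ _
    refine (map_sub ((kπ I (Coh.structureModule X)).app (D i ⊓ D j)).hom _ _).trans ?_
    exact sub_eq_zero.2 (e1.trans e2.symm)
  obtain ⟨c, hc⟩ := hc g hcompat
  -- the global function
  let c₀ : Coh.HH X (Coh.structureModule X) 0 :=
    (Sheaf.H.equiv₀ (Coh.toAb (Coh.structureModule X)) isTerminalTop).symm
      (show Γ(Coh.structureModule X, ⊤) from c)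
  have hsec : q.app ⊤ s = (kπ J (Coh.structureModule X)).app ⊤ (show Γ(Coh.structureModule X, ⊤) from c) := by
    refine res_ext (kq J (Coh.structureModule X)) D (fun _ => le_top) hcov.ge fun i => ?_
    have e1 : res (kq J (Coh.structureModule X)) (le_top : D i ≤ ⊤) (q.app ⊤ s) =
        (kπ J (Coh.structureModule X)).app (D i) (show Γ(Coh.structureModule X, D i) from g i) := by
      rw [← app_res, ← hg i, ← hq]
      rfl
    have e2 : res (kq J (Coh.structureModule X)) (le_top : D i ≤ ⊤)
        ((kπ J (Coh.structureModule X)).app ⊤ (show Γ(Coh.structureModule X, ⊤) from c)) =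
        (kπ J (Coh.structureModule X)).app (D i) (show Γ(Coh.structureModule X, D i) from ores le_top c) := by
      rw [← app_res]
      rfl
    rw [e1, e2, ← sub_eq_zero]
    refine (map_sub ((kπ J (Coh.structureModule X)).app (D i)).hom _ _).symm.trans ?_
    exact (kπ_app_iff J _ (hD i) _).2 (hc i)
  have hf' : hmap q 0 f = hmap (kπ J (Coh.structureModule X)) 0 c₀ := by
    apply (Sheaf.H.equiv₀ (Coh.toAb (kq J (Coh.structureModule X))) isTerminalTop).injective
    refine (Sheaf.H.equiv₀_naturality isTerminalTop (toAbMap q) f).symm.trans ?_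
    refine Eq.trans ?_ (Sheaf.H.equiv₀_naturality isTerminalTop (toAbMap (kπ J (Coh.structureModule X))) c₀)
    refine hsec.trans (congrArg ((kπ J (Coh.structureModule X)).app ⊤).hom ?_)
    exact ((Sheaf.H.equiv₀ (Coh.toAb (Coh.structureModule X)) isTerminalTop).apply_symm_apply _).symm
  -- naturality
  let φ : abShort (ses I (Coh.structureModule X)) ⟶ abShort (ses J (Coh.structureModule X)) :=
    { τ₁ := toAbMap (Dual.H367.IdMul.tr hIJ (Coh.structureModule X))
      τ₂ := 𝟙 _
      τ₃ := toAbMap q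
      comm₁₂ := (congrArg toAbMap (Dual.H367.IdMul.tr_ι hIJ (Coh.structureModule X))).trans (Category.comp_id _).symm
      comm₂₃ := (Category.id_comp _).trans (congrArg toAbMap hq.symm) }
  have h5 := δab_naturality (shortExact_abShort hI) (shortExact_abShort hJ) φ 0 f
  rw [hf] at h5
  refine h5.symm.trans ?_
  change δab (shortExact_abShort hJ) 0 (hmap q 0 f) = 0
  rw [hf']
  exact (ab_exact₃ (shortExact_abShort hJ) 0 _).2 ⟨c₀, rfl⟩

end K685.DelH1
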