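import Groth.Agent.S3664
import Groth.Agent.CurvesC.DualLin
import Groth.Agent.Dual.H371.IdealMul
import Groth.Agent.Dual.H367.IdMul
import Groth.Agent.Dual.H367.Supp
import Groth.Agent.PerfA.PerfLocal
import Groth.Agent.CohDim.K685.DelH1

/-!
# Vanishing of `H^m(U, W)` from Deligne's formula and duality
-/

set_option autoImplicit false

universe u

open CategoryTheory CategoryTheory.Limits AlgebraicGeometry TopologicalSpace Opposite

attribute [local instance] HasDerivedCategory.standard

noncomputable section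

namespace K685.DelD

open Groth.Agent Groth.Agent.FormalB.TrKQuot Groth.Agent.Ega3B.HLes Groth.Agent.CurvesC Groth.Agent.CurvesC.RepX
open Groth.Agent.PerfA.Restrict Scheme.Modules

section Iso

variable {U X : Scheme.{u}} (j : U ⟶ X) [IsOpenImmersion j]

theorem isZero_restrict_kq (I : X.IdealSheafData) (hI : I.supportSetᶜ = Set.range j) (M : X.Modules) :
    IsZero ((kq I M).restrict j) := by
  refine Dual.H367.Supp.isZero_restrict j fun W hW m => ?_
  have h1 : I.subschemeι ⁻¹ᵁ W = ⊥ := by
    refine Opens.ext (Set.eq_empty_of_forall_notMem fun z hz => ?_)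
    have h2 : I.subschemeι z ∈ (I.supportSet)ᶜ := by
      rw [hI]
      exact hW hz
    refine h2 ?_
    have h3 : I.subschemeι z ∈ Set.range I.subschemeι := ⟨z, rfl⟩
    rw [I.range_subschemeι] at h3
    exact h3
  have key : ∀ a b : Γ((Scheme.Modules.pullback I.subschemeι).obj M, I.subschemeι ⁻¹ᵁ W), a = b := fun a b =>
    Fdesc.LocGen.res_ext _ (fun e : PEmpty.{1} => e.elim) (fun e => e.elim) (by rw [h1]; exact bot_le)
      fun e => e.elim
  exact key m 0

theorem isIso_restrict_idealMulι (I : X.IdealSheafData) (hI : I.supportSetᶜ = Set.range j) (M : X.Modules) :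
    IsIso ((restrictFunctor j).map (Dual3.idealMulι I M)) := by
  have h1 := (DelH1.shortExact_ses I M).map_of_exact (restrictFunctor j)
  exact (ShortComplex.ShortExact.isIso_f_iff h1).2 (isZero_restrict_kq j I hI M)

end Iso

section Generic

theorem gen0 {C : Type*} [Category* C] (G : C ⥤ C) (η : G ⟶ 𝟭 C) {X0 O X1 : C} (a : X0 ≅ O) (b : X1 ≅ G.obj O) :
    (G.map a.hom ≫ b.inv) ≫ (b.hom ≫ η.app O ≫ a.inv) = η.app X0 := by
  have h1 := η.naturality a.hom
  simp only [Functor.id_map] at h1
  simp only [Category.assoc, Iso.inv_hom_id_assoc, Functor.id_obj]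
  rw [reassoc_of% h1]
  simp

theorem gen1 {C : Type*} [Category* C] [Abelian C] (G : C ⥤ C) [G.Additive] (η : G ⟶ 𝟭 C) (O : C)
    (φ : (G.mapHomologicalComplex (ComplexShape.up ℤ)).obj ((HomologicalComplex.single C (ComplexShape.up ℤ) 0).obj O) ⟶
      (HomologicalComplex.single C (ComplexShape.up ℤ) 0).obj O) (hφ : ∀ q, φ.f q = η.app _) :
    (HomologicalComplex.singleMapHomologicalComplex G (ComplexShape.up ℤ) 0).hom.app O ≫
      (HomologicalComplex.single C (ComplexShape.up ℤ) 0).map (η.app O) = φ := by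
  apply HomologicalComplex.to_single_hom_ext
  have h1 := HomologicalComplex.singleMapHomologicalComplex_hom_app_self G (ComplexShape.up ℤ) 0 O
  have h2 := HomologicalComplex.single_map_f_self (V := C) (c := ComplexShape.up ℤ) 0 (η.app O)
  have h3 := gen0 G η (HomologicalComplex.singleObjXSelf (ComplexShape.up ℤ) 0 O)
    (HomologicalComplex.singleObjXSelf (ComplexShape.up ℤ) 0 (G.obj O))
  refine (HomologicalComplex.comp_f _ _ 0).trans ?_
  refine Eq.trans ?_ (hφ 0).symm
  refine Eq.trans ?_ h3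
  rw [h1]
  exact congrArg _ h2

theorem gen2 {C D : Type*} [Category* C] [Category* D] (Q : C ⥤ D) {A A' B B' : C} (eA : A ≅ A') (eB : B ≅ B')
    (u : A' ⟶ B') {A'' B'' : D} (sA : Q.obj A' ≅ A'') (sB : Q.obj B' ≅ B'') (v : A'' ⟶ B'')
    (h : Q.map u ≫ sB.hom = sA.hom ≫ v) :
    Q.map (eA.hom ≫ u ≫ eB.inv) ≫ (Q.mapIso eB ≪≫ sB).hom = (Q.mapIso eA ≪≫ sA).hom ≫ v := by
  simp [h]

end Generic

section Del

variable {X : Scheme.{u}} (I : X.IdealSheafData) (O : X.Modules)

/-- A module as a complex. -/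
abbrev F0 : CochainComplex X.Modules ℤ := (HomologicalComplex.single X.Modules (ComplexShape.up ℤ) 0).obj O

/-- The Deligne complex of a module placed in degree `0`. -/
def eDel (T : ℕ) : (Dual3.deligne I T).obj (F0 O) ≅ F0 ((Dual3.idealMul (I ^ T)).obj O) :=
  (HomologicalComplex.singleMapHomologicalComplex (Dual3.idealMul (I ^ T)) (ComplexShape.up ℤ) 0).app O

theorem eDel_ι (T : ℕ) : (eDel I O T).hom ≫ (HomologicalComplex.single X.Modules (ComplexShape.up ℤ) 0).map
    (Dual3.idealMulι (I ^ T) O) = Dual3.deligneι I T (F0 O) :=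
  gen1 (Dual3.idealMul (I ^ T)) { app := fun M => Dual3.idealMulι (I ^ T) M
                                  naturality := fun _ _ φ => Dual3.idealMul_map_ι _ φ } O _ fun _ => rfl

/-- The transition maps of the Deligne system. -/
def trDel {t T : ℕ} (h : I ^ T ≤ I ^ t) : (Dual3.deligne I T).obj (F0 O) ⟶ (Dual3.deligne I t).obj (F0 O) :=
  (eDel I O T).hom ≫ (HomologicalComplex.single X.Modules (ComplexShape.up ℤ) 0).map (Dual.H367.IdMul.tr h O) ≫
    (eDel I O t).inv

theorem trDel_ι {t T : ℕ} (h : I ^ T ≤ I ^ t) : trDel I O h ≫ Dual3.deligneι I t (F0 O) = Dual3.deligneι I T (F0 O) := by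
  rw [← eDel_ι, ← eDel_ι, trDel, Category.assoc, Category.assoc, Iso.inv_hom_id_assoc, ← Functor.map_comp,
    Dual.H367.IdMul.tr_ι]

/-- The comparison in the derived category. -/
def dDel (T : ℕ) : DCoh.toD X ((Dual3.deligne I T).obj (F0 O)) ≅ DCoh.inD X ((Dual3.idealMul (I ^ T)).obj O) :=
  DerivedCategory.Q.mapIso (eDel I O T) ≪≫ ((DerivedCategory.singleFunctorIsoCompQ X.Modules 0).app _).symm

theorem dDel_tr {t T : ℕ} (h : I ^ T ≤ I ^ t) : DerivedCategory.Q.map (trDel I O h) ≫ (dDel I O t).hom =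
    (dDel I O T).hom ≫ (DerivedCategory.singleFunctor X.Modules 0).map (Dual.H367.IdMul.tr h O) :=
  gen2 DerivedCategory.Q (eDel I O T) (eDel I O t) _ _ _ _
    ((DerivedCategory.singleFunctorIsoCompQ X.Modules 0).inv.naturality (Dual.H367.IdMul.tr h O))

variable {U : Scheme.{u}} (j : U ⟶ X) [IsOpenImmersion j]

theorem isIso_restrictD_ι (hI : ∀ T : ℕ, T ≠ 0 → (I ^ T).supportSetᶜ = Set.range j) (T : ℕ) (hT : T ≠ 0) :
    IsIso ((restrictD j).map (DerivedCategory.Q.map (Dual3.deligneι I T (F0 O)))) := by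
  have h1 : IsIso (((restrictFunctor j).mapHomologicalComplex (ComplexShape.up ℤ)).map (Dual3.deligneι I T (F0 O))) := by
    have : ∀ q, IsIso ((((restrictFunctor j).mapHomologicalComplex (ComplexShape.up ℤ)).map
        (Dual3.deligneι I T (F0 O))).f q) := fun q => isIso_restrict_idealMulι j (I ^ T) (hI T hT) _
    exact HomologicalComplex.Hom.isIso_of_components _
  have h2 : IsIso ((((restrictFunctor j).mapHomologicalComplex (ComplexShape.up ℤ)) ⋙ DerivedCategory.Q).map
      (Dual3.deligneι I T (F0 O))) := by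
    change IsIso (DerivedCategory.Q.map _)
    infer_instance
  exact (NatIso.isIso_map_iff (restrictFunctor j).mapDerivedCategoryFactors (Dual3.deligneι I T (F0 O))).2 h2

end Del

end K685.DelD
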