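import Groth.Agent.CohDim.K685.Thick
import Groth.Agent.S0232
import Groth.Agent.S0002
import Groth.Agent.CurvesB.UnitCoh

/-!
# Functions on a large thickening of a connected positive-dimensional closed subset of `P^n` become constant on a
smaller thickening
-/

set_option autoImplicit false

universe u

open CategoryTheory CategoryTheory.Limits AlgebraicGeometry TopologicalSpace Opposite

noncomputable section

namespace K685.ThickConst

open Groth.Agent K685.Thick
open Groth.Agent.Fdesc.LocGen (ores ores_glue ores_ext ores_ores ores_refl)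
open Groth.Agent.Pic13.H965.GlobSurj (κ app_κ exists_locConst)

section Gen

variable {X : Scheme.{u}}

theorem not_isUnit_germ_of_mem (I : X.IdealSheafData) {V : X.Opens} (hV : IsAffineOpen V) {c : Γ(X, V)}
    (hc : c ∈ I.ideal ⟨V, hV⟩) (y : X) (hy : y ∈ I.support) (hyV : y ∈ V) :
    ¬ IsUnit (X.presheaf.germ V y hyV c) := by
  rw [Scheme.IdealSheafData.mem_support_iff_of_mem (U := ⟨V, hV⟩) hyV] at hy
  intro hu
  have h1 := (X.mem_basicOpen c y hyV).2 hu
  rw [Scheme.mem_zeroLocus_iff] at hy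
  exact hy c hc h1

variable {ι : Type*} (D : ι → X.Opens) (hD : ∀ i, IsAffineOpen (D i)) (hDD : ∀ i j, IsAffineOpen (D i ⊓ D j))

theorem Compat.mono {I J : X.IdealSheafData} (h : I ≤ J) {g : ∀ i, Γ(X, D i)} (hg : Compat D hDD I g) :
    Compat D hDD J g := fun i j => h _ (hg i j)

theorem Compat.sub_const {I : X.IdealSheafData} {g : ∀ i, Γ(X, D i)} (hg : Compat D hDD I g) (c : Γ(X, ⊤)) :
    Compat D hDD I (fun i => g i - ores le_top c) := fun i j => by
  have h1 := hg i j
  rw [map_sub, map_sub, ores_ores, ores_ores]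
  convert h1 using 1
  ring

variable {k : Type u} [Field k] [IsAlgClosed k]

include hD in
/-- Sections of `O / I` are constant when `I` is radical with connected proper support. -/
theorem exists_const_of_compat (f : X ⟶ Spec (CommRingCat.of k)) [IsProper f] (hcov : ⨆ i, D i = ⊤)
    (I : X.IdealSheafData) [IsReduced I.subscheme] (hconn : _root_.IsConnected (I.support : Set X))
    (g : ∀ i, Γ(X, D i)) (hg : Compat D hDD I g) :
    ∃ a : k, ∀ i, g i - ores le_top (κ f a) ∈ I.ideal ⟨D i, hD i⟩ := by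
  obtain ⟨r, hr⟩ := exists_glue D hDD hcov I g hg
  have hcs : ConnectedSpace I.subscheme := by
    have h1 : _root_.IsConnected (Set.range I.subschemeι) := by rw [I.range_subschemeι]; exact hconn
    have h2 := (I.subschemeι.isClosedEmbedding.isInducing.isPreconnected_image (s := Set.univ)).1 (by
      rw [Set.image_univ]; exact h1.isPreconnected)
    have h3 : Nonempty I.subscheme := by
      obtain ⟨_, z, _⟩ := h1.nonempty
      exact ⟨z⟩
    exact { isPreconnected_univ := h2, toNonempty := h3 }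
  obtain ⟨S, C, hC, hdisj, hf⟩ := exists_locConst (I.subschemeι ≫ f) r
  obtain ⟨z⟩ : Nonempty I.subscheme := inferInstance
  have hz : z ∈ ⨆ a : S, C a.1 := by rw [hC]; trivial
  obtain ⟨a, ha⟩ := Opens.mem_iSup.1 hz
  have hCa : C a.1 = ⊤ := by
    have hclopen : IsClopen (C a.1 : Set I.subscheme) := by
      refine ⟨?_, (C a.1).2⟩
      have h1 : ((C a.1 : Set I.subscheme))ᶜ = ⋃ b : {b : S // b.1 ≠ a.1}, (C b.1.1 : Set I.subscheme) := by
        ext y
        constructor
        · intro hy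
          have hy' : y ∈ ⨆ a : S, C a.1 := by rw [hC]; trivial
          obtain ⟨b, hb⟩ := Opens.mem_iSup.1 hy'
          exact Set.mem_iUnion.2 ⟨⟨b, fun h => hy (h ▸ hb)⟩, hb⟩
        · intro hy hya
          obtain ⟨b, hb⟩ := Set.mem_iUnion.1 hy
          have h2 : y ∈ C b.1.1 ⊓ C a.1 := ⟨hb, hya⟩
          rw [hdisj _ _ b.2] at h2
          exact h2
      rw [← isOpen_compl_iff, h1]
      exact isOpen_iUnion fun b => (C b.1.1).2
    rcases isClopen_iff.1 hclopen with h | h
    · exact absurd ha (by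
        intro h'
        have : z ∈ (C a.1 : Set I.subscheme) := h'
        rw [h] at this
        exact this)
    · exact Opens.ext h
  refine ⟨a.1, fun i => ?_⟩
  rw [← app_eq_zero_iff I (hD i), map_sub, app_ores]
  have h1 : r = κ (I.subschemeι ≫ f) a.1 := by
    have h2 := hf a.1
    have h3 := congrArg (ores (show (⊤ : I.subscheme.Opens) ≤ C a.1 from hCa.ge)) h2
    rw [ores_ores, ores_ores, ores_refl, ores_refl] at h3
    exact h3
  have h4 : I.subschemeι.app ⊤ (κ f a.1) = r := by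
    rw [h1]
    exact app_κ rfl a.1
  rw [h4, ← hr i, sub_eq_zero]
  rfl

/-- Krull: functions with high order of vanishing at all the closed points are zero. -/
theorem exists_krull (Z : Scheme.{u}) [IsNoetherian Z] [IsArtinianRing Γ(Z, ⊤)] :
    ∃ T : ℕ, ∀ r : Γ(Z, ⊤), (∀ z : Z, IsClosed ({z} : Set Z) →
      Z.presheaf.germ ⊤ z trivial r ∈ IsLocalRing.maximalIdeal (Z.presheaf.stalk z) ^ T) → r = 0 := by
  let W : ℕ → Ideal Γ(Z, ⊤) := fun T => ⨅ z : {z : Z // IsClosed ({z} : Set Z)},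
    Ideal.comap (Z.presheaf.germ ⊤ z.1 trivial).hom (IsLocalRing.maximalIdeal (Z.presheaf.stalk z.1) ^ T)
  have hW : Antitone W := fun a b hab => iInf_mono fun z => Ideal.comap_mono (Ideal.pow_le_pow_right hab)
  obtain ⟨T, hT⟩ := IsArtinian.monotone_stabilizes (⟨fun n => OrderDual.toDual (W n), fun a b h => hW h⟩ : ℕ →o (Submodule Γ(Z, ⊤) Γ(Z, ⊤))ᵒᵈ)
  refine ⟨T, fun r hr => ?_⟩
  have hrT : r ∈ W T := Submodule.mem_iInf _ |>.2 fun z => hr z.1 z.2
  have hall : ∀ m, T ≤ m → r ∈ W m := fun m hm => by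
    have : W T = W m := hT m hm
    rwa [← this]
  have hgerm : ∀ z : Z, IsClosed ({z} : Set Z) → Z.presheaf.germ ⊤ z trivial r = 0 := by
    intro z hz
    have h1 : Z.presheaf.germ ⊤ z trivial r ∈ (⨅ m : ℕ, IsLocalRing.maximalIdeal (Z.presheaf.stalk z) ^ m :
        Ideal (Z.presheaf.stalk z)) := by
      rw [Ideal.mem_iInf]
      intro m
      have h2 := hall (max T m) (le_max_left _ _)
      have h3 : Z.presheaf.germ ⊤ z trivial r ∈ IsLocalRing.maximalIdeal (Z.presheaf.stalk z) ^ (max T m) :=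
        (Submodule.mem_iInf _).1 h2 ⟨z, hz⟩
      exact Ideal.pow_le_pow_right (le_max_right _ _) h3
    rw [Ideal.iInf_pow_eq_bot_of_isLocalRing _ (IsLocalRing.maximalIdeal.isMaximal _).ne_top] at h1
    exact h1
  have hall' : ∀ z : Z, Z.presheaf.germ ⊤ z trivial r = 0 := by
    by_contra hcon
    push Not at hcon
    obtain ⟨z, hz⟩ := hcon
    have hcl : IsClosed {z : Z | Z.presheaf.germ ⊤ z trivial r ≠ 0} := by
      rw [← isOpen_compl_iff, isOpen_iff_forall_mem_open]
      intro y hy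
      have hy' : Z.presheaf.germ ⊤ y trivial r = 0 := by
        by_contra h
        exact hy h
      rw [← map_zero (Z.presheaf.germ ⊤ y trivial).hom] at hy'
      obtain ⟨W', hyW', i1, i2, hW'⟩ := TopCat.Presheaf.germ_eq (F := Z.presheaf) (U := ⊤) (V := ⊤) y
        trivial trivial _ _ hy'
      refine ⟨W', fun w hw hcon => hcon ?_, W'.2, hyW'⟩
      rw [← TopCat.Presheaf.germ_res_apply Z.presheaf i1 w hw, hW', map_zero, map_zero]
    obtain ⟨y, hy, hy'⟩ := IsClosed.exists_closed_singleton hcl ⟨z, hz⟩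
    exact hy (hgerm y hy')
  exact TopCat.Presheaf.section_ext Z.sheaf ⊤ _ _ fun z _ => (hall' z).trans (map_zero _).symm

end Gen

open Groth.Agent.FormalB.TwistFrac

theorem isNoetherian {k : Type u} [Field k] {Z : Scheme.{u}} (f : Z ⟶ Spec (CommRingCat.of k)) [IsProper f] :
    IsNoetherian Z := by
  have h1 : IsLocallyNoetherian Z := LocallyOfFiniteType.isLocallyNoetherian f
  have h2 : CompactSpace Z := QuasiCompact.compactSpace_of_compactSpace f
  exact { }

theorem isArtinian {k : Type u} [Field k] {Z : Scheme.{u}} (f : Z ⟶ Spec (CommRingCat.of k)) [IsProper f] :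
    IsArtinianRing Γ(Z, ⊤) := by
  let _ : Z.Over (Spec (CommRingCat.of k)) := ⟨f⟩
  have : IsProper (Z ↘ Spec (CommRingCat.of k)) := ‹IsProper f›
  exact S0232.isArtinian_of_finite k Z (S0002.result k Z _ (CurvesB.UnitCoh.isCoh_structureModule Z) 0)

section Proj

variable (k : Type u) [Field k] (n : ℕ)

/-- The standard charts. -/
abbrev DD (i : Fin (n + 1)) : (CohB1.ProjSpace n k).Opens := Ega3B.ProjTwist.D n k i

theorem hD (i : Fin (n + 1)) : IsAffineOpen (DD k n i) := Ega3B.ProjTwist.isAffineOpen_D n k i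

theorem isSeparated : (CohB1.ProjSpace n k).IsSeparated := by
  have : IsProper (CohB1.ProjSpace n k ↘ Spec (CommRingCat.of k)) := Ega3B.ProjProper.isProper_toSpec n k
  refine ⟨?_⟩
  rw [← terminal.comp_from (CohB1.ProjSpace n k ↘ Spec (CommRingCat.of k))]
  infer_instance

theorem hDD (i j : Fin (n + 1)) : IsAffineOpen (DD k n i ⊓ DD k n j) := by
  have := isSeparated k n
  exact (hD k n i).inf (hD k n j)

theorem hcov : ⨆ i, DD k n i = ⊤ := by
  refine eq_top_iff.2 fun x _ => ?_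
  obtain ⟨j, hj⟩ := Groth.Agent.PerfB.ProjSpaceCover.exists_mem_basicOpen_X n k x
  exact Opens.mem_iSup.2 ⟨j, hj⟩

variable {k n}

theorem compat_Δ (I : (CohB1.ProjSpace n k).IdealSheafData) (T : ℕ) (g : ∀ i, Γ(CohB1.ProjSpace n k, DD k n i))
    (hg : Compat (DD k n) (hDD k n) (I ^ T) g) (j : Fin (n + 1)) (α : Fin (n + 1) →₀ ℕ) (hα : α.degree < T) :
    Compat (DD k n) (hDD k n) I (fun i => FunOp.Δ j (DD k n i) α (g i)) := by
  intro i i'
  have h1 : ores inf_le_left (g i) - ores inf_le_right (g i') ∈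
    (I.ideal ⟨DD k n i ⊓ DD k n i', hDD k n i i'⟩) ^ T := hg i i'
  have h2 := FunOp.Δ_mem_pow j (DD k n i ⊓ DD k n i') _ T α _ h1
  have h3 : FunOp.Δ j (DD k n i ⊓ DD k n i') α (ores inf_le_left (g i) - ores inf_le_right (g i')) =
      ores inf_le_left (FunOp.Δ j (DD k n i) α (g i)) - ores inf_le_right (FunOp.Δ j (DD k n i') α (g i')) := by
    rw [map_sub]
    exact congrArg₂ (· - ·) (FunOp.Δ_res j _ α (g i)).symm (FunOp.Δ_res j _ α (g i')).symm
  rw [h3] at h2
  exact Ideal.pow_le_self (by omega) h2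

theorem not_isUnit_germ_Δ (j : Fin (n + 1)) {V : (CohB1.ProjSpace n k).Opens} (α : Fin (n + 1) →₀ ℕ) (hα : α ≠ 0)
    (c : Γ(CohB1.ProjSpace n k, V)) (y : CohB1.ProjSpace n k) (hyV : y ∈ V) (hy : y ∉ DD k n j) :
    ¬ IsUnit ((CohB1.ProjSpace n k).presheaf.germ V y hyV (FunOp.Δ j V α c)) := by
  rw [isUnit_germ_iff]
  have h1 := FunOp.oval_Δ j α c ⟨y, hyV⟩
  intro hu
  have hu' : IsUnit (algebraMap (MvPolynomial (Fin (n + 1)) k) (Localization (HasseOp.Mx y)) (MvPolynomial.X j) ^
      α.degree * K685.Taylor.D (HasseOp.Mx y) α (oval (𝒜 := CohB1.polyGrading n k) c ⟨y, hyV⟩)) := h1 ▸ hu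
  have h2 := isUnit_of_mul_isUnit_left hu'
  have h3 : α.degree ≠ 0 := fun h => hα ((Finsupp.degree_eq_zero_iff _).1 h)
  rw [isUnit_pow_iff h3] at h2
  have h4 : (MvPolynomial.X j : MvPolynomial (Fin (n + 1)) k) ∈
      (show ProjectiveSpectrum (CohB1.polyGrading n k) from y).asHomogeneousIdeal.toIdeal := by
    by_contra hcon
    exact hy hcon
  exact (IsLocalization.AtPrime.isUnit_to_map_iff (Localization.AtPrime
    (show ProjectiveSpectrum (CohB1.polyGrading n k) from y).asHomogeneousIdeal.toIdeal) _ _).1 h2 h4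

variable [IsAlgClosed k]

theorem Δ_mem (I : (CohB1.ProjSpace n k).IdealSheafData) [IsReduced I.subscheme]
    (hconn : _root_.IsConnected (I.support : Set (CohB1.ProjSpace n k)))
    (hmeet : ∀ j, ∃ y ∈ I.support, y ∉ DD k n j) (T : ℕ) (g : ∀ i, Γ(CohB1.ProjSpace n k, DD k n i))
    (hg : Compat (DD k n) (hDD k n) (I ^ T) g) (j : Fin (n + 1)) (α : Fin (n + 1) →₀ ℕ) (hα : α.degree < T)
    (hα0 : α ≠ 0) (i : Fin (n + 1)) : FunOp.Δ j (DD k n i) α (g i) ∈ I.ideal ⟨DD k n i, hD k n i⟩ := by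
  have hp : IsProper (CohB1.ProjSpace n k ↘ Spec (CommRingCat.of k)) := Ega3B.ProjProper.isProper_toSpec n k
  obtain ⟨a, ha⟩ := exists_const_of_compat (DD k n) (hD k n) (hDD k n)
    (CohB1.ProjSpace n k ↘ Spec (CommRingCat.of k)) (hcov k n) I hconn _ (compat_Δ I T g hg j α hα)
  have ha0 : a = 0 := by
    by_contra hne
    obtain ⟨y, hy, hyj⟩ := hmeet j
    obtain ⟨i', hi'⟩ : ∃ i', y ∈ DD k n i' := by
      have : y ∈ ⨆ i, DD k n i := by rw [hcov]; trivial
      exact Opens.mem_iSup.1 this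
    have h1 := not_isUnit_germ_of_mem I (hD k n i') (ha i') y hy hi'
    have h2 := not_isUnit_germ_Δ j α hα0 (g i') y hi' hyj
    have h3 : IsUnit ((CohB1.ProjSpace n k).presheaf.germ (DD k n i') y hi'
        (ores le_top (κ (CohB1.ProjSpace n k ↘ Spec (CommRingCat.of k)) a))) :=
      (((Ne.isUnit hne).map (κ _)).map (ores le_top)).map
        ((CohB1.ProjSpace n k).presheaf.germ (DD k n i') y hi').hom
    rw [map_sub] at h1
    have h4 : (CohB1.ProjSpace n k).presheaf.germ (DD k n i') y hi' (ores le_top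
        (κ (CohB1.ProjSpace n k ↘ Spec (CommRingCat.of k)) a)) ∈ IsLocalRing.maximalIdeal ((CohB1.ProjSpace n k).presheaf.stalk y) := by
      have h5 := Ideal.sub_mem (IsLocalRing.maximalIdeal ((CohB1.ProjSpace n k).presheaf.stalk y)) h2 h1
      rwa [sub_sub_cancel] at h5
    exact h4 h3
  have h6 := ha i
  rw [ha0, map_zero, map_zero, sub_zero] at h6
  exact h6

theorem germ_mem_pow' (I : (CohB1.ProjSpace n k).IdealSheafData) [IsReduced I.subscheme]
    (hconn : _root_.IsConnected (I.support : Set (CohB1.ProjSpace n k)))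
    (hmeet : ∀ j, ∃ y ∈ I.support, y ∉ DD k n j) (T : ℕ) (g : ∀ i, Γ(CohB1.ProjSpace n k, DD k n i))
    (hg : Compat (DD k n) (hDD k n) (I ^ T) g) (hg0 : ∀ i, g i ∈ I.ideal ⟨DD k n i, hD k n i⟩)
    (y : CohB1.ProjSpace n k) (hy : y ∈ I.support) (hycl : IsClosed ({y} : Set (CohB1.ProjSpace n k)))
    (i : Fin (n + 1)) (hi : y ∈ DD k n i) :
    (CohB1.ProjSpace n k).presheaf.germ (DD k n i) y hi (g i) ∈
      IsLocalRing.maximalIdeal ((CohB1.ProjSpace n k).presheaf.stalk y) ^ T := by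
  obtain ⟨p, hp⟩ := exists_coords y hycl i hi
  refine germ_mem_pow y i hi p hp T hi (g i) fun α hα => ?_
  refine not_isUnit_germ_of_mem I (hD k n i) ?_ y hy hi
  by_cases h0 : α = 0
  · rw [h0, FunOp.Δ_zero]
    exact hg0 i
  · exact Δ_mem I hconn hmeet T g hg i α hα h0 i

/-- **Main theorem.**  Sections of `O / I^T` become constant in `O / I^t`, `T ≫ t`. -/
theorem exists_bound (I : (CohB1.ProjSpace n k).IdealSheafData) [IsReduced I.subscheme]
    (hconn : _root_.IsConnected (I.support : Set (CohB1.ProjSpace n k)))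
    (hmeet : ∀ j, ∃ y ∈ I.support, y ∉ DD k n j) (t : ℕ) (ht : t ≠ 0) :
    ∃ T : ℕ, t ≤ T ∧ ∀ g : (∀ i, Γ(CohB1.ProjSpace n k, DD k n i)), Compat (DD k n) (hDD k n) (I ^ T) g →
      ∃ a : k, ∀ i, g i - ores le_top (κ (CohB1.ProjSpace n k ↘ Spec (CommRingCat.of k)) a) ∈
        (I ^ t).ideal ⟨DD k n i, hD k n i⟩ := by
  have hp : IsProper (CohB1.ProjSpace n k ↘ Spec (CommRingCat.of k)) := Ega3B.ProjProper.isProper_toSpec n k
  have hNZ : IsNoetherian (I ^ t).subscheme :=
    isNoetherian ((I ^ t).subschemeι ≫ (CohB1.ProjSpace n k ↘ Spec (CommRingCat.of k)))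
  have hAZ : IsArtinianRing Γ((I ^ t).subscheme, ⊤) :=
    isArtinian ((I ^ t).subschemeι ≫ (CohB1.ProjSpace n k ↘ Spec (CommRingCat.of k)))
  obtain ⟨T₀, hT₀⟩ := exists_krull (I ^ t).subscheme
  have hpow : ∀ a b : ℕ, a ≤ b → I ^ b ≤ I ^ a := fun a b hab V => Ideal.pow_le_pow_right hab
  have hsupp : (I ^ t).support = I.support := I.support_pow t ht
  refine ⟨max t T₀, le_max_left _ _, fun g hg => ?_⟩
  have h1 : Compat (DD k n) (hDD k n) I g := by
    have := Compat.mono (DD k n) (hDD k n) (hpow 1 (max t T₀) (by omega)) hg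
    rwa [pow_one] at this
  obtain ⟨a, ha⟩ := exists_const_of_compat (DD k n) (hD k n) (hDD k n)
    (CohB1.ProjSpace n k ↘ Spec (CommRingCat.of k)) (hcov k n) I hconn _ h1
  refine ⟨a, ?_⟩
  have h2 := Compat.sub_const (DD k n) (hDD k n) hg (κ (CohB1.ProjSpace n k ↘ Spec (CommRingCat.of k)) a)
  have h3 := Compat.mono (DD k n) (hDD k n) (hpow t (max t T₀) (le_max_left _ _)) h2
  obtain ⟨r, hr⟩ := exists_glue (DD k n) (hDD k n) (hcov k n) (I ^ t) _ h3
  have hr0 : r = 0 := by
    refine hT₀ r fun z hz => ?_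
    let y := (I ^ t).subschemeι z
    have hy : y ∈ I.support := by
      rw [← hsupp]
      have : y ∈ Set.range (I ^ t).subschemeι := ⟨z, rfl⟩
      rw [(I ^ t).range_subschemeι] at this
      exact this
    have hycl : IsClosed ({y} : Set (CohB1.ProjSpace n k)) := by
      have := (I ^ t).subschemeι.isClosedEmbedding.isClosedMap _ hz
      rwa [Set.image_singleton] at this
    obtain ⟨i, hi⟩ : ∃ i, y ∈ DD k n i := by
      have : y ∈ ⨆ i, DD k n i := by rw [hcov]; trivial
      exact Opens.mem_iSup.1 this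
    have h4 := germ_mem_pow' I hconn hmeet (max t T₀) _ h2 ha y hy hycl i hi
    have h5 : (I ^ t).subscheme.presheaf.germ ⊤ z trivial r =
        ((I ^ t).subschemeι.stalkMap z).hom ((CohB1.ProjSpace n k).presheaf.germ (DD k n i) y hi
          (g i - ores le_top (κ (CohB1.ProjSpace n k ↘ Spec (CommRingCat.of k)) a))) := by
      have h6 := Scheme.Hom.germ_stalkMap_apply (I ^ t).subschemeι (DD k n i) z hi
        (g i - ores le_top (κ (CohB1.ProjSpace n k ↘ Spec (CommRingCat.of k)) a))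
      refine Eq.trans ?_ h6.symm
      rw [← hr i]
      exact (TopCat.Presheaf.germ_res_apply (I ^ t).subscheme.presheaf (homOfLE le_top) z hi r).symm
    rw [h5]
    have h7 : Ideal.map ((I ^ t).subschemeι.stalkMap z).hom
        (IsLocalRing.maximalIdeal ((CohB1.ProjSpace n k).presheaf.stalk y)) ≤
        IsLocalRing.maximalIdeal ((I ^ t).subscheme.presheaf.stalk z) :=
      ((IsLocalRing.local_hom_TFAE ((I ^ t).subschemeι.stalkMap z).hom).out 0 2 rfl rfl).1
        (show IsLocalHom ((I ^ t).subschemeι.stalkMap z).hom from inferInstance)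
    have h8 := Ideal.mem_map_of_mem ((I ^ t).subschemeι.stalkMap z).hom
      (Ideal.pow_le_pow_right (le_max_right t T₀) h4)
    rw [Ideal.map_pow] at h8
    exact Ideal.pow_right_mono h7 T₀ h8
  intro i
  rw [← app_eq_zero_iff (I ^ t) (hD k n i), ← hr i, hr0, map_zero]

end Proj

end K685.ThickConst
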