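import Groth.Agent.CohDim.K685.DelVan
import Groth.Agent.CohDim.K685.ThickConst
import Groth.Agent.LoccohB.AdPn704
import Groth.Agent.Surf.K461.ProperForm
import Groth.Agent.Localalg.LichtAsm
import Groth.Agent.S0023

/-!
# Vanishing of `H^{n-1}(P^n ∖ Y, ω)` for `Y` connected, of positive dimension
-/

set_option autoImplicit false

universe u

open CategoryTheory CategoryTheory.Limits AlgebraicGeometry TopologicalSpace Opposite

attribute [local instance] HasDerivedCategory.standard

noncomputable section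

namespace K685.DelTop

open Groth.Agent Groth.Agent.CurvesC Groth.Agent.CurvesC.RepX K685.ThickConst
open Groth.Agent.PerfA.Restrict Scheme.Modules
open Groth.Agent.Pic13.H965.GlobSurj (κ)

variable (k : Type u) [Field k] [IsAlgClosed k] (n : ℕ)

omit [IsAlgClosed k] in
theorem supportSet_pow (I : (CohB1.ProjSpace n k).IdealSheafData) (T : ℕ) (hT : T ≠ 0) :
    (I ^ T).supportSet = I.supportSet := by
  have h1 := Scheme.IdealSheafData.support_pow I T hT
  exact congrArg (fun Z : Closeds (CohB1.ProjSpace n k) => (Z : Set (CohB1.ProjSpace n k))) h1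

theorem subsingleton_top (hn : 1 ≤ n) (I : (CohB1.ProjSpace n k).IdealSheafData) [IsReduced I.subscheme]
    (hconn : _root_.IsConnected (I.support : Set (CohB1.ProjSpace n k)))
    (hmeet : ∀ j, ∃ y ∈ I.support, y ∉ DD k n j) (U : (CohB1.ProjSpace n k).Opens)
    (hU : (U : Set (CohB1.ProjSpace n k)) = (I.support : Set (CohB1.ProjSpace n k))ᶜ) :
    Subsingleton (Coh.HH (U : Scheme.{u}) ((Twist.twistProjSpace n k (-((n : ℤ) + 1))).restrict U.ι) (n - 1)) := by
  have hp : IsProper (CohB1.ProjSpace n k ↘ Spec (CommRingCat.of k)) := Ega3B.ProjProper.isProper_toSpec n k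
  have hN : IsNoetherian (CohB1.ProjSpace n k) := Localalg.LichtAsm.isNoetherian (CohB1.ProjSpace n k ↘ Spec (CommRingCat.of k))
  have hNU : IsNoetherian (U : Scheme.{u}) := by
    have h1 : IsLocallyNoetherian (U : Scheme.{u}) := inferInstance
    have h2 : CompactSpace (U : Scheme.{u}) :=
      isCompact_iff_compactSpace.1 (NoetherianSpace.isCompact (U : Set (CohB1.ProjSpace n k)))
    exact ⟨⟩
  have hpow : ∀ a b : ℕ, a ≤ b → I ^ b ≤ I ^ a := fun a b hab V => Ideal.pow_le_pow_right hab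
  refine DelVan.subsingleton_HH U.ι I (fun T hT => ?_) _ (LoccohB.AdPn704.isCoh_twistProjSpace n k _) (n - 1) fun t φ => ?_
  · rw [supportSet_pow k n I T hT, Scheme.Opens.range_ι]
    exact hU.symm
  · obtain ⟨T, hT, hg⟩ := exists_bound I hconn hmeet (t + 1) t.succ_ne_zero
    refine ⟨T, by omega, hpow t T (by omega), ?_⟩
    obtain ⟨hR, h, hs, OY, hOY⟩ := K461.ProperForm.exists_data k (CohB1.ProjSpace n k)
    obtain ⟨τ, hτ⟩ := K461.ProperForm.exists_form_of_adj k (CohB1.ProjSpace n k) h _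
      (DCoh.shriekAdj (CohB1.ProjSpace n k ↘ Spec (CommRingCat.of k)) h) OY hOY (n : ℤ)
      (@Groth.Agent.S1824.result n k _ hR h _ (DCoh.shriekAdj (CohB1.ProjSpace n k ↘ Spec (CommRingCat.of k)) h) OY hOY)
    have h1 : Subsingleton (Coh.HH (CohB1.ProjSpace n k) (Coh.structureModule (CohB1.ProjSpace n k)) 1) :=
      Groth.Agent.S0023.result n k 1 one_pos
    have h2 : ∀ x, Ega3B.HLes.hmap (Dual.H367.IdMul.tr (hpow (t + 1) T hT)
        (Coh.structureModule (CohB1.ProjSpace n k))) 1 x = 0 := by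
      refine DelH1.hmap_tr_eq_zero (DD k n) (hD k n) (hDD k n) (hcov k n) h1 _ fun g hc => ?_
      obtain ⟨a, ha⟩ := hg g hc
      exact ⟨_, ha⟩
    have h3 := (hτ ((DCoh.inD _ ((Dual3.idealMul (I ^ T)).obj (Coh.structureModule (CohB1.ProjSpace n k))))⟦((1 : ℕ) : ℤ)⟧)
      (PerfA.QCohD.isQCohD_shift (PerfA.QCohD.isQCohD_inD _ (Dual.H367.IdMul.isQCoh_idealMul (I ^ T)
        (CurvesB.UnitCoh.isCoh_structureModule _).1)) _)).1
    have h4 := DelVan.comp_eq_zero k (n - 1) 1 n (by omega) τ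
      (Dual.H367.IdMul.tr (hpow (t + 1) T hT) (Coh.structureModule (CohB1.ProjSpace n k))) h3 h2
      ((DerivedCategory.singleFunctor _ 0).map (Dual.H367.IdMul.tr (hpow t (t + 1) (by omega))
        (Coh.structureModule (CohB1.ProjSpace n k))) ≫ φ)
    rw [← Dual.H367.IdMul.tr_comp (hpow (t + 1) T hT) (hpow t (t + 1) (by omega)), Functor.map_comp, Category.assoc]
    exact h4

end K685.DelTop
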