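import Groth.Agent.CohDim.K685.DelD
import Groth.Agent.PerfA.QCohD
import Groth.Agent.PerfA.CohZero
import Groth.Agent.PerfB.DualMod
import Groth.Agent.LoccohB.DQCohBasic
import Groth.Agent.Sga67.CohBasic
import Groth.Agent.CurvesB.UnitCoh
import Groth.Agent.Dcoh.LocalD

/-!
# Vanishing of `H^m(U, W)` from Deligne's formula, and the maps which duality kills
-/

set_option autoImplicit false

universe u

open CategoryTheory CategoryTheory.Limits AlgebraicGeometry TopologicalSpace Opposite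

attribute [local instance] HasDerivedCategory.standard

noncomputable section

namespace K685.DelVan

open Groth.Agent Groth.Agent.CurvesC Groth.Agent.CurvesC.RepX K685.DelD
open Groth.Agent.PerfA.Restrict Scheme.Modules

section A

variable {U X : Scheme.{u}} [IsNoetherian X] (j : U ⟶ X) [IsOpenImmersion j] (I : X.IdealSheafData)

theorem hom_eq_zero [IsNoetherian U] (hI : ∀ T : ℕ, T ≠ 0 → (I ^ T).supportSetᶜ = Set.range j) (W : X.Modules) (hW : Coh.IsCoh W) (m : ℤ)
    (h : ∀ (t : ℕ) (φ : DCoh.inD X ((Dual3.idealMul (I ^ t)).obj (Coh.structureModule X)) ⟶ (DCoh.inD X W)⟦m⟧),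
      ∃ T : ℕ, T ≠ 0 ∧ ∃ hT : I ^ T ≤ I ^ t, (DerivedCategory.singleFunctor X.Modules 0).map
        (Dual.H367.IdMul.tr hT (Coh.structureModule X)) ≫ φ = 0)
    (α : (restrictD j).obj (DCoh.toD X (F0 (Coh.structureModule X))) ⟶ (restrictD j).obj ((DCoh.inD X W)⟦m⟧)) :
    α = 0 := by
  have hI1 : I.supportSetᶜ = Set.range j := by
    have := hI 1 one_ne_zero
    rwa [pow_one] at this
  have hO := CurvesB.UnitCoh.isCoh_structureModule X
  have hvan : DCoh.VanishesOutside (F0 (Coh.structureModule X)) 0 0 := fun i hi =>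
    HomologicalComplex.isZero_single_obj_X _ _ _ _ (by omega)
  have hcoh : ∀ q : ℤ, Coh.IsCoh ((F0 (Coh.structureModule X)).X q) := by
    intro q
    by_cases hq : q = 0
    · subst hq
      exact Sga67.CohBasic.isCoh_of_iso (HomologicalComplex.singleObjXSelf (ComplexShape.up ℤ) 0 _).symm hO
    · exact PerfA.CohZero.isCoh_of_isZero (HomologicalComplex.isZero_single_obj_X _ _ _ _ hq)
  have hL : DCoh.IsCohD ((DCoh.inD X W)⟦m⟧) := PerfA.QCohD.isCohD_shift (PerfA.QCohD.isCohD_inD W hW) m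
  have hK : ∀ i : ℤ, i < -m → IsZero (DCoh.HD ((DCoh.inD X W)⟦m⟧) i) := fun i hi =>
    (PerfB.DualMod.isZero_HD_inD W (m + i) (by omega)).of_iso
      (LoccohB.DQCohBasic.homologyShiftIso (DCoh.inD X W) m i (m + i) rfl)
  obtain ⟨h1, -⟩ := Groth.Agent.S3664.result U X j I hI1 (F0 (Coh.structureModule X)) 0 0 hvan hcoh _ hL (-m) hK
  obtain ⟨t, φ, hφ⟩ := h1 α
  obtain ⟨T, hT0, hT, hz⟩ := h t ((dDel I (Coh.structureModule X) t).inv ≫ φ)
  have h2 : DerivedCategory.Q.map (trDel I (Coh.structureModule X) hT) ≫ φ = 0 := by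
    have h3 := dDel_tr I (Coh.structureModule X) hT
    have h4 : DerivedCategory.Q.map (trDel I (Coh.structureModule X) hT) =
        (dDel I (Coh.structureModule X) T).hom ≫ (DerivedCategory.singleFunctor X.Modules 0).map
          (Dual.H367.IdMul.tr hT (Coh.structureModule X)) ≫ (dDel I (Coh.structureModule X) t).inv := by
      rw [← Category.assoc, ← h3, Category.assoc, Iso.hom_inv_id, Category.comp_id]
    rw [h4, Category.assoc, Category.assoc, hz, comp_zero]
  have h5 : (restrictD j).map (DerivedCategory.Q.map (Dual3.deligneι I T (F0 (Coh.structureModule X)))) ≫ α = 0 := by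
    rw [← trDel_ι I (Coh.structureModule X) hT, Functor.map_comp, Functor.map_comp, Category.assoc, hφ,
      ← Functor.map_comp, h2, Functor.map_zero]
  have h6 := isIso_restrictD_ι I (Coh.structureModule X) j hI T hT0
  exact (cancel_epi ((restrictD j).map (DerivedCategory.Q.map (Dual3.deligneι I T (F0 (Coh.structureModule X)))))).1
    (h5.trans comp_zero.symm)

theorem gen3 {C : Type*} [Category* C] {A A' B B' : C} (a : A ≅ A') (b : B ≅ B') (s : A' ⟶ B') :
    s = a.inv ≫ (a.hom ≫ s ≫ b.inv) ≫ b.hom := by simp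

theorem subsingleton_HH [IsNoetherian U] (hI : ∀ T : ℕ, T ≠ 0 → (I ^ T).supportSetᶜ = Set.range j) (W : X.Modules)
    (hW : Coh.IsCoh W) (m : ℕ)
    (h : ∀ (t : ℕ) (φ : DCoh.inD X ((Dual3.idealMul (I ^ t)).obj (Coh.structureModule X)) ⟶ (DCoh.inD X W)⟦(m : ℤ)⟧),
      ∃ T : ℕ, T ≠ 0 ∧ ∃ hT : I ^ T ≤ I ^ t, (DerivedCategory.singleFunctor X.Modules 0).map
        (Dual.H367.IdMul.tr hT (Coh.structureModule X)) ≫ φ = 0) :
    Subsingleton (Coh.HH U (W.restrict j) m) := by
  let eA : (restrictD j).obj (DCoh.toD X (F0 (Coh.structureModule X))) ≅ DCoh.inD U (Coh.structureModule U) :=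
    (restrictD j).mapIso ((DerivedCategory.singleFunctorIsoCompQ X.Modules 0).app (Coh.structureModule X)).symm ≪≫
      PerfA.PerfLocal.restrictInD j (Coh.structureModule X) ≪≫
      (DerivedCategory.singleFunctor U.Modules 0).mapIso (Dcoh.LocalD.structureRestrict j)
  let eB : (restrictD j).obj ((DCoh.inD X W)⟦(m : ℤ)⟧) ≅ (DCoh.inD U (W.restrict j))⟦(m : ℤ)⟧ :=
    PerfA.PerfLocal.restrictDShift j (DCoh.inD X W) m ≪≫ (shiftFunctor (DCoh.D U) (m : ℤ)).mapIso
      (PerfA.PerfLocal.restrictInD j W)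
  have h1 : ∀ s : DCoh.inD U (Coh.structureModule U) ⟶ (DCoh.inD U (W.restrict j))⟦(m : ℤ)⟧, s = 0 := by
    intro s
    have h2 := hom_eq_zero j I hI W hW m h (eA.hom ≫ s ≫ eB.inv)
    have h3 : s = eA.inv ≫ (eA.hom ≫ s ≫ eB.inv) ≫ eB.hom := gen3 eA eB s
    rw [h3, h2, zero_comp, comp_zero]
  refine subsingleton_of_forall_eq 0 fun x => ?_
  have h4 := h1 ((HomHV.homHV (W.restrict j) m).symm x)
  have h5 : (HomHV.homHV (W.restrict j) m) ((HomHV.homHV (W.restrict j) m).symm x) = x :=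
    AddEquiv.apply_symm_apply _ x
  rw [← h5, h4, map_zero]
  rfl

end A

section B

open Groth.Agent.CurvesC.DualLin

variable (k : Type u) [Field k] {X : Scheme.{u}} [X.Over (Spec (CommRingCat.of k))]

attribute [local instance] LinMod.linearModules

theorem comp_eq_zero {W : X.Modules} (m p n : ℕ) (hmp : m + p = n)
    (τ : (P X ⟶ (DCoh.inD X W)⟦(n : ℤ)⟧) →ₗ[k] k) {A B : X.Modules} (u : A ⟶ B)
    (hτ : Function.Injective (pairing k X τ ((DCoh.inD X A)⟦(p : ℤ)⟧)))
    (hu : ∀ x : Coh.HH X A p, Ega3B.HLes.hmap u p x = 0) (φ : DCoh.inD X B ⟶ (DCoh.inD X W)⟦(m : ℤ)⟧) :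
    (DerivedCategory.singleFunctor X.Modules 0).map u ≫ φ = 0 := by
  have hs : ∀ s : P X ⟶ (DCoh.inD X A)⟦(p : ℤ)⟧,
      s ≫ ((DerivedCategory.singleFunctor X.Modules 0).map u)⟦(p : ℤ)⟧' = 0 := by
    intro s
    apply (homHVₗ k X B p).injective
    rw [homHVₗ_map, map_zero]
    exact hu _
  let e : ((DCoh.inD X W)⟦(m : ℤ)⟧)⟦(p : ℤ)⟧ ≅ (DCoh.inD X W)⟦(n : ℤ)⟧ :=
    ((shiftFunctorAdd' (DCoh.D X) (m : ℤ) (p : ℤ) (n : ℤ) (by omega)).app _).symm
  have h1 : ((DerivedCategory.singleFunctor X.Modules 0).map u ≫ φ)⟦(p : ℤ)⟧' ≫ e.hom = 0 := by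
    apply hτ
    rw [map_zero]
    ext s
    rw [pairing_apply, Functor.map_comp, Category.assoc, reassoc_of% hs s, zero_comp, map_zero, LinearMap.zero_apply]
  have h2 : ((DerivedCategory.singleFunctor X.Modules 0).map u ≫ φ)⟦(p : ℤ)⟧' = 0 := by
    rw [← cancel_mono e.hom, h1, zero_comp]
  exact (shiftFunctor (DCoh.D X) (p : ℤ)).map_injective (h2.trans (Functor.map_zero _ _ _).symm)

end B

end K685.DelVan
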