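import Groth.Agent.CohDim.K685.Licht
import Groth.Agent.Localalg.TopNonvanSupp
import Groth.Agent.Fga.Compare
import Groth.Agent.Fga.HShift
import Groth.Agent.Fga.DimCut
import Groth.Agent.Ega3B.HLes
import Groth.Prelude.Def_Formal
import Mathlib.AlgebraicGeometry.ZariskisMainTheorem

/-!
# Divisibility of the next-to-top cohomology of quasi-affine varieties
-/

set_option autoImplicit false
universe u
open CategoryTheory CategoryTheory.Limits AlgebraicGeometry TopologicalSpace

namespace K685.Divis

open Groth.Agent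

variable {k : Type u} [Field k] {Q : Scheme.{u}} (f : Q ⟶ Spec (CommRingCat.of k))

/-- `Q` has no irreducible closed subscheme of dimension `e` proper over `k`. -/
def NoProper (e : ℕ) : Prop :=
  ∀ (Z : Scheme.{u}) (i : Z ⟶ Q) [IsClosedImmersion i] [IrreducibleSpace Z],
    topologicalKrullDim Z = e → ¬ IsProper (i ≫ f)

theorem licht_le [IsSeparated f] [LocallyOfFiniteType f] [QuasiCompact f] (e : ℕ)
    (hd : topologicalKrullDim Q ≤ e) (h : NoProper f e) (M : Q.Modules) (hM : Coh.IsCoh M) :
    Subsingleton (Coh.HH Q M e) := by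
  have hN : IsNoetherian Q := Localalg.LichtAsm.isNoetherian f
  by_cases hne : Nonempty Q
  · rcases hd.lt_or_eq with hlt | heq
    · exact Localalg.LichtAsm.subsingleton_of_dim_lt hlt M
    · exact (S0357.result k Q f e heq).mpr (fun Z i _ _ hZ => h Z i hZ) M hM
  · rw [not_nonempty_iff] at hne
    refine Fga.HShift.subsingleton_of_isZero (CohqB.DevSupport.isZero_of_support_eq_empty ?_) e
    exact Set.eq_empty_of_isEmpty _

/-- Vanishing for a coherent module with small support. -/
theorem licht_support [IsSeparated f] [LocallyOfFiniteType f] [QuasiCompact f] (e : ℕ)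
    (h : NoProper f e) (R : Q.Modules) (hR : Coh.IsCoh R)
    (hd : topologicalKrullDim (CohB1.support R) ≤ e) : Subsingleton (Coh.HH Q R e) := by
  have hN : IsNoetherian Q := Localalg.LichtAsm.isNoetherian f
  let J := Groth.Agent.Ega1.AnnIdeal.annIdeal R hR.1 hR.2
  have hJ : ClSub.KilledByIdeal J R :=
    fun U a ha m => (Groth.Agent.Ega1.AnnIdeal.mem_annIdeal R hR.1 hR.2 U a).mp ha m
  have hJs : (J.support : Set Q) = CohB1.support R :=
    Groth.Agent.Ega1.AnnIdeal.support_annIdeal R hR.1 hR.2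
  let i := J.subschemeι
  have hk : ClSub.KilledByIdeal i.ker R := by
    rw [Scheme.IdealSheafData.ker_subschemeι]; exact hJ
  let N := (Scheme.Modules.pullback i).obj R
  have hN' : Coh.IsCoh N := Groth.Agent.FormalA.PullbackQC.isCoh_pullback i R hR
  have e1 : (Scheme.Modules.pushforward i).obj N ≅ R := Groth.Agent.FormalA.ClosedImm.pushPullIso i hk
  have hdim : topologicalKrullDim J.subscheme ≤ e := by
    have h1 : topologicalKrullDim J.subscheme = topologicalKrullDim (Set.range i) := by
      exact IsHomeomorph.topologicalKrullDim_eq _ i.isClosedEmbedding.isEmbedding.toHomeomorph.isHomeomorph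
    rw [h1, Scheme.IdealSheafData.range_subschemeι, hJs]
    exact hd
  let _ : Q.Over (Spec (CommRingCat.of k)) := ⟨f⟩
  let _ : J.subscheme.Over (Spec (CommRingCat.of k)) := ⟨i ≫ f⟩
  obtain ⟨e2⟩ := Groth.Agent.VarietyB.HHPush.exists_linearEquiv i k rfl N hN'.1 e
  have h1 : Subsingleton (Coh.HH J.subscheme N e) :=
    licht_le (i ≫ f) e hdim (fun Z j _ _ hZ hp => h Z (j ≫ i) hZ (by rwa [Category.assoc])) N hN'
  have h2 : Subsingleton (Coh.HH Q ((Coh.push i).obj N) e) := e2.toEquiv.subsingleton
  exact Fga.HShift.subsingleton_of_iso e1 e h2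

theorem not_mem_support_cokernel_smul (F : Q.Modules) (a : Γ(Q, ⊤)) (x : Q)
    (hx : x ∈ Q.basicOpen a) : x ∉ CohB1.support (cokernel (Formal.smulModΓ F a)) := by
  refine Fga.Compare.not_mem_support_cokernel (Q.basicOpen a) _ (fun V hV n => ?_) x hx
  have hu : IsUnit ((Q.presheaf.map (homOfLE (le_top : V ≤ ⊤)).op).hom a) := by
    have h1 : IsUnit ((Q.presheaf.map (homOfLE (Q.basicOpen_le a)).op).hom a) :=
      RingedSpace.isUnit_res_basicOpen Q.toRingedSpace a
    have h2 := h1.map (Q.presheaf.map (homOfLE hV).op).hom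
    have h3 : (Q.presheaf.map (homOfLE hV).op).hom ((Q.presheaf.map (homOfLE (Q.basicOpen_le a)).op).hom a) =
        (Q.presheaf.map (homOfLE (le_top : V ≤ ⊤)).op).hom a := by
      rw [← CommRingCat.comp_apply, ← Functor.map_comp]
      rfl
    rwa [h3] at h2
  obtain ⟨b, hb⟩ := hu.exists_right_inv
  refine ⟨b • n, ?_⟩
  change ((Q.presheaf.map (homOfLE (le_top : V ≤ ⊤)).op).hom a) • (b • n) = n
  rw [← mul_smul, hb, one_smul]

/-- The support of `F / a F` is small. -/
theorem dim_support_cokernel_smul [IsIntegral Q] (e : ℕ)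
    (hd : topologicalKrullDim Q ≤ ((e + 1 : ℕ) : WithBot ℕ∞)) (F : Q.Modules) (a : Γ(Q, ⊤)) (ha : a ≠ 0) :
    topologicalKrullDim (CohB1.support (cokernel (Formal.smulModΓ F a))) ≤ e := by
  let D : Set Q := (Q.basicOpen a : Set Q)ᶜ
  have hD : IsClosed D := (Q.basicOpen a).2.isClosed_compl
  have h1 : CohB1.support (cokernel (Formal.smulModΓ F a)) ⊆ D := fun x hx hxa =>
    not_mem_support_cokernel_smul F a x hxa hx
  have h2 : topologicalKrullDim D ≤ e := by
    refine Fga.DimCut.dim_le_of_forall_not_subset D hD (fun Z hZ hZD => ?_) e hd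
    have h3 : Z = Set.univ := by
      have := irreducibleComponents_eq_singleton (X := Q)
      rw [this] at hZ
      exact hZ
    have h4 : Q.basicOpen a ≠ ⊥ := fun h => ha ((AlgebraicGeometry.basicOpen_eq_bot_iff a).mp h)
    apply h4
    refine Opens.ext (Set.eq_empty_of_forall_notMem fun x hx => ?_)
    have : x ∈ D := hZD (h3 ▸ Set.mem_univ x)
    exact this hx
  refine le_trans ?_ h2
  exact Topology.IsInducing.topologicalKrullDim_le (f := Set.inclusion h1)
    (Topology.IsEmbedding.inclusion h1).isInducing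

open Ega3B.HLes in
/-- Multiplication by a nonzero function is surjective on `H^e` of a variety of dimension at most `e + 1` without
proper closed subvarieties of dimension `e` and `e + 1`. -/
theorem surjective_smul [IsIntegral Q] [IsSeparated f] [LocallyOfFiniteType f] [QuasiCompact f] (e : ℕ)
    (hd : topologicalKrullDim Q ≤ ((e + 1 : ℕ) : WithBot ℕ∞)) (h0 : NoProper f e) (h1 : NoProper f (e + 1))
    (F : Q.Modules) (hF : Coh.IsCoh F) (a : Γ(Q, ⊤)) (ha : a ≠ 0) :
    Function.Surjective (fun x : Coh.HH Q F e => (show Coh.Γtop Q from a) • x) := by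
  have hN : IsNoetherian Q := Localalg.LichtAsm.isNoetherian f
  let μ : F ⟶ F := Formal.smulModΓ F a
  have hker : Coh.IsCoh (kernel μ) := PerfA.CohSerre.isCoh_kernel μ hF hF.1
  have hcok : Coh.IsCoh (cokernel μ) := PerfA.CohSerre.isCoh_cokernel μ hF.1 hF
  have e1 : Subsingleton (Coh.HH Q (kernel μ) (e + 1)) := licht_le f (e + 1) hd h1 _ hker
  have e2 : Subsingleton (Coh.HH Q (cokernel μ) e) :=
    licht_support f e h0 _ hcok (dim_support_cokernel_smul e hd F a ha)
  let T₁ : ShortComplex Q.Modules := ShortComplex.mk (kernel.ι μ) (Abelian.factorThruImage μ)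
    (by rw [← cancel_mono (Abelian.image.ι μ)]; simp)
  let T₂ : ShortComplex Q.Modules := ShortComplex.mk (Abelian.image.ι μ) (cokernel.π μ) (by simp)
  have hT₁ : T₁.ShortExact := by
    let φ : T₁ ⟶ ShortComplex.mk (kernel.ι μ) μ (kernel.condition μ) :=
      { τ₁ := 𝟙 _, τ₂ := 𝟙 _, τ₃ := Abelian.image.ι μ
        comm₁₂ := (Category.id_comp _).trans (Category.comp_id _).symm
        comm₂₃ := (Category.id_comp _).trans (Abelian.image.fac μ).symm }
    have i1 : Epi φ.τ₁ := by dsimp [φ]; infer_instance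
    have i2 : IsIso φ.τ₂ := by dsimp [φ]; infer_instance
    have i3 : Mono φ.τ₃ := by dsimp [φ]; infer_instance
    exact { exact := (ShortComplex.exact_iff_of_epi_of_isIso_of_mono φ).mpr (ShortComplex.exact_kernel μ)
            mono_f := by dsimp [T₁]; infer_instance
            epi_g := by dsimp [T₁]; infer_instance }
  have hT₂ : T₂.ShortExact := by
    let φ : ShortComplex.mk μ (cokernel.π μ) (cokernel.condition μ) ⟶ T₂ :=
      { τ₁ := Abelian.factorThruImage μ, τ₂ := 𝟙 _, τ₃ := 𝟙 _
        comm₁₂ := (Abelian.image.fac μ).trans (Category.comp_id _).symm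
        comm₂₃ := (Category.id_comp _).trans (Category.comp_id _).symm }
    have i1 : Epi φ.τ₁ := by dsimp [φ]; infer_instance
    have i2 : IsIso φ.τ₂ := by dsimp [φ]; infer_instance
    have i3 : Mono φ.τ₃ := by dsimp [φ]; infer_instance
    exact { exact := (ShortComplex.exact_iff_of_epi_of_isIso_of_mono φ).mp (ShortComplex.exact_cokernel μ)
            mono_f := by dsimp [T₂]; infer_instance
            epi_g := by dsimp [T₂]; infer_instance }
  intro y
  obtain ⟨z, hz⟩ := (ab_exact₂ (shortExact_abShort hT₂) e y).mp (e2.elim _ _)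
  obtain ⟨w, hw⟩ := (ab_exact₃ (shortExact_abShort hT₁) e z).mp (e1.elim _ _)
  refine ⟨w, ?_⟩
  rw [← hz, ← hw]
  change Sheaf.H.map (Coh.smulAb F a) e w = Sheaf.H.map (toAbMap (Abelian.image.ι μ)) e
    (Sheaf.H.map (toAbMap (Abelian.factorThruImage μ)) e w)
  rw [← Sheaf.H.map_comp_apply, ← toAbMap_comp, Abelian.image.fac]
  rfl

/-- If moreover `Γ(Q, O)` contains an infinite-dimensional `k`-subspace... finite-dimensional `H^e` vanishes. -/
theorem subsingleton_of_finite [IsIntegral Q] [Q.Over (Spec (CommRingCat.of k))]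
    [IsSeparated (Q ↘ Spec (CommRingCat.of k))] [LocallyOfFiniteType (Q ↘ Spec (CommRingCat.of k))]
    [QuasiCompact (Q ↘ Spec (CommRingCat.of k))] (e : ℕ)
    (hd : topologicalKrullDim Q ≤ ((e + 1 : ℕ) : WithBot ℕ∞))
    (h0 : NoProper (Q ↘ Spec (CommRingCat.of k)) e) (h1 : NoProper (Q ↘ Spec (CommRingCat.of k)) (e + 1))
    (F : Q.Modules) (hF : Coh.IsCoh F)
    (A : Type u) [CommRing A] [Algebra k A] (hA : ¬ Module.Finite k A) (φ : A →+* Coh.Γtop Q)
    (hφ : Function.Injective φ)
    (hφk : ∀ c : k, φ (algebraMap k A c) = Coh.toGlobal (Q ↘ Spec (CommRingCat.of k)) c)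
    (hfin : Module.Finite k (Coh.HH Q F e)) : Subsingleton (Coh.HH Q F e) := by
  have hcomm : ∀ (a : A) (c : k) (x : Coh.HH Q F e), φ a • (c • x) = c • (φ a • x) := by
    intro a c x
    change φ a • (Coh.toGlobal (Q ↘ Spec (CommRingCat.of k)) c • x) =
      Coh.toGlobal (Q ↘ Spec (CommRingCat.of k)) c • (φ a • x)
    rw [← mul_smul, ← mul_smul]
    congr 1
    exact @mul_comm Γ(Q, ⊤) _ (φ a) _
  let ρ : A →ₗ[k] Module.End k (Coh.HH Q F e) :=
    { toFun := fun a =>
        { toFun := fun x => φ a • x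
          map_add' := fun x y => smul_add _ _ _
          map_smul' := fun c x => hcomm a c x }
      map_add' := fun a b => by
        ext x
        change φ (a + b) • x = φ a • x + φ b • x
        rw [map_add, add_smul]
      map_smul' := fun c a => by
        ext x
        change φ (c • a) • x = c • (φ a • x)
        rw [Algebra.smul_def, map_mul, hφk, mul_smul]
        rfl }
  have h2 : ¬ Function.Injective ρ := fun h => hA (Module.Finite.of_injective ρ h)
  rw [← LinearMap.ker_eq_bot] at h2
  obtain ⟨a, ha, ha0⟩ := (Submodule.ne_bot_iff _).mp h2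
  have h3 : φ a ≠ 0 := fun h => ha0 (hφ (h.trans (map_zero φ).symm))
  refine subsingleton_of_forall_eq 0 fun y => ?_
  obtain ⟨x, rfl⟩ := surjective_smul (Q ↘ Spec (CommRingCat.of k)) e hd h0 h1 F hF (φ a) h3 y
  exact LinearMap.congr_fun ha x

/-- Open subschemes of affine schemes have no proper closed subvarieties of positive dimension. -/
theorem noProper_of_affine {V : Scheme.{u}} [IsAffine V] (j : Q ⟶ V) [IsOpenImmersion j]
    (g : V ⟶ Spec (CommRingCat.of k)) (hg : j ≫ g = f) (e : ℕ) (he : 0 < e) : NoProper f e := by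
  intro Z i _ _ hZ hp
  rw [← hg, ← Category.assoc] at hp
  have h1 : IsProper (i ≫ j) := IsProper.of_comp (i ≫ j) g
  have h2 : IsClosedImmersion (i ≫ j) := (IsClosedImmersion.iff_isProper_and_mono _).mpr ⟨h1, inferInstance⟩
  have h3 : IsAffine Z := isAffine_of_isAffineHom (i ≫ j)
  have h4 := Fga.DimCut.dim_le_zero_of_proper_affine Z ((i ≫ j) ≫ g)
  rw [hZ] at h4
  have h5 : e ≤ 0 := by exact_mod_cast h4
  lia

end K685.Divis
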