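import Mathlib.CategoryTheory.Monoidal.Rigid.Basic
import Mathlib.CategoryTheory.Monoidal.Preadditive
import Mathlib.Algebra.Homology.ShortComplex.ShortExact
import Mathlib.CategoryTheory.Abelian.Exact

/-!
# Duals of short exact sequences in an abelian monoidal category
-/

set_option autoImplicit false
universe v u
open CategoryTheory CategoryTheory.Limits MonoidalCategory

namespace K685.DualSes

variable {C : Type u} [Category.{v} C] [Abelian C] [MonoidalCategory C] [MonoidalPreadditive C]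

/-- `Hom(N, Aᘁ) → Hom(N ⊗ A, 𝟙)`. -/
def beta (A : C) [HasRightDual A] {N : C} (h : N ⟶ Aᘁ) : N ⊗ A ⟶ 𝟙_ C := h ▷ A ≫ ε_ A (Aᘁ)

theorem beta_injective (A : C) [HasRightDual A] {N : C} {h h' : N ⟶ Aᘁ} (e : beta A h = beta A h') : h = h' := by
  have h1 := congrArg (tensorRightHomEquiv N A (Aᘁ) (𝟙_ C)) e
  rw [beta, beta, tensorRightHomEquiv_whiskerRight_comp_evaluation,
    tensorRightHomEquiv_whiskerRight_comp_evaluation] at h1
  exact (cancel_mono _).mp h1

theorem beta_surjective (A : C) [HasRightDual A] {N : C} (t : N ⊗ A ⟶ 𝟙_ C) : ∃ h : N ⟶ Aᘁ, beta A h = t := by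
  refine ⟨tensorRightHomEquiv N A (Aᘁ) (𝟙_ C) t ≫ (λ_ _).hom, ?_⟩
  apply (tensorRightHomEquiv N A (Aᘁ) (𝟙_ C)).injective
  rw [beta, tensorRightHomEquiv_whiskerRight_comp_evaluation, Category.assoc, Iso.hom_inv_id, Category.comp_id]

theorem beta_mate {A B : C} [HasRightDual A] [HasRightDual B] (f : A ⟶ B) {N : C} (h : N ⟶ Bᘁ) :
    beta A (h ≫ fᘁ) = N ◁ f ≫ beta B h := by
  rw [beta, beta, comp_whiskerRight, Category.assoc, rightAdjointMate_comp_evaluation,
    whisker_exchange_assoc]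

theorem beta_zero (A : C) [HasRightDual A] {N : C} : beta A (0 : N ⟶ Aᘁ) = 0 := by
  rw [beta, MonoidalPreadditive.zero_whiskerRight, zero_comp]

/-- `Hom(Aᘁ, N) → Hom(𝟙, A ⊗ N)`. -/
def gam (A : C) [HasRightDual A] {N : C} (z : Aᘁ ⟶ N) : 𝟙_ C ⟶ A ⊗ N := η_ A (Aᘁ) ≫ A ◁ z

theorem gam_injective (A : C) [HasRightDual A] {N : C} {z z' : Aᘁ ⟶ N} (e : gam A z = gam A z') : z = z' := by
  have h1 := congrArg (tensorLeftHomEquiv (𝟙_ C) A (Aᘁ) N).symm e
  rw [gam, gam, tensorLeftHomEquiv_symm_coevaluation_comp_whiskerLeft,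
    tensorLeftHomEquiv_symm_coevaluation_comp_whiskerLeft] at h1
  exact (cancel_epi _).mp h1

theorem gam_mate {A B : C} [HasRightDual A] [HasRightDual B] (f : A ⟶ B) {N : C} (z : Aᘁ ⟶ N) :
    gam A z ≫ f ▷ N = gam B (fᘁ ≫ z) := by
  rw [gam, gam, Category.assoc, whisker_exchange, MonoidalCategory.whiskerLeft_comp,
    ← Category.assoc, ← Category.assoc, coevaluation_comp_rightAdjointMate]

variable (S : ShortComplex C) (hS : S.ShortExact) [HasRightDual S.X₁] [HasRightDual S.X₂] [HasRightDual S.X₃]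

theorem mate_comp_mate : (S.gᘁ) ≫ (S.fᘁ) = 0 := by
  apply beta_injective
  rw [beta_zero, beta_mate]
  have h1 : beta S.X₂ (S.gᘁ) = (S.X₃ᘁ) ◁ S.g ≫ beta S.X₃ (𝟙 _) := by
    rw [← beta_mate, Category.id_comp]
  rw [h1, ← Category.assoc, ← MonoidalCategory.whiskerLeft_comp, S.zero,
    MonoidalPreadditive.whiskerLeft_zero, zero_comp]

/-- The dual of a short exact sequence which stays exact after tensoring. -/
theorem shortExact_mate
    (hepi : ∀ N : C, Epi (N ◁ S.g))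
    (hexact : ∀ (N : C) (t : N ⊗ S.X₂ ⟶ 𝟙_ C), N ◁ S.f ≫ t = 0 → ∃ t', N ◁ S.g ≫ t' = t)
    (hmono : ∀ N : C, Mono (S.f ▷ N)) :
    (ShortComplex.mk (S.gᘁ) (S.fᘁ) (mate_comp_mate S)).ShortExact := by
  have hm : Mono (S.gᘁ) := by
    refine Preadditive.mono_of_cancel_zero _ fun {N} h hh => ?_
    apply beta_injective
    have h1 : N ◁ S.g ≫ beta S.X₃ h = 0 := by rw [← beta_mate, hh, beta_zero]
    have := hepi N
    rw [beta_zero]
    exact (cancel_epi (N ◁ S.g)).mp (h1.trans comp_zero.symm)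
  have he : Epi (S.fᘁ) := by
    refine Preadditive.epi_of_cancel_zero _ fun {N} z hz => ?_
    apply gam_injective
    have h1 : gam S.X₁ z ≫ S.f ▷ N = gam S.X₁ (0 : S.X₁ᘁ ⟶ N) ≫ S.f ▷ N := by
      rw [gam_mate, gam_mate, hz, comp_zero]
    have := hmono N
    exact (cancel_mono (S.f ▷ N)).mp h1
  refine { exact := ?_, mono_f := hm, epi_g := he }
  refine ShortComplex.exact_of_f_is_kernel _ (KernelFork.IsLimit.ofι' _ _ fun {N} h hh => ?_)
  have h1 : N ◁ S.f ≫ beta S.X₂ h = 0 := by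
    rw [← beta_mate]
    exact (congrArg _ hh).trans (beta_zero _)
  have h2 := hexact N _ h1
  choose t' ht' using h2
  have h3 := beta_surjective S.X₃ t'
  choose h' hh' using h3
  refine ⟨h', ?_⟩
  apply beta_injective
  rw [beta_mate, hh', ht']

end K685.DualSes
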