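import Groth.Prelude.Def_Coh
import Groth.Prelude.Def_PerfAux
import Groth.Agent.S0010
import Groth.Agent.S1109
import Groth.Agent.PerfA.CohSerre
import Groth.Agent.Fga.HShift
import Mathlib.AlgebraicGeometry.Morphisms.Separated

/-!
# Dimension shifting by finite locally free modules on a regular separated scheme
-/

set_option autoImplicit false
universe u
open CategoryTheory CategoryTheory.Limits AlgebraicGeometry TopologicalSpace

namespace K685.Resol

open Groth.Agent

theorem affine_inf {S : Scheme.{u}} {T : Scheme.{u}} (f : S ⟶ T) [IsAffine T] [IsSeparated f]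
    {U V : S.Opens} (hU : IsAffineOpen U) (hV : IsAffineOpen V) : IsAffineOpen (U ⊓ V) := by
  have : S.IsSeparated := ⟨by
      have h : terminal.from S = f ≫ terminal.from T := terminal.hom_ext _ _
      rw [h]; infer_instance⟩
  exact hU.inf hV

/-- A quasi-compact scheme with affine intersections has finite cohomological dimension for quasi-coherent
modules. -/
theorem exists_bound (X : Scheme.{u}) [CompactSpace X]
    (hd : ∀ V W : X.Opens, IsAffineOpen V → IsAffineOpen W → IsAffineOpen (V ⊓ W)) :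
    ∃ t : ℕ, ∀ M : X.Modules, Coh.IsQCoh M → ∀ n : ℕ, t ≤ n → Subsingleton (Coh.HH X M n) := by
  classical
  obtain ⟨s, hs, hcov⟩ := (isCompact_iff_finite_and_eq_biUnion_affineOpens (U := (⊤ : X.Opens))).mp
    (by simpa using isCompact_univ (X := X))
  have := hs.fintype
  let e := Fintype.equivFin s
  refine ⟨Fintype.card s, fun M hM n hn => ?_⟩
  have : Coh.IsQCoh M := hM
  refine S0010.result X (Fintype.card s) (fun i => ((e.symm i : s) : X.affineOpens).1)
    (fun i => ((e.symm i : s) : X.affineOpens).2) ?_ hd M n hn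
  rw [hcov]
  rw [e.symm.iSup_comp (g := fun i : s => ((i : s) : X.affineOpens).1)]
  rw [iSup_subtype]
 
/-- Descending induction with finite locally free resolutions. -/
theorem descend {S : Scheme.{u}} [IsLocallyNoetherian S] (hR : PerfAux.HasResolutionProperty S)
    (P : S.Modules → ℕ → Prop) (r t : ℕ)
    (h0 : ∀ E : S.Modules, FlatMod.IsFinLocFree E → ∀ i : ℕ, r < i → P E i)
    (h1 : ∀ M : S.Modules, Coh.IsCoh M → ∀ i : ℕ, t ≤ i → P M i)
    (h2 : ∀ T : ShortComplex S.Modules, T.ShortExact → ∀ i : ℕ, P T.X₂ i → P T.X₁ (i + 1) → P T.X₃ i)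
    (F : S.Modules) (hF : Coh.IsCoh F) (i : ℕ) (hi : r < i) : P F i := by
  suffices H : ∀ (n : ℕ) (F : S.Modules) (_ : Coh.IsCoh F) (i : ℕ) (_ : r < i) (_ : t ≤ i + n), P F i from
    H t F hF i hi (by lia)
  intro n
  induction n with
  | zero => exact fun F hF i _ ht => h1 F hF i (by lia)
  | succ n ih =>
    intro F hF i hi ht
    obtain ⟨E, π, hE, hπ⟩ := hR F hF.1 hF.2
    have hEc : Coh.IsCoh E := PerfA.CohSerre.isCoh_of_isFinLocFree hE
    have hK : Coh.IsCoh (kernel π) := PerfA.CohSerre.isCoh_kernel π hEc hF.1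
    exact h2 (ShortComplex.mk (kernel.ι π) π (kernel.condition π))
      { exact := ShortComplex.exact_of_f_is_kernel _ (kernelIsKernel π)
        mono_f := inferInstance
        epi_g := hπ } i (h0 E hE i hi) (ih _ hK (i + 1) (by lia) (by lia))

/-- Descending induction with a class of objects covering all coherent modules. -/
theorem descend' {S : Scheme.{u}} [IsLocallyNoetherian S] (Q : S.Modules → Prop)
    (hQ : ∀ F : S.Modules, Coh.IsCoh F → ∃ (E : S.Modules) (π : E ⟶ F), Q E ∧ Coh.IsCoh E ∧ Epi π)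
    (P : S.Modules → ℕ → Prop) (r t : ℕ)
    (h0 : ∀ E : S.Modules, Q E → ∀ i : ℕ, r < i → P E i)
    (h1 : ∀ M : S.Modules, Coh.IsCoh M → ∀ i : ℕ, t ≤ i → P M i)
    (h2 : ∀ T : ShortComplex S.Modules, T.ShortExact → ∀ i : ℕ, P T.X₂ i → P T.X₁ (i + 1) → P T.X₃ i)
    (F : S.Modules) (hF : Coh.IsCoh F) (i : ℕ) (hi : r < i) : P F i := by
  suffices H : ∀ (n : ℕ) (F : S.Modules) (_ : Coh.IsCoh F) (i : ℕ) (_ : r < i) (_ : t ≤ i + n), P F i from
    H t F hF i hi (by lia)
  intro n
  induction n with
  | zero => exact fun F hF i _ ht => h1 F hF i (by lia)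
  | succ n ih =>
    intro F hF i hi ht
    obtain ⟨E, π, hE, hEc, hπ⟩ := hQ F hF
    have hK : Coh.IsCoh (kernel π) := PerfA.CohSerre.isCoh_kernel π hEc hF.1
    exact h2 (ShortComplex.mk (kernel.ι π) π (kernel.condition π))
      { exact := ShortComplex.exact_of_f_is_kernel _ (kernelIsKernel π)
        mono_f := inferInstance
        epi_g := hπ } i (h0 E hE i hi) (ih _ hK (i + 1) (by lia) (by lia))

end K685.Resol
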