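import Groth.Agent.CohDim.K685.DualEmb
import Groth.Agent.CohDim.K685.MVLin
import Groth.Agent.CohDim.K685.Isol
import Groth.Agent.CohDim.K685.Resol
import Groth.Agent.Sga2lef.H503.RegNil
import Groth.Agent.Ega4late.H544.Dim
import Groth.Agent.S6020
import Groth.Agent.S1109
import Groth.Agent.S0002

/-!
# Finiteness of the low-degree cohomology of locally free modules on open subschemes of regular proper varieties
-/

set_option autoImplicit false
universe u
open CategoryTheory CategoryTheory.Limits AlgebraicGeometry TopologicalSpace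

namespace K685.FinOpen

open Groth.Agent

variable {k : Type u} [Field k]

/-- Codimension of a point of a closed subset of small dimension in a regular variety. -/
theorem le_ringKrullDim_stalk (X : Scheme.{u}) [X.Over (Spec (CommRingCat.of k))]
    [LocallyOfFiniteType (X ↘ (Spec (CommRingCat.of k)))] [IrreducibleSpace X]
    (hreg : ∀ x : X, IsRegularLocalRing (X.presheaf.stalk x))
    (n : ℕ) (hdim : topologicalKrullDim X = n) (Y : Set X) (hYc : IsClosed Y) (s : ℕ)
    (hY : topologicalKrullDim Y ≤ (s : WithBot ℕ∞)) (x : X) (hx : x ∈ Y) :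
    ((n - s : ℕ) : WithBot ℕ∞) ≤ ringKrullDim (X.presheaf.stalk x) := by
  have hJ : JacobsonSpace X := LocallyOfFiniteType.jacobsonSpace (X ↘ Spec (CommRingCat.of k))
  obtain ⟨P, hxP, hP⟩ := nonempty_inter_closedPoints (Z := closure {x})
    ⟨x, subset_closure rfl⟩ isClosed_closure.isLocallyClosed
  have hPc : IsClosed ({P} : Set X) := hP
  have hsp : x ⤳ P := specializes_iff_mem_closure.mpr hxP
  let g := X.fromSpecStalk P
  obtain ⟨p, hp⟩ : x ∈ Set.range g := by
    rw [Scheme.range_fromSpecStalk]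
    exact hsp
  have h1 : ringKrullDim (X.presheaf.stalk P ⧸ (show PrimeSpectrum (X.presheaf.stalk P) from p).asIdeal) ≤ s := by
    refine (Isol.ringKrullDim_quot_le P Y _ fun q hq => ?_).trans hY
    have h2 : (show PrimeSpectrum (X.presheaf.stalk P) from p) ⤳ q :=
      (PrimeSpectrum.le_iff_specializes _ _).mp hq
    have h3 : x ⤳ g q := hp ▸ h2.map g.continuous
    exact h3.mem_closed hYc hx
  have := hreg P
  have h2 := Ega4late.H544.Dim.height_add_dim_of_regular (X.presheaf.stalk P)
    (show PrimeSpectrum (X.presheaf.stalk P) from p).asIdeal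
  rw [Fga.DimCut.ringKrullDim_stalk_eq k X P hPc, hdim] at h2
  have h3 : (Order.coheight p : WithBot ℕ∞) ≤ Order.coheight x := by
    have hmono : StrictMono g := by
      intro a b hab
      rw [lt_iff_le_not_ge] at hab ⊢
      exact ⟨Specializes.map (show b ⤳ a from hab.1) g.continuous,
        fun h => hab.2 (g.isEmbedding.isInducing.specializes_iff.mp h)⟩
    have h4 := Order.coheight_le_coheight_apply_of_strictMono g hmono p
    rw [hp] at h4
    exact WithBot.coe_le_coe.mpr h4
  rw [ringKrullDim_stalk_eq_coheight]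
  refine le_trans ?_ h3
  have h5 := idealHeight_eq_coheight _ p
  rw [← h5]
  refine SopCut.le_of_le_add ?_
  rw [← h2]
  gcongr


/-- Finiteness for restrictions of modules with vanishing local cohomology sheaves. -/
theorem finite_restrict (X : Scheme.{u}) [X.Over (Spec (CommRingCat.of k))]
    [IsProper (X ↘ (Spec (CommRingCat.of k)))] (U : X.Opens) (c : ℕ) (L : X.Modules) (hL : Coh.IsCoh L)
    (hz : ∀ i : ℕ, i ≤ c → IsZero ((LocCohZ.HZsh (X := X.carrier) U i).obj (Coh.toAb L))) (i : ℕ) (hi : i < c) :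
    Module.Finite k (Coh.HH (U : Scheme.{u}) (L.restrict U.ι) i) := by
  have h1 := ((S6020.result (X := X.carrier) (Coh.toAb L) U c).mp hz ⊤).1 i hi
  have hT : IsProper (((⊤ : X.Opens) : Scheme.{u}) ↘ Spec (CommRingCat.of k)) := by
    have : IsIso (⊤ : X.Opens).ι := (Scheme.topIso X).isIso_hom
    change IsProper ((⊤ : X.Opens).ι ≫ (X ↘ Spec (CommRingCat.of k)))
    infer_instance
  have h2 : Module.Finite k (Coh.HHon X L ⊤ i) :=
    S0002.result k ((⊤ : X.Opens) : Scheme.{u}) (L.restrict (⊤ : X.Opens).ι)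
      (PerfA.CohSerre.isCoh_restrict _ hL) i
  have h3 : Module.Finite k (Coh.HHon X L (⊤ ⊓ U) i) := by
    refine Module.Finite.of_surjective (MVLin.resL k L i (inf_le_left : ⊤ ⊓ U ≤ ⊤)) ?_
    intro y
    obtain ⟨z, hz⟩ := h1.2 ((CohqA.HOpen.HHonEquiv L (⊤ ⊓ U) i).symm y)
    refine ⟨CohqA.HOpen.HHonEquiv L ⊤ i z, ?_⟩
    apply (CohqA.HOpen.HHonEquiv L (⊤ ⊓ U) i).symm.injective
    rw [← hz]
    change (CohqA.HOpen.HHonEquiv L (⊤ ⊓ U) i).symm (CohqA.HOpen.HHonEquiv L (⊤ ⊓ U) i _) = _
    rw [AddEquiv.symm_apply_apply, AddEquiv.symm_apply_apply]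
    rfl
  have h4 : (⊤ ⊓ U : X.Opens) = U := top_inf_eq U
  rw [h4] at h3
  exact h3

/-- The main finiteness statement. -/
theorem finite_locFree
    (H : ∀ (X : Scheme.{u}) [IsLocallyNoetherian X] (U : X.Opens)
      (M : X.Modules) (_ : Coh.IsCoh M) (n : ℕ),
      (∀ x : X, x ∉ (U : Set X) → (n : ℕ∞) ≤ LocCoh.depth (X.presheaf.stalk x) (M.presheaf.stalk x)) →
      (∀ i : ℕ, i < n → IsZero ((LocCohZ.HZsh (X := X.carrier) U i).obj (Coh.toAb M))))
    (X : Scheme.{u}) [X.Over (Spec (CommRingCat.of k))] [IsProper (X ↘ (Spec (CommRingCat.of k)))] [IsIntegral X]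
    (hreg : ∀ x : X, IsRegularLocalRing (X.presheaf.stalk x))
    (n : ℕ) (hdim : topologicalKrullDim X = n) (U : X.Opens) (s : ℕ)
    (hY : topologicalKrullDim ((U : Set X)ᶜ : Set X) ≤ (s : WithBot ℕ∞))
    (F : (U : Scheme.{u}).Modules) (hF : FlatMod.IsFinLocFree F) (i : ℕ) (hi : i + s + 1 < n) :
    Module.Finite k (Coh.HH (U : Scheme.{u}) F i) := by
  have hN : IsNoetherian X := Localalg.LichtAsm.isNoetherian (X ↘ Spec (CommRingCat.of k))
  have hR : PerfAux.HasResolutionProperty X := S1109.result X hreg fun V W hV hW =>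
    Resol.affine_inf (X ↘ Spec (CommRingCat.of k)) hV hW
  refine DualEmb.finite_of_restrict hR U.ι (n - s - 1) (fun L hL j hj => ?_) i F hF (by lia)
  have hLc : Coh.IsCoh L := PerfA.CohSerre.isCoh_of_isFinLocFree hL
  refine finite_restrict X U (n - s - 1) L hLc (fun m hm => ?_) j hj
  refine H X U L hLc (n - s) (fun x hx => ?_) m (by lia)
  have h1 := le_ringKrullDim_stalk (k := k) X hreg n hdim _ U.2.isClosed_compl s hY x hx
  have h2 : ringKrullDim (X.presheaf.stalk x) ≤ n := by
    rw [← PrimeSpectrum.topologicalKrullDim_eq_ringKrullDim, ← hdim]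
    exact (X.fromSpecStalk x).isEmbedding.isInducing.topologicalKrullDim_le
  rw [← PrimeSpectrum.topologicalKrullDim_eq_ringKrullDim] at h1 h2
  obtain ⟨N, hN, hle⟩ := Isol.exists_nat_dim n (n - s) h1 h2
  rw [PrimeSpectrum.topologicalKrullDim_eq_ringKrullDim] at hN
  have := hreg x
  exact le_trans (by exact_mod_cast hle) (Sga2lef.H503.RegNil.le_depth_flf hLc hL x hN)

end K685.FinOpen
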