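import Groth.Agent.CohDim.K685.HasseOp

/-!
# The operators `x_j^{|α|} D^{(α)}` on the structure sheaf of projective space
-/

set_option autoImplicit false

universe u v

open CategoryTheory CategoryTheory.Limits AlgebraicGeometry TopologicalSpace Opposite TopCat

noncomputable section

namespace K685.FunOp

open Groth.Agent Groth.Agent.FormalB.TwistFrac Groth.Agent.FormalB.GrTildeSect Groth.Agent.FormalB.GlueHom
open K685.Taylor K685.TwistOp K685.HasseOp

section General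

variable {R A : Type u} [CommRing R] [CommRing A] [Algebra R A] {𝒜 : ℕ → Submodule R A} [GradedAlgebra 𝒜]
variable {φ : ∀ x : ProjectiveSpectrum 𝒜, Twist.Loc 𝒜 x →+ Twist.Loc 𝒜 x}

theorem exists_frac (h : Pres φ 0 0) {V : (Proj 𝒜).Opens} (c : Γ(Proj 𝒜, V)) (x : V) :
    ∃ (W : (Proj 𝒜).Opens) (hW : W ≤ V) (_ : x.1 ∈ W) (i : ℕ) (a b : A) (_ : a ∈ 𝒜 i) (_ : b ∈ 𝒜 i),
      ∀ y : W, ∃ hb : b ∉ (show ProjectiveSpectrum 𝒜 from y.1).asHomogeneousIdeal,
        φ y.1 (oval c ⟨y.1, hW y.2⟩) = Localization.mk a ⟨b, hb⟩ := by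
  obtain ⟨W, hW, i, a, b, ha, hb, hWb, hxW, hc⟩ := exists_ofrac c x.1 x.2
  obtain ⟨j', s', c', hs', hc', H⟩ := h i b hb a (by rw [add_zero]; exact ha)
  rw [add_zero] at hc'
  refine ⟨W, hW, hxW, j', c', s', hc', hs', fun y => ?_⟩
  obtain ⟨hx', H'⟩ := H y.1 (hWb y.1 y.2)
  refine ⟨hx', Eq.trans ?_ H'⟩
  congr 1
  have := congrArg (fun z => oval z y) hc
  exact this

theorem exists_hl (h : Pres φ 0 0) {V : (Proj 𝒜).Opens} (c : Γ(Proj 𝒜, V)) (x : V) :
    ∃ q : Twist.A0 𝒜 x.1, q.val = φ x.1 (oval c x) := by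
  obtain ⟨W, hW, hxW, i, a, b, ha, hb, H⟩ := exists_frac h c x
  obtain ⟨hb', H'⟩ := H ⟨x.1, hxW⟩
  exact ⟨HomogeneousLocalization.mk ⟨i, ⟨a, ha⟩, ⟨b, hb⟩, hb'⟩, H'.symm⟩

/-- The operator on functions. -/
def opO (h : Pres φ 0 0) (V : (Proj 𝒜).Opens) (c : Γ(Proj 𝒜, V)) : Γ(Proj 𝒜, V) :=
  show (ProjectiveSpectrum.Proj.structureSheaf 𝒜).1.obj (op V) from
  ⟨fun x => (exists_hl h c x).choose, fun x => by
    obtain ⟨W, hW, hxW, i, a, b, ha, hb, H⟩ := exists_frac h c x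
    refine ⟨W, hxW, homOfLE hW, i, ⟨a, ha⟩, ⟨b, hb⟩, fun y => (H y).1, fun y => ?_⟩
    apply HomogeneousLocalization.val_injective
    exact ((exists_hl h c ⟨y.1, hW y.2⟩).choose_spec).trans (H y).2⟩

theorem oval_opO (h : Pres φ 0 0) {V : (Proj 𝒜).Opens} (c : Γ(Proj 𝒜, V)) (x : V) :
    oval (opO h V c) x = φ x.1 (oval c x) := (exists_hl h c x).choose_spec

theorem oval_add {V : (Proj 𝒜).Opens} (c d : Γ(Proj 𝒜, V)) (x : V) : oval (c + d) x = oval c x + oval d x :=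
  HomogeneousLocalization.val_add _ _

theorem oval_mul {V : (Proj 𝒜).Opens} (c d : Γ(Proj 𝒜, V)) (x : V) : oval (c * d) x = oval c x * oval d x :=
  HomogeneousLocalization.val_mul _ _

theorem oval_zero {V : (Proj 𝒜).Opens} (x : V) : oval (0 : Γ(Proj 𝒜, V)) x = 0 :=
  HomogeneousLocalization.val_zero

theorem oval_one {V : (Proj 𝒜).Opens} (x : V) : oval (1 : Γ(Proj 𝒜, V)) x = 1 :=
  HomogeneousLocalization.val_one

theorem oval_neg {V : (Proj 𝒜).Opens} (c : Γ(Proj 𝒜, V)) (x : V) : oval (-c) x = -oval c x :=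
  HomogeneousLocalization.val_neg _

theorem oval_sub {V : (Proj 𝒜).Opens} (c d : Γ(Proj 𝒜, V)) (x : V) : oval (c - d) x = oval c x - oval d x :=
  HomogeneousLocalization.val_sub _ _

theorem oval_sum {V : (Proj 𝒜).Opens} {ι : Type*} (s : Finset ι) (c : ι → Γ(Proj 𝒜, V)) (x : V) :
    oval (∑ i ∈ s, c i) x = ∑ i ∈ s, oval (c i) x := by
  classical
  induction s using Finset.induction_on with
  | empty => simpa using oval_zero x
  | insert i s hi ih => rw [Finset.sum_insert hi, Finset.sum_insert hi, oval_add, ih]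

theorem oval_res {V W : (Proj 𝒜).Opens} (hW : W ≤ V) (c : Γ(Proj 𝒜, V)) (x : W) :
    oval ((Proj 𝒜).presheaf.map (homOfLE hW).op c) x = oval c ⟨x.1, hW x.2⟩ := rfl

/-- The operator as an additive map. -/
def opOHom (h : Pres φ 0 0) (V : (Proj 𝒜).Opens) : Γ(Proj 𝒜, V) →+ Γ(Proj 𝒜, V) where
  toFun := opO h V
  map_zero' := oval_ext fun x => by rw [oval_opO, oval_zero, map_zero]
  map_add' c d := oval_ext fun x => by rw [oval_opO, oval_add, oval_add, map_add, oval_opO, oval_opO]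

theorem opOHom_res (h : Pres φ 0 0) {V W : (Proj 𝒜).Opens} (hW : W ≤ V) (c : Γ(Proj 𝒜, V)) :
    (Proj 𝒜).presheaf.map (homOfLE hW).op (opOHom h V c) = opOHom h W ((Proj 𝒜).presheaf.map (homOfLE hW).op c) :=
  oval_ext fun x =>
    (oval_opO h c ⟨x.1, hW x.2⟩).trans (oval_opO h ((Proj 𝒜).presheaf.map (homOfLE hW).op c) x).symm

end General

/-! ### The order filtration -/

section Filtration

variable {B : Type v} [CommRing B] {σ : Type*} [DecidableEq σ]

theorem mem_pow_of_leibniz (Δ : (σ →₀ ℕ) → B →+ B) (h0 : ∀ b, Δ 0 b = b)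
    (hL : ∀ α a b, Δ α (a * b) = ∑ p ∈ Finset.antidiagonal α, Δ p.1 a * Δ p.2 b) (I : Ideal B) (T : ℕ) :
    ∀ (α : σ →₀ ℕ) (b : B), b ∈ I ^ T → Δ α b ∈ I ^ (T - α.degree) := by
  induction T with
  | zero => intro α b _; rw [Nat.zero_sub, pow_zero, Ideal.one_eq_top]; exact Submodule.mem_top
  | succ T ih =>
    intro α b hb
    rw [pow_succ'] at hb
    refine Submodule.mul_induction_on hb (fun g hg h hh => ?_) fun x y hx hy => ?_
    · rw [hL]
      refine Ideal.sum_mem _ fun p hp => ?_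
      rw [Finset.mem_antidiagonal] at hp
      have hdeg : p.1.degree + p.2.degree = α.degree := by rw [← hp, map_add]
      by_cases h1 : p.1 = 0
      · rw [h1, h0]
        rw [h1, map_zero, zero_add] at hdeg
        refine Ideal.pow_le_pow_right (show T + 1 - α.degree ≤ (T - α.degree) + 1 by omega) ?_
        rw [pow_succ', ← hdeg]
        exact Ideal.mul_mem_mul hg (ih p.2 h hh)
      · have h2 : p.1.degree ≠ 0 := fun h => h1 ((Finsupp.degree_eq_zero_iff _).1 h)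
        refine Ideal.mul_mem_left _ _ (Ideal.pow_le_pow_right ?_ (ih p.2 h hh))
        omega
    · rw [map_add]
      exact Ideal.add_mem _ hx hy

end Filtration

section Hasse

variable {k : Type u} [CommRing k] {n : ℕ}

/-- `x_j^{|α|} D^{(α)}` at a point. -/
def eφ (j : Fin (n + 1)) (α : Fin (n + 1) →₀ ℕ) (x : ProjectiveSpectrum (CohB1.polyGrading n k)) :
    Twist.Loc (CohB1.polyGrading n k) x →+ Twist.Loc (CohB1.polyGrading n k) x :=
  (mφ (MvPolynomial.X j ^ α.degree) x).comp (dφ α x)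

theorem eφ_apply (j : Fin (n + 1)) (α : Fin (n + 1) →₀ ℕ) (x : ProjectiveSpectrum (CohB1.polyGrading n k))
    (u : Twist.Loc (CohB1.polyGrading n k) x) : eφ j α x u =
      algebraMap (MvPolynomial (Fin (n + 1)) k) (Localization (Mx x)) (MvPolynomial.X j) ^ α.degree *
        D (Mx x) α u := by
  change algebraMap (MvPolynomial (Fin (n + 1)) k) (Localization (Mx x)) (MvPolynomial.X j ^ α.degree) * _ = _
  rw [map_pow]
  rfl

theorem Pres.comp {R A : Type u} [CommRing R] [CommRing A] [Algebra R A] {𝒜 : ℕ → Submodule R A} [GradedAlgebra 𝒜]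
    {φ φ' : ∀ x : ProjectiveSpectrum 𝒜, Twist.Loc 𝒜 x →+ Twist.Loc 𝒜 x} {a b c : ℤ} (h : Pres φ a b)
    (h' : Pres φ' b c) : Pres (fun x => (φ' x).comp (φ x)) a c := by
  intro j s hs f hf
  obtain ⟨j', s', c', hs', hc', H⟩ := h j s hs f hf
  obtain ⟨j'', s'', c'', hs'', hc'', H'⟩ := h' j' s' hs' c' hc'
  refine ⟨j'', s'', c'', hs'', hc'', fun x hx => ?_⟩
  obtain ⟨hx', e⟩ := H x hx
  obtain ⟨hx'', e'⟩ := H' x hx'
  exact ⟨hx'', by rw [AddMonoidHom.comp_apply, e, e']⟩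

theorem pres_eφ (j : Fin (n + 1)) (α : Fin (n + 1) →₀ ℕ) : Pres (eφ (k := k) j α) 0 0 := by
  refine Pres.comp (pres_dφ α (b := -(α.degree : ℤ)) (by ring)) (pres_mφ (d := α.degree) ?_ (by ring))
  have := (HZ.X (k := k) j).pow α.degree
  rw [mul_one] at this
  exact hz_iff.1 this

/-- The operator `x_j^{|α|} D^{(α)}` on functions. -/
def Δ (j : Fin (n + 1)) (V : (CohB1.ProjSpace n k).Opens) (α : Fin (n + 1) →₀ ℕ) :
    Γ(CohB1.ProjSpace n k, V) →+ Γ(CohB1.ProjSpace n k, V) := opOHom (pres_eφ j α) V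

theorem oval_Δ (j : Fin (n + 1)) {V : (CohB1.ProjSpace n k).Opens} (α : Fin (n + 1) →₀ ℕ)
    (c : Γ(CohB1.ProjSpace n k, V)) (x : V) : oval (𝒜 := CohB1.polyGrading n k) (Δ j V α c) x =
      algebraMap (MvPolynomial (Fin (n + 1)) k) (Localization (Mx x.1)) (MvPolynomial.X j) ^ α.degree *
        D (Mx x.1) α (oval (𝒜 := CohB1.polyGrading n k) c x) :=
  (oval_opO (pres_eφ j α) c x).trans (eφ_apply j α x.1 _)

theorem Δ_zero (j : Fin (n + 1)) (V : (CohB1.ProjSpace n k).Opens) (c : Γ(CohB1.ProjSpace n k, V)) :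
    Δ j V 0 c = c := by
  refine oval_ext (𝒜 := CohB1.polyGrading n k) fun x => (oval_Δ j 0 c x).trans ?_
  rw [map_zero, pow_zero, one_mul]
  exact D_zero _ _

theorem Δ_mul (j : Fin (n + 1)) (V : (CohB1.ProjSpace n k).Opens) (α : Fin (n + 1) →₀ ℕ)
    (c d : Γ(CohB1.ProjSpace n k, V)) :
    Δ j V α (c * d) = ∑ p ∈ Finset.antidiagonal α, Δ j V p.1 c * Δ j V p.2 d := by
  refine oval_ext (𝒜 := CohB1.polyGrading n k) fun x => (oval_Δ j α (c * d) x).trans ?_
  refine Eq.trans ?_ (oval_sum (𝒜 := CohB1.polyGrading n k) _ _ x).symm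
  have key : ∀ u w : Localization (Mx x.1),
      algebraMap (MvPolynomial (Fin (n + 1)) k) (Localization (Mx x.1)) (MvPolynomial.X j) ^ α.degree *
        D (Mx x.1) α (u * w) = ∑ p ∈ Finset.antidiagonal α,
          (algebraMap (MvPolynomial (Fin (n + 1)) k) (Localization (Mx x.1)) (MvPolynomial.X j) ^ p.1.degree *
            D (Mx x.1) p.1 u) *
          (algebraMap (MvPolynomial (Fin (n + 1)) k) (Localization (Mx x.1)) (MvPolynomial.X j) ^ p.2.degree *
            D (Mx x.1) p.2 w) := by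
    intro u w
    rw [D_mul, Finset.mul_sum]
    refine Finset.sum_congr rfl fun p hp => ?_
    rw [Finset.mem_antidiagonal] at hp
    rw [← hp, map_add, pow_add]
    ring
  refine Eq.trans (congrArg (fun u : Localization (Mx x.1) =>
    algebraMap (MvPolynomial (Fin (n + 1)) k) (Localization (Mx x.1)) (MvPolynomial.X j) ^ α.degree *
      D (Mx x.1) α u) (oval_mul (𝒜 := CohB1.polyGrading n k) c d x)) ?_
  refine (key _ _).trans (Finset.sum_congr rfl fun p _ => ?_)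
  refine Eq.trans (congrArg₂ (· * ·) (oval_Δ j p.1 c x).symm (oval_Δ j p.2 d x).symm) ?_
  exact (oval_mul (𝒜 := CohB1.polyGrading n k) (Δ j V p.1 c) (Δ j V p.2 d) x).symm

theorem Δ_mem_pow (j : Fin (n + 1)) (V : (CohB1.ProjSpace n k).Opens) (I : Ideal Γ(CohB1.ProjSpace n k, V)) (T : ℕ)
    (α : Fin (n + 1) →₀ ℕ) (b : Γ(CohB1.ProjSpace n k, V)) (hb : b ∈ I ^ T) :
    Δ j V α b ∈ I ^ (T - α.degree) :=
  mem_pow_of_leibniz (fun α => Δ j V α) (Δ_zero j V) (fun α a b => Δ_mul j V α a b) I T α b hb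

theorem Δ_res (j : Fin (n + 1)) {V W : (CohB1.ProjSpace n k).Opens} (hW : W ≤ V) (α : Fin (n + 1) →₀ ℕ)
    (c : Γ(CohB1.ProjSpace n k, V)) :
    (CohB1.ProjSpace n k).presheaf.map (homOfLE hW).op (Δ j V α c) =
      Δ j W α ((CohB1.ProjSpace n k).presheaf.map (homOfLE hW).op c) := opOHom_res _ hW c

end Hasse

end K685.FunOp
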