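import Groth.Agent.CohDim.K685.FunOp
import Mathlib.RingTheory.LocalRing.MaximalIdeal.Basic

/-!
# Functions all of whose Hasse derivatives vanish at a rational point
-/

set_option autoImplicit false

universe u

open CategoryTheory CategoryTheory.Limits AlgebraicGeometry TopologicalSpace Opposite TopCat

noncomputable section

namespace K685.LocTay

open K685.Taylor K685.HasseOp

variable {k : Type u} [Field k] {n : ℕ}

/-- `x_j ↦ p_j x_i`. -/
def rho (i : Fin (n + 1)) (p : Fin (n + 1) → k) : MvPolynomial (Fin (n + 1)) k →+* MvPolynomial (Fin (n + 1)) k :=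
  MvPolynomial.eval₂Hom MvPolynomial.C (fun j => MvPolynomial.C (p j) * MvPolynomial.X i)

theorem rho_C (i : Fin (n + 1)) (p : Fin (n + 1) → k) (r : k) : rho i p (MvPolynomial.C r) = MvPolynomial.C r :=
  MvPolynomial.eval₂Hom_C _ _ _

theorem rho_X (i : Fin (n + 1)) (p : Fin (n + 1) → k) (j : Fin (n + 1)) :
    rho i p (MvPolynomial.X j) = MvPolynomial.C (p j) * MvPolynomial.X i :=
  MvPolynomial.eval₂Hom_X' _ _ _

/-- `ρ` of a homogeneous polynomial is a multiple of a power of `x_i`. -/
theorem exists_rho (i : Fin (n + 1)) (p : Fin (n + 1) → k) {f : MvPolynomial (Fin (n + 1)) k} {d : ℕ}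
    (hf : HZ f d) : ∃ c : k, rho i p f = MvPolynomial.C c * MvPolynomial.X i ^ d := by
  classical
  have key : ∀ (c : Fin (n + 1) →₀ ℕ) (r : k), ∃ c' : k, rho i p (MvPolynomial.monomial c r) =
      MvPolynomial.C c' * MvPolynomial.X i ^ c.degree := by
    intro c r
    refine ⟨r * ∏ j ∈ c.support, p j ^ c j, ?_⟩
    rw [MvPolynomial.monomial_eq, map_mul, rho_C, Finsupp.prod, map_prod, map_mul, mul_assoc]
    congr 1
    rw [map_prod, Finsupp.degree_apply, ← Finset.prod_pow_eq_pow_sum, ← Finset.prod_mul_distrib]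
    refine Finset.prod_congr rfl fun j _ => ?_
    rw [map_pow, rho_X, mul_pow, map_pow]
  have hs : ∀ (s : Finset (Fin (n + 1) →₀ ℕ)), s ⊆ f.support →
      ∃ c : k, rho i p (∑ c ∈ s, MvPolynomial.monomial c (MvPolynomial.coeff c f)) =
        MvPolynomial.C c * MvPolynomial.X i ^ d := by
    intro s
    induction s using Finset.induction_on with
    | empty => intro _; exact ⟨0, by simp⟩
    | insert c s hc ih =>
      intro h
      obtain ⟨c1, h1⟩ := ih fun i hi => h (Finset.mem_insert_of_mem hi)
      obtain ⟨c2, h2⟩ := key c (MvPolynomial.coeff c f)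
      have h3 := hf c (MvPolynomial.mem_support_iff.1 (h (Finset.mem_insert_self _ _)))
      refine ⟨c2 + c1, ?_⟩
      rw [Finset.sum_insert hc, map_add, h1, h2, show c.degree = d by exact_mod_cast h3, map_add, add_mul]
  obtain ⟨c, hc⟩ := hs f.support subset_rfl
  exact ⟨c, by rw [← hc, ← f.as_sum]⟩

/-- The Taylor formula at the line `ρ`. -/
theorem taylor (i : Fin (n + 1)) (p : Fin (n + 1) → k) (a : MvPolynomial (Fin (n + 1)) k) :
    a = ∑ α ∈ (ptay a).support, rho i p (dp α a) *
      ∏ j, (MvPolynomial.X j - MvPolynomial.C (p j) * MvPolynomial.X i) ^ α j := by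
  have h : (MvPolynomial.eval₂Hom (rho i p)
      (fun j => MvPolynomial.X j - MvPolynomial.C (p j) * MvPolynomial.X i)).comp ptay =
      RingHom.id (MvPolynomial (Fin (n + 1)) k) := by
    refine MvPolynomial.ringHom_ext (fun r => ?_) (fun j => ?_)
    · rw [RingHom.comp_apply, ptay_C, MvPolynomial.eval₂Hom_C, rho_C]; rfl
    · rw [RingHom.comp_apply, ptay_X, map_add, MvPolynomial.eval₂Hom_C, MvPolynomial.eval₂Hom_X', rho_X]
      simp
  conv_lhs => rw [← RingHom.id_apply a, ← h]
  rw [RingHom.comp_apply, MvPolynomial.coe_eval₂Hom, MvPolynomial.eval₂_eq']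
  rfl

variable (x : ProjectiveSpectrum (CohB1.polyGrading n k))

theorem rho_mem (i : Fin (n + 1)) (p : Fin (n + 1) → k)
    (hp : ∀ j, MvPolynomial.X j - MvPolynomial.C (p j) * MvPolynomial.X i ∈ x.asHomogeneousIdeal.toIdeal)
    (f : MvPolynomial (Fin (n + 1)) k) (hf : f ∈ x.asHomogeneousIdeal.toIdeal) :
    rho i p f ∈ x.asHomogeneousIdeal.toIdeal := by
  have h : (Ideal.Quotient.mk x.asHomogeneousIdeal.toIdeal).comp (rho i p) =
      Ideal.Quotient.mk x.asHomogeneousIdeal.toIdeal := by
    refine MvPolynomial.ringHom_ext (fun r => ?_) (fun j => ?_)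
    · rw [RingHom.comp_apply, rho_C]
    · rw [RingHom.comp_apply, rho_X]
      refine (Ideal.Quotient.eq.2 ?_)
      rw [← neg_sub]
      exact neg_mem (hp j)
  rw [← Ideal.Quotient.eq_zero_iff_mem] at hf ⊢
  rw [← hf]
  exact RingHom.congr_fun h f

theorem mem_of_algebraMap {f : MvPolynomial (Fin (n + 1)) k}
    (h : algebraMap (MvPolynomial (Fin (n + 1)) k) (Localization (Mx x)) f ∈
      IsLocalRing.maximalIdeal (Localization.AtPrime x.asHomogeneousIdeal.toIdeal)) :
    f ∈ x.asHomogeneousIdeal.toIdeal := by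
  by_contra hf
  exact h (IsLocalization.map_units (M := Mx x) (Localization (Mx x)) ⟨f, hf⟩)

/-- If all Hasse derivatives of order `< T` of a function `q` vanish at the rational point `x`, then `q ∈ 𝔪^T`. -/
theorem mem_pow (i : Fin (n + 1)) (hi : MvPolynomial.X i ∉ x.asHomogeneousIdeal.toIdeal) (p : Fin (n + 1) → k)
    (hp : ∀ j, MvPolynomial.X j - MvPolynomial.C (p j) * MvPolynomial.X i ∈ x.asHomogeneousIdeal.toIdeal)
    (T : ℕ) (q : Twist.A0 (CohB1.polyGrading n k) x)
    (hq : ∀ α : Fin (n + 1) →₀ ℕ, α.degree < T →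
      D (Mx x) α q.val ∈ IsLocalRing.maximalIdeal (Localization.AtPrime x.asHomogeneousIdeal.toIdeal)) :
    q ∈ IsLocalRing.maximalIdeal (Twist.A0 (CohB1.polyGrading n k) x) ^ T := by
  classical
  obtain ⟨⟨e, ⟨a, ha⟩, ⟨s, hs⟩, hsx⟩, rfl⟩ := HomogeneousLocalization.mk_surjective q
  have hsx' : s ∈ Mx x := hsx
  have hval : (HomogeneousLocalization.mk (x := Mx x) ⟨e, ⟨a, ha⟩, ⟨s, hs⟩, hsx⟩).val =
    Localization.mk a ⟨s, hsx'⟩ := HomogeneousLocalization.val_mk _
  rw [hval] at hq
  -- the numerator
  have h1 : ∀ α : Fin (n + 1) →₀ ℕ, α.degree < T → dp α a ∈ x.asHomogeneousIdeal.toIdeal := by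
    intro α hα
    apply mem_of_algebraMap
    rw [← D_algebraMap]
    have e1 : algebraMap (MvPolynomial (Fin (n + 1)) k) (Localization (Mx x)) a =
        algebraMap _ _ s * Localization.mk a ⟨s, hsx'⟩ := by
      rw [← Localization.mk_one_eq_algebraMap, ← Localization.mk_one_eq_algebraMap, Localization.mk_mul, one_mul,
        Localization.mk_eq_mk_iff, Localization.r_iff_exists]
      exact ⟨1, by simp⟩
    rw [e1, D_mul]
    refine Ideal.sum_mem _ fun p hp => Ideal.mul_mem_left _ _ (hq p.2 ?_)
    rw [Finset.mem_antidiagonal] at hp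
    have : p.1.degree + p.2.degree = α.degree := by rw [← hp, map_add]
    omega
  have ha' : HZ a (e : ℤ) := hz_iff.2 ha
  -- vanishing of the low Taylor coefficients
  have h2 : ∀ α : Fin (n + 1) →₀ ℕ, α.degree < T → rho i p (dp α a) = 0 := by
    intro α hα
    rcases lt_or_ge ((e : ℤ) - α.degree) 0 with h | h
    · rw [(hz_dp ha' α).eq_zero h, map_zero]
    · obtain ⟨d, hd⟩ := Int.eq_ofNat_of_zero_le h
      obtain ⟨c, hc⟩ := exists_rho i p (show HZ (dp α a) (d : ℤ) from hd ▸ hz_dp ha' α)
      have h3 := rho_mem x i p hp _ (h1 α hα)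
      rw [hc] at h3 ⊢
      by_cases h0 : c = 0
      · rw [h0, map_zero, zero_mul]
      · rcases x.isPrime.mem_or_mem h3 with h4 | h4
        · exact absurd (Ideal.eq_top_of_isUnit_mem _ h4 ((Ne.isUnit h0).map MvPolynomial.C)) x.isPrime.ne_top
        · exact absurd (x.isPrime.mem_of_pow_mem _ h4) hi
  -- the coordinates
  have hX : ∀ j, MvPolynomial.X j - MvPolynomial.C (p j) * MvPolynomial.X i ∈ CohB1.polyGrading n k 1 := by
    intro j
    rw [← hz_iff, Nat.cast_one]
    have := (HZ.C (σ := Fin (n + 1)) (p j)).mul (HZ.X (k := k) i)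
    rw [zero_add] at this
    exact (HZ.X j).sub this
  have hXi : MvPolynomial.X i ∈ CohB1.polyGrading n k 1 := by
    rw [← hz_iff, Nat.cast_one]; exact HZ.X i
  let z : Fin (n + 1) → Twist.A0 (CohB1.polyGrading n k) x := fun j =>
    HomogeneousLocalization.mk (x := Mx x) ⟨1, ⟨_, hX j⟩, ⟨_, hXi⟩, hi⟩
  have hz : ∀ j, z j ∈ IsLocalRing.maximalIdeal (Twist.A0 (CohB1.polyGrading n k) x) := by
    intro j hu
    rw [← HomogeneousLocalization.isUnit_iff_isUnit_val] at hu
    rw [HomogeneousLocalization.val_mk] at hu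
    rw [Localization.mk_eq_mk', IsLocalization.AtPrime.isUnit_mk'_iff (Localization.AtPrime x.asHomogeneousIdeal.toIdeal)
      x.asHomogeneousIdeal.toIdeal] at hu
    exact hu (hp j)
  have hterm : ∀ α : Fin (n + 1) →₀ ℕ, α ∈ (ptay a).support →
      ∃ w ∈ IsLocalRing.maximalIdeal (Twist.A0 (CohB1.polyGrading n k) x) ^ T,
      w.val = Localization.mk (rho i p (dp α a) *
        ∏ j, (MvPolynomial.X j - MvPolynomial.C (p j) * MvPolynomial.X i) ^ α j) ⟨s, hsx'⟩ := by
    intro α _
    rcases lt_or_ge α.degree T with hα | hα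
    · refine ⟨0, zero_mem _, ?_⟩
      rw [h2 α hα, zero_mul, Localization.mk_zero, HomogeneousLocalization.val_zero]
    · rcases lt_or_ge ((e : ℤ) - α.degree) 0 with h | h
      · refine ⟨0, zero_mem _, ?_⟩
        rw [(hz_dp ha' α).eq_zero h, map_zero, zero_mul, Localization.mk_zero, HomogeneousLocalization.val_zero]
      · obtain ⟨d, hd⟩ := Int.eq_ofNat_of_zero_le h
        obtain ⟨c, hc⟩ := exists_rho i p (show HZ (dp α a) (d : ℤ) from hd ▸ hz_dp ha' α)
        have hce : MvPolynomial.C c * MvPolynomial.X i ^ e ∈ CohB1.polyGrading n k e := by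
          rw [← hz_iff]
          have := (HZ.C (σ := Fin (n + 1)) c).mul ((HZ.X (k := k) i).pow e)
          rw [zero_add, mul_one] at this
          exact this
        refine ⟨HomogeneousLocalization.mk (x := Mx x) ⟨e, ⟨_, hce⟩, ⟨s, hs⟩, hsx⟩ * ∏ j, z j ^ α j, ?_, ?_⟩
        · refine Ideal.mul_mem_left _ _ (Ideal.pow_le_pow_right hα ?_)
          rw [Finsupp.degree_eq_sum, ← Finset.prod_pow_eq_pow_sum]
          exact Ideal.prod_mem_prod fun j _ => Ideal.pow_mem_pow (hz j) _
        · have hξ : ∀ j, algebraMap (MvPolynomial (Fin (n + 1)) k) (Localization (Mx x)) (MvPolynomial.X i) *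
              (z j).val = algebraMap (MvPolynomial (Fin (n + 1)) k) (Localization (Mx x))
                (MvPolynomial.X j - MvPolynomial.C (p j) * MvPolynomial.X i) := by
            intro j
            rw [HomogeneousLocalization.val_mk, ← Localization.mk_one_eq_algebraMap,
              ← Localization.mk_one_eq_algebraMap, Localization.mk_mul, Localization.mk_eq_mk_iff,
              Localization.r_iff_exists]
            exact ⟨1, by simp⟩
          have hu : IsUnit (algebraMap (MvPolynomial (Fin (n + 1)) k) (Localization (Mx x))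
              (MvPolynomial.X i) ^ α.degree) :=
            (IsLocalization.map_units (M := Mx x) (Localization (Mx x)) ⟨MvPolynomial.X i, hi⟩).pow _
          have hprod : (HomogeneousLocalization.val (∏ j, z j ^ α j)) = ∏ j, (z j).val ^ α j := by
            rw [← HomogeneousLocalization.algebraMap_apply, map_prod]
            exact Finset.prod_congr rfl fun j _ => by rw [map_pow, HomogeneousLocalization.algebraMap_apply]
          have hW : algebraMap (MvPolynomial (Fin (n + 1)) k) (Localization (Mx x)) (MvPolynomial.X i) ^ α.degree *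
              ∏ j, (z j).val ^ α j = algebraMap (MvPolynomial (Fin (n + 1)) k) (Localization (Mx x))
                (∏ j, (MvPolynomial.X j - MvPolynomial.C (p j) * MvPolynomial.X i) ^ α j) := by
            rw [Finsupp.degree_eq_sum, ← Finset.prod_pow_eq_pow_sum, ← Finset.prod_mul_distrib, map_prod]
            refine Finset.prod_congr rfl fun j _ => ?_
            rw [← mul_pow, hξ, map_pow]
          rw [HomogeneousLocalization.val_mul, HomogeneousLocalization.val_mk, hprod]
          refine hu.mul_left_cancel ?_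
          rw [mul_left_comm, hW, hc, ← map_pow, ← Localization.mk_one_eq_algebraMap,
            ← Localization.mk_one_eq_algebraMap, Localization.mk_mul, Localization.mk_mul]
          have hde : d + α.degree = e := by
            have : (d : ℤ) = (e : ℤ) - α.degree := hd.symm
            omega
          congr 1
          · change MvPolynomial.C c * MvPolynomial.X i ^ e * _ = _
            have hpe : (MvPolynomial.X i : MvPolynomial (Fin (n + 1)) k) ^ e =
                MvPolynomial.X i ^ d * MvPolynomial.X i ^ α.degree := by rw [← hde, pow_add]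
            rw [hpe]
            ring
          · rw [one_mul, mul_one]
  choose! w hw hw' using hterm
  have hfin : HomogeneousLocalization.mk (x := Mx x) ⟨e, ⟨a, ha⟩, ⟨s, hs⟩, hsx⟩ = ∑ α ∈ (ptay a).support, w α := by
    apply HomogeneousLocalization.val_injective
    have h5 : (∑ α ∈ (ptay a).support, w α).val = ∑ α ∈ (ptay a).support, (w α).val := by
      rw [← HomogeneousLocalization.algebraMap_apply, map_sum]
      rfl
    rw [h5, Finset.sum_congr rfl hw', hval]
    have h6 : ∀ (S : Finset (Fin (n + 1) →₀ ℕ)) (f : (Fin (n + 1) →₀ ℕ) → MvPolynomial (Fin (n + 1)) k),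
        ∑ α ∈ S, (Localization.mk (f α) ⟨s, hsx'⟩ : Localization (Mx x)) = Localization.mk (∑ α ∈ S, f α) ⟨s, hsx'⟩ := by
      intro S f
      induction S using Finset.induction_on with
      | empty => simp [Localization.mk_zero]
      | insert b S hb ih => rw [Finset.sum_insert hb, Finset.sum_insert hb, ih, Localization.add_mk_self]
    rw [h6, ← taylor]
  rw [hfin]
  exact Ideal.sum_mem _ hw

end K685.LocTay
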