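import Mathlib

/-!
# Cutting a local ring transversally to a closed subset
-/

set_option autoImplicit false
universe u

namespace K685.SopCut

open IsLocalRing

theorem le_of_le_add {a : WithBot ℕ∞} {n z : ℕ} (h : (n : WithBot ℕ∞) ≤ a + (z : WithBot ℕ∞)) :
    ((n - z : ℕ) : WithBot ℕ∞) ≤ a := by
  induction a using WithBot.recBotCoe with
  | bot => simp at h
  | coe a =>
    have h1 : (n : ℕ∞) ≤ a + (z : ℕ∞) := by exact_mod_cast h
    have h2 : ((n - z : ℕ) : ℕ∞) ≤ a := by
      rw [ENat.coe_sub]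
      exact tsub_le_iff_right.mpr h1
    exact WithBot.coe_le_coe.mpr h2

theorem exists_prime_of_quotient (R : Type u) [CommRing R] (J : Ideal R) (d : ℕ) (hd : (d : WithBot ℕ∞) ≤ ringKrullDim (R ⧸ J)) :
    ∃ q : Ideal R, q.IsPrime ∧ J ≤ q ∧ (d : WithBot ℕ∞) ≤ ringKrullDim (R ⧸ q) := by
  obtain ⟨l, hl⟩ := Order.le_krullDim_iff.mp hd
  refine ⟨(l.head.comap (Ideal.Quotient.mk J)).asIdeal, (l.head.comap (Ideal.Quotient.mk J)).2, ?_, ?_⟩
  · intro x hx
    change Ideal.Quotient.mk J x ∈ l.head.asIdeal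
    rw [Ideal.Quotient.eq_zero_iff_mem.mpr hx]
    exact zero_mem _
  · rw [ringKrullDim_quotient]
    have h1 : StrictMono (PrimeSpectrum.comap (Ideal.Quotient.mk J)) := by
      intro a b hab
      refine lt_of_le_of_ne (fun x hx => hab.le hx) fun h => ?_
      exact hab.ne (PrimeSpectrum.comap_injective_of_surjective _ Ideal.Quotient.mk_surjective h)
    let l' : LTSeries (PrimeSpectrum.zeroLocus (R := R)
        ((l.head.comap (Ideal.Quotient.mk J)).asIdeal : Set R)) :=
      { length := l.length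
        toFun := fun i => ⟨(l i).comap (Ideal.Quotient.mk J),
          fun x hx => (l.head_le i : l.head.asIdeal ≤ (l i).asIdeal) hx⟩
        step := fun i => h1 (l.step i) }
    have h2 := Order.LTSeries.length_le_krullDim l'
    rw [← hl]
    exact h2

variable (R : Type u) [CommRing R] [IsLocalRing R] [IsNoetherianRing R]

/-- Cutting down transversally to `V(I)`. -/
theorem exists_cut (I : Ideal R) (hI : I ≠ ⊤) (z n : ℕ) (hz : ringKrullDim (R ⧸ I) ≤ z)
    (hn : (n : WithBot ℕ∞) ≤ ringKrullDim R) :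
    ∃ q : Ideal R, q.IsPrime ∧ ((n - z : ℕ) : WithBot ℕ∞) ≤ ringKrullDim (R ⧸ q) ∧
      ∀ r : Ideal R, r.IsPrime → q ≤ r → I ≤ r → r = maximalIdeal R := by
  classical
  have hnt : Nontrivial (R ⧸ I) := Ideal.Quotient.nontrivial_iff.mpr hI
  have hloc : IsLocalRing (R ⧸ I) := IsLocalRing.of_surjective' (Ideal.Quotient.mk I) Ideal.Quotient.mk_surjective
  obtain ⟨s, hs, hcard⟩ := Ideal.exists_finset_card_eq_height_of_isNoetherianRing (maximalIdeal (R ⧸ I))
  have hcz : s.card ≤ z := by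
    have h1 := IsLocalRing.maximalIdeal_height_eq_ringKrullDim (R := R ⧸ I)
    rw [← hcard] at h1
    rw [← h1] at hz
    exact_mod_cast hz
  let σ : R ⧸ I → R := Function.surjInv Ideal.Quotient.mk_surjective
  have hσ : ∀ x, Ideal.Quotient.mk I (σ x) = x := Function.surjInv_eq _
  let t : Finset R := s.image σ
  have htc : t.card ≤ z := Finset.card_image_le.trans hcz
  have htm : (t : Set R) ⊆ maximalIdeal R := by
    intro x hx
    obtain ⟨y, hy, rfl⟩ := Finset.mem_image.mp hx
    have h2 : y ∈ maximalIdeal (R ⧸ I) := hs.1.2 (Ideal.subset_span hy)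
    refine (mem_maximalIdeal _).mpr fun hu => (mem_maximalIdeal _).mp h2 ?_
    rw [← hσ y]
    exact hu.map _
  have h4 := ringKrullDim_le_ringKrullDim_quotient_add_card (R := R) t
    (by rw [IsLocalRing.ringJacobson_eq_maximalIdeal]; exact htm)
  obtain ⟨q, hq, hqt, hqd⟩ := exists_prime_of_quotient R (Ideal.span (t : Set R)) (n - z) (by
    have h5 : (n : WithBot ℕ∞) ≤ ringKrullDim (R ⧸ Ideal.span (t : Set R)) + (z : WithBot ℕ∞) :=
      (hn.trans h4).trans (by gcongr)
    exact le_of_le_add h5)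
  refine ⟨q, hq, hqd, fun r hr hqr hIr => ?_⟩
  have hIs : Ideal.span (s : Set (R ⧸ I)) ≤ r.map (Ideal.Quotient.mk I) := by
    rw [Ideal.span_le]
    intro y hy
    rw [← hσ y]
    exact Ideal.mem_map_of_mem _ (hqr (hqt (Ideal.subset_span (Finset.mem_image_of_mem σ hy))))
  have hrp : (r.map (Ideal.Quotient.mk I)).IsPrime :=
    Ideal.map_isPrime_of_surjective Ideal.Quotient.mk_surjective (by rwa [Ideal.mk_ker])
  have h6 : maximalIdeal (R ⧸ I) ≤ r.map (Ideal.Quotient.mk I) :=
    hs.2 ⟨hrp, hIs⟩ (IsLocalRing.le_maximalIdeal hrp.ne_top)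
  refine le_antisymm (IsLocalRing.le_maximalIdeal hr.ne_top) fun x hx => ?_
  have h7 : Ideal.Quotient.mk I x ∈ r.map (Ideal.Quotient.mk I) := by
    by_cases hu : IsUnit (Ideal.Quotient.mk I x)
    · exfalso
      obtain ⟨y, hy⟩ := hu.exists_right_inv
      obtain ⟨y, rfl⟩ := Ideal.Quotient.mk_surjective y
      rw [← map_mul, ← map_one (Ideal.Quotient.mk I), Ideal.Quotient.eq] at hy
      have h8 : x * y - 1 ∈ maximalIdeal R := IsLocalRing.le_maximalIdeal hI hy
      have h9 : (1 : R) ∈ maximalIdeal R := by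
        have := Ideal.sub_mem _ (Ideal.mul_mem_right y _ hx) h8
        rwa [sub_sub_cancel] at this
      exact (Ideal.ne_top_iff_one _).mp (IsLocalRing.maximalIdeal.isMaximal R).ne_top h9
    · exact h6 ((mem_maximalIdeal _).mpr hu)
  obtain ⟨w, hw, hwx⟩ := (Ideal.mem_map_iff_of_surjective _ Ideal.Quotient.mk_surjective).mp h7
  rw [Ideal.Quotient.eq] at hwx
  have := r.sub_mem hw (hIr hwx)
  rwa [sub_sub_cancel] at this

end K685.SopCut
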