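import Groth.Agent.CohDim.K685.LocTay
import Groth.Agent.Pic13.H965.GlobSurj
import Groth.Agent.Ega1.ReducedSub
import Groth.Agent.Ega3B.ProjTwist
import Groth.Agent.Fga.DimCut
import Groth.Agent.FormalB.ProjScalar
import Groth.Agent.Ega3B.ProjProper
import Mathlib.AlgebraicGeometry.AlgClosed.Basic

/-!
# Functions on the thickenings of a connected closed subset of projective space
-/

set_option autoImplicit false

universe u

open CategoryTheory CategoryTheory.Limits AlgebraicGeometry TopologicalSpace Opposite TopCat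

noncomputable section

namespace K685.Thick

open Groth.Agent
open Groth.Agent.Fdesc.LocGen (ores ores_glue ores_ext ores_ores)
open Groth.Agent.Pic13.H965.GlobSurj (κ app_κ)

section Gen

variable {X : Scheme.{u}} {ι : Type*} (D : ι → X.Opens) (hDD : ∀ i j, IsAffineOpen (D i ⊓ D j))

/-- The family `g` is a section of `O / I`. -/
def Compat (I : X.IdealSheafData) (g : ∀ i, Γ(X, D i)) : Prop :=
  ∀ i j, ores inf_le_left (g i) - ores inf_le_right (g j) ∈ I.ideal ⟨D i ⊓ D j, hDD i j⟩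

theorem app_ores {Z : Scheme.{u}} (f : Z ⟶ X) {V W : X.Opens} (h : W ≤ V) (g : Γ(X, V)) :
    f.app W (ores h g) = ores (show f ⁻¹ᵁ W ≤ f ⁻¹ᵁ V from fun _ hx => h hx) (f.app V g) := by
  have h1 := f.naturality (homOfLE h).op
  exact congr(($h1).hom g)

theorem app_eq_zero_iff (I : X.IdealSheafData) {V : X.Opens} (hV : IsAffineOpen V) (g : Γ(X, V)) :
    I.subschemeι.app V g = 0 ↔ g ∈ I.ideal ⟨V, hV⟩ := by
  rw [← I.ker_subschemeι_app ⟨V, hV⟩]
  rfl

theorem exists_glue (hcov : ⨆ i, D i = ⊤) (I : X.IdealSheafData) (g : ∀ i, Γ(X, D i)) (h : Compat D hDD I g) :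
    ∃ r : Γ(I.subscheme, ⊤), ∀ i, ores (le_top : I.subschemeι ⁻¹ᵁ D i ≤ ⊤) r = I.subschemeι.app (D i) (g i) := by
  refine ores_glue (X := I.subscheme) (V := ⊤) (fun i => I.subschemeι ⁻¹ᵁ D i) (fun _ => le_top) ?_
    (fun i => I.subschemeι.app (D i) (g i)) fun i j => ?_
  · intro z _
    have hz : I.subschemeι z ∈ ⨆ i, D i := by rw [hcov]; trivial
    obtain ⟨i, hi⟩ := Opens.mem_iSup.1 hz
    exact Opens.mem_iSup.2 ⟨i, hi⟩
  · have h1 := (app_eq_zero_iff I (hDD i j) _).2 (h i j)
    rw [map_sub, app_ores, app_ores, sub_eq_zero] at h1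
    exact h1

end Gen

section Stalk

variable {k : Type u} [Field k] {n : ℕ}

theorem mem_pow_of_equiv {A B : Type*} [CommRing A] [CommRing B] [IsLocalRing A] [IsLocalRing B] (e : A ≃+* B)
    (T : ℕ) (a : A) (h : e a ∈ IsLocalRing.maximalIdeal B ^ T) : a ∈ IsLocalRing.maximalIdeal A ^ T := by
  have h1 : Ideal.map (e.symm : B →+* A) (IsLocalRing.maximalIdeal B) ≤ IsLocalRing.maximalIdeal A := by
    rw [Ideal.map_le_iff_le_comap]
    intro b hb hu
    refine hb ?_
    have := hu.map (e : A →+* B)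
    simpa using this
  have h2 := Ideal.mem_map_of_mem (e.symm : B →+* A) h
  rw [Ideal.map_pow] at h2
  have h3 : (e.symm : B →+* A) (e a) = a := e.symm_apply_apply a
  rw [h3] at h2
  exact Ideal.pow_right_mono h1 T h2

/-- The stalk of projective space. -/
def stalkEquiv (x : CohB1.ProjSpace n k) :
    (CohB1.ProjSpace n k).presheaf.stalk x ≃+* Twist.A0 (CohB1.polyGrading n k) x :=
  Proj.stalkIso' (CohB1.polyGrading n k) x

open Groth.Agent.FormalB.TwistFrac in
theorem val_stalkEquiv {V : (CohB1.ProjSpace n k).Opens} (x : CohB1.ProjSpace n k) (hx : x ∈ V)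
    (c : Γ(CohB1.ProjSpace n k, V)) :
    (stalkEquiv x ((CohB1.ProjSpace n k).presheaf.germ V x hx c)).val =
      oval (𝒜 := CohB1.polyGrading n k) c ⟨x, hx⟩ :=
  congrArg HomogeneousLocalization.val (Proj.stalkIso'_germ (CohB1.polyGrading n k) V x hx c)

open Groth.Agent.FormalB.TwistFrac in
/-- `c` vanishes at `x` iff its value is a non-unit. -/
theorem isUnit_germ_iff {V : (CohB1.ProjSpace n k).Opens} (x : CohB1.ProjSpace n k) (hx : x ∈ V)
    (c : Γ(CohB1.ProjSpace n k, V)) :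
    IsUnit ((CohB1.ProjSpace n k).presheaf.germ V x hx c) ↔
      IsUnit (show Localization (HasseOp.Mx x) from oval (𝒜 := CohB1.polyGrading n k) c ⟨x, hx⟩) := by
  rw [← isUnit_map_iff (stalkEquiv x : _ ≃+* _), ← HomogeneousLocalization.isUnit_iff_isUnit_val]
  exact iff_of_eq (congrArg IsUnit (val_stalkEquiv x hx c))

open Groth.Agent.FormalB.TwistFrac in
theorem germ_mem_pow (x : CohB1.ProjSpace n k) (i : Fin (n + 1)) (hi : x ∈ Ega3B.ProjTwist.D n k i)
    (p : Fin (n + 1) → k)
    (hp : ∀ j, MvPolynomial.X j - MvPolynomial.C (p j) * MvPolynomial.X i ∈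
      (show ProjectiveSpectrum (CohB1.polyGrading n k) from x).asHomogeneousIdeal.toIdeal) (T : ℕ)
    {V : (CohB1.ProjSpace n k).Opens} (hx : x ∈ V) (c : Γ(CohB1.ProjSpace n k, V))
    (h : ∀ α : Fin (n + 1) →₀ ℕ, α.degree < T →
      ¬ IsUnit ((CohB1.ProjSpace n k).presheaf.germ V x hx (FunOp.Δ i V α c))) :
    (CohB1.ProjSpace n k).presheaf.germ V x hx c ∈
      IsLocalRing.maximalIdeal ((CohB1.ProjSpace n k).presheaf.stalk x) ^ T := by
  refine mem_pow_of_equiv (stalkEquiv x) T _ ?_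
  refine LocTay.mem_pow x i hi p hp T _ fun α hα => ?_
  have h1 := h α hα
  rw [isUnit_germ_iff] at h1
  have h2 := FunOp.oval_Δ i α c ⟨x, hx⟩
  rw [val_stalkEquiv]
  intro hu
  refine h1 ?_
  have hxi : IsUnit (algebraMap (MvPolynomial (Fin (n + 1)) k) (Localization (HasseOp.Mx x))
      (MvPolynomial.X i) ^ α.degree) :=
    (IsLocalization.map_units (M := HasseOp.Mx x) (Localization (HasseOp.Mx x)) ⟨MvPolynomial.X i, hi⟩).pow _
  have h3 := hxi.mul hu
  exact h2 ▸ h3

end Stalk



section Const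

variable {k : Type u} [Field k]

theorem exists_const [IsAlgClosed k] {X : Scheme.{u}} (f : X ⟶ Spec (CommRingCat.of k)) [LocallyOfFiniteType f] (x : X)
    (hx : IsClosed ({x} : Set X)) (V : X.Opens) (hxV : x ∈ V) (c : Γ(X, V)) :
    ∃ a : k, ¬ IsUnit (X.presheaf.germ V x hxV (c - ores le_top (κ f a))) := by
  let s : Spec (CommRingCat.of k) ⟶ X := pointOfClosedPoint f x hx
  have hs : s ≫ f = 𝟙 _ := pointOfClosedPoint_comp f x hx
  have hsx : ∀ y, s y = x := pointOfClosedPoint_apply f x hx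
  have htop : s ⁻¹ᵁ V = ⊤ := by
    refine Opens.ext (Set.eq_univ_of_forall fun y => ?_)
    change s y ∈ V
    rw [hsx]
    exact hxV
  let c' : Γ(Spec (CommRingCat.of k), ⊤) := ores (show (⊤ : (Spec (CommRingCat.of k)).Opens) ≤ s ⁻¹ᵁ V from htop.ge)
    (s.app V c)
  let a : k := (Scheme.ΓSpecIso (CommRingCat.of k)).hom.hom c'
  refine ⟨a, fun hu => ?_⟩
  have h1 : x ∈ X.basicOpen (c - ores le_top (κ f a)) := (X.mem_basicOpen _ x hxV).2 hu
  let pt : Spec (CommRingCat.of k) := IsLocalRing.closedPoint k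
  have h2 : pt ∈ s ⁻¹ᵁ X.basicOpen (c - ores le_top (κ f a)) := by
    change s pt ∈ X.basicOpen (c - ores le_top (κ f a))
    rw [hsx]
    exact h1
  rw [Scheme.preimage_basicOpen] at h2
  have h3 : s.app V (c - ores le_top (κ f a)) = 0 := by
    have hinj : Function.Injective (ores (X := Spec (CommRingCat.of k))
        (show (⊤ : (Spec (CommRingCat.of k)).Opens) ≤ s ⁻¹ᵁ V from htop.ge)) := by
      intro u v huv
      have h5 := congrArg (ores (X := Spec (CommRingCat.of k)) (show s ⁻¹ᵁ V ≤ ⊤ from le_top)) huv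
      rwa [ores_ores, ores_ores, Fdesc.LocGen.ores_refl, Fdesc.LocGen.ores_refl] at h5
    apply hinj
    rw [map_zero, map_sub, map_sub, app_ores, ores_ores]
    have h6 : s.appTop (κ f a) = κ (𝟙 _) a := app_κ hs a
    have h7 : s.app ⊤ (κ f a) = κ (𝟙 (Spec (CommRingCat.of k))) a := h6
    rw [h7]
    have h8 : κ (𝟙 (Spec (CommRingCat.of k))) a = c' := by
      change ((Scheme.ΓSpecIso (CommRingCat.of k)).inv ≫ (𝟙 (Spec (CommRingCat.of k)) : _ ⟶ _).appTop).hom
        ((Scheme.ΓSpecIso (CommRingCat.of k)).hom.hom c') = c'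
      simp
    rw [h8]
    change c' - _ = 0
    rw [sub_eq_zero]
    exact (Fdesc.LocGen.ores_refl _).symm
  rw [h3, Scheme.basicOpen_zero] at h2
  exact h2

open Groth.Agent.FormalB.TwistFrac

variable {n : ℕ}

theorem oval_κ {V : (CohB1.ProjSpace n k).Opens} (a : k) (x : V) :
    oval (𝒜 := CohB1.polyGrading n k) (ores le_top (κ (CohB1.ProjSpace n k ↘ Spec (CommRingCat.of k)) a) :
      Γ(CohB1.ProjSpace n k, V)) x =
      algebraMap (MvPolynomial (Fin (n + 1)) k) (Localization (HasseOp.Mx x.1)) (MvPolynomial.C a) :=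
  FormalB.ProjScalar.toGlobal_val n k a (op V) x.1 x.2

theorem exists_coords [IsAlgClosed k] (x : CohB1.ProjSpace n k) (hx : IsClosed ({x} : Set (CohB1.ProjSpace n k))) (i : Fin (n + 1))
    (hi : x ∈ Ega3B.ProjTwist.D n k i) :
    ∃ p : Fin (n + 1) → k, ∀ j, MvPolynomial.X j - MvPolynomial.C (p j) * MvPolynomial.X i ∈
      (show ProjectiveSpectrum (CohB1.polyGrading n k) from x).asHomogeneousIdeal.toIdeal := by
  have : IsProper (CohB1.ProjSpace n k ↘ Spec (CommRingCat.of k)) := Ega3B.ProjProper.isProper_toSpec n k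
  have hX : ∀ j : Fin (n + 1), (MvPolynomial.X j : MvPolynomial (Fin (n + 1)) k) ∈ CohB1.polyGrading n k 1 :=
    fun j => MvPolynomial.isHomogeneous_X _ _
  have key : ∀ j : Fin (n + 1), ∃ a : k, MvPolynomial.X j - MvPolynomial.C a * MvPolynomial.X i ∈
      (show ProjectiveSpectrum (CohB1.polyGrading n k) from x).asHomogeneousIdeal.toIdeal := by
    intro j
    let z : Γ(CohB1.ProjSpace n k, Ega3B.ProjTwist.D n k i) :=
      ofrac (𝒜 := CohB1.polyGrading n k) (Ega3B.ProjTwist.D n k i) (hX j) (hX i) (NV.basicOpen _)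
    obtain ⟨a, ha⟩ := exists_const (CohB1.ProjSpace n k ↘ Spec (CommRingCat.of k)) x hx _ hi z
    refine ⟨a, ?_⟩
    by_contra hcon
    refine ha ?_
    rw [isUnit_germ_iff]
    have h1 : oval (𝒜 := CohB1.polyGrading n k) (z - ores le_top
        (κ (CohB1.ProjSpace n k ↘ Spec (CommRingCat.of k)) a)) ⟨x, hi⟩ =
        (Localization.mk (MvPolynomial.X j) ⟨MvPolynomial.X i, hi⟩ : Localization (HasseOp.Mx x)) -
          algebraMap (MvPolynomial (Fin (n + 1)) k) (Localization (HasseOp.Mx x)) (MvPolynomial.C a) := by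
      refine (FunOp.oval_sub (𝒜 := CohB1.polyGrading n k) _ _ _).trans ?_
      exact congrArg₂ (· - ·) rfl (oval_κ a ⟨x, hi⟩)
    have h2 : algebraMap (MvPolynomial (Fin (n + 1)) k) (Localization (HasseOp.Mx x)) (MvPolynomial.X i) *
        ((Localization.mk (MvPolynomial.X j) ⟨MvPolynomial.X i, hi⟩ : Localization (HasseOp.Mx x)) -
          algebraMap (MvPolynomial (Fin (n + 1)) k) (Localization (HasseOp.Mx x)) (MvPolynomial.C a)) =
        algebraMap (MvPolynomial (Fin (n + 1)) k) (Localization (HasseOp.Mx x))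
          (MvPolynomial.X j - MvPolynomial.C a * MvPolynomial.X i) := by
      rw [mul_sub, map_sub, map_mul, mul_comm (algebraMap _ _ (MvPolynomial.C a))]
      congr 1
      rw [← Localization.mk_one_eq_algebraMap, ← Localization.mk_one_eq_algebraMap, Localization.mk_mul,
        Localization.mk_eq_mk_iff, Localization.r_iff_exists]
      exact ⟨1, by simp⟩
    have h3 : IsUnit (algebraMap (MvPolynomial (Fin (n + 1)) k) (Localization (HasseOp.Mx x))
          (MvPolynomial.X j - MvPolynomial.C a * MvPolynomial.X i)) :=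
      IsLocalization.map_units (M := HasseOp.Mx x) (Localization (HasseOp.Mx x)) ⟨_, hcon⟩
    rw [← h2] at h3
    exact h1 ▸ isUnit_of_mul_isUnit_right h3
  choose p hp using key
  exact ⟨p, hp⟩

end Const

end K685.Thick
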